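import Cfsg.Agent.SM.Defs

/-!
# SM (S3570), family `fO` (`S = Ω_{2m+1}(q)`, `q` odd): the table (helper96, plan in `notes/SM/oodd.md`)
-/

set_option autoImplicit false

namespace Cfsg.Agent.SM.Oo

/-- `G₂(q) < Ω₇(q)` on the singular, plus and minus points; `G₂(3) < Ω₇(3)` on the cosets of `Sp₆(2)` and of `S₉` -/
def RO : Tab := fun t n k =>
  (k = 1 ∧ ∃ p a q : ℕ, p.Prime ∧ p ≠ 2 ∧ 0 < a ∧ q = p ^ a ∧ t = q ^ 6 * ((q ^ 6 - 1) * (q ^ 2 - 1)) ∧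
      (n * (q - 1) = q ^ 6 - 1 ∨ 2 * n = q ^ 3 * (q ^ 3 + 1) ∨ 2 * n = q ^ 3 * (q ^ 3 - 1))) ∨
    (k = 4 ∧ t = 4245696 ∧ (n = 3159 ∨ n = 12636 ∨ n = 25272))

end Cfsg.Agent.SM.Oo
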