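import Cfsg.Agent.SM.Oo.SevA
import Cfsg.Agent.H884.ElKill
import Cfsg.Agent.H900.SU4.Base
import Cfsg.Agent.H905.SLProper
import Cfsg.Agent.H922.OmKill
import Cfsg.Agent.S0245
import Cfsg.Agent.S0246
import Cfsg.Agent.S0292
import Cfsg.Agent.S0814
import Cfsg.Agent.S2119
import Cfsg.Agent.S5814
import Cfsg.Agent.S5815

/-!
# SM (S3570), family `fO`, dimension seven: the list of the factorisations (helper99)

* `list`: the irreducible proper subgroups of `Ω₇(q)` (S5814, S5815);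
* `box7`.
-/

set_option autoImplicit false
set_option linter.unusedSectionVars false

namespace Cfsg.Agent.SM.Oo.Sev

open Cfsg Cfsg.Geo Matrix QuadraticMap Module Submodule
open Cfsg.Agent.H884.El (PP)
open scoped MatrixGroups

/-! ### numbers -/

theorem odd_dvd {n a k : ℕ} (hn : Odd n) (h : n ∣ 2 ^ a * k) : n ∣ k :=
  (Nat.Coprime.pow_right a (Nat.coprime_two_right.2 hn)).dvd_of_dvd_mul_left h

theorem eq_seven {q e r a : ℕ} (hr : PP q e r) (he : 3 ≤ e) (h3 : 3 ∣ e) (h : r ∣ 2 ^ a * 2835) : r = 7 := by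
  have h1 := h3.trans (hr.dvd_sub_one (by omega))
  have h2 : r ∣ 3 ^ 4 * 5 * 7 := odd_dvd (hr.odd (by omega)) h
  rcases (Nat.Prime.dvd_mul hr.prime).1 h2 with h4 | h4
  · rcases (Nat.Prime.dvd_mul hr.prime).1 h4 with h5 | h5
    · have := (Nat.prime_dvd_prime_iff_eq hr.prime Nat.prime_three).1 (hr.prime.dvd_of_dvd_pow h5)
      omega
    · have := (Nat.prime_dvd_prime_iff_eq hr.prime Nat.prime_five).1 h5
      omega
  · exact (Nat.prime_dvd_prime_iff_eq hr.prime (by norm_num)).1 h4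

theorem eq_three {q a k n : ℕ} (hq : Odd q) (h1 : 1 < q) (h : q ^ 3 * k ∣ 2 * n) (hn : n ∣ 2 ^ a * 2835) : q = 3 := by
  have h2 : q ^ 3 ∣ 2835 := odd_dvd (a := a + 1) hq.pow (by
    rw [pow_succ' 2, mul_assoc]
    exact ((Dvd.intro _ rfl).trans h).trans (Nat.mul_dvd_mul_left 2 hn))
  have h3 : q < 15 := lt_of_pow_lt_pow_left₀ 3 (by norm_num) ((Nat.le_of_dvd (by norm_num) h2).trans_lt (by norm_num))
  interval_cases q <;> first | rfl | exact absurd h2 (by norm_num)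

theorem not_minus {q a n : ℕ} (hq : Odd q) (h1 : 1 < q) (h : q ^ 3 * (q ^ 3 - 1) ∣ 2 * n) (hn : n ∣ 2 ^ a * 2835) : False := by
  obtain rfl := eq_three hq h1 h hn
  have h2 : 13 ∣ 2835 := odd_dvd (a := a + 1) (by decide) (by
    rw [pow_succ', mul_assoc]
    exact ((by norm_num : 13 ∣ 3 ^ 3 * (3 ^ 3 - 1)).trans h).trans (Nat.mul_dvd_mul_left 2 hn))
  norm_num at h2

theorem not_nine {q a b k l : ℕ} (hq : Odd q) (h1 : 1 < q) (h : q ^ 9 ∣ 2 * (k * l)) (hk : k ∣ 2 ^ a * 2835)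
    (hl : l ∣ 2 ^ b * 2835) : False := by
  have h2 : q ^ 9 ∣ 2835 * 2835 := odd_dvd (a := a + b + 1) hq.pow (by
    rw [show 2 ^ (a + b + 1) * (2835 * 2835) = 2 * ((2 ^ a * 2835) * (2 ^ b * 2835)) by ring]
    exact h.trans (Nat.mul_dvd_mul_left 2 (Nat.mul_dvd_mul hk hl)))
  have h3 : q < 6 := lt_of_pow_lt_pow_left₀ 9 (by norm_num) ((Nat.le_of_dvd (by norm_num) h2).trans_lt (by norm_num))
  interval_cases q <;> exact absurd h2 (by norm_num)

theorem card_aut_alt : Nat.card (MulAut (alternatingGroup (Fin 9))) = 2 ^ 7 * 2835 := by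
  rw [← Nat.card_congr (Equiv.ofBijective _ (S2119.result 9 (by norm_num) (by norm_num))), Nat.card_perm,
    Nat.card_eq_fintype_card, Fintype.card_fin]
  rfl

theorem card_aut_psp : Nat.card (MulAut (PSp 3 (ZMod 2))) = 2 ^ 9 * 2835 := by
  have h1 := S0245.result (F := ZMod 2) (q := 2) (ZMod.card 2) 3
  have h2 := S0246.result (F := ZMod 2) (q := 2) (ZMod.card 2) 3 (by norm_num)
  have h3 := Subgroup.card_eq_card_quotient_mul_card_subgroup (Subgroup.center (Matrix.symplecticGroup (Fin 3) (ZMod 2)))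
  rw [h1, h2] at h3
  simp only [Finset.prod_range_succ, Finset.prod_range_zero] at h3
  norm_num at h3
  have h4 : Nat.card (PSp 3 (ZMod 2)) = 2 ^ 9 * 2835 := by
    show Nat.card (Matrix.symplecticGroup (Fin 3) (ZMod 2) ⧸ Subgroup.center _) = _
    omega
  rw [S0814.result (F := ZMod 2) 2 1 le_rfl (by rw [ZMod.card, pow_one]) 3 (by norm_num) (by norm_num), h4]
  norm_num

variable {F : Type} [Field F] [Fintype F] {X Y : Subgroup (GL (I 3) F)}

theorem card_Om (hodd : Odd (Fintype.card F)) : 2 * Nat.card (Om 3 F) =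
    Fintype.card F ^ 9 * ((Fintype.card F ^ 2 - 1) * (Fintype.card F ^ 4 - 1) * (Fintype.card F ^ 6 - 1)) := by
  rw [H922.OmGL.card_omegaGL_odd (two_ne hodd) le_rfl, S0292.result rfl hodd 3 le_rfl]
  simp only [Finset.prod_range_succ, Finset.prod_range_zero, one_mul]
  rfl

/-! ### the list -/

/-- the monomial groups -/
theorem card_two {D : Fin 7 → Submodule F (W 3 F)} (hD : IsOrthogonalMDecomposition (quadFormOdd 3 F) 1 D)
    (hX : X ≤ decompositionStabilizer D) (hI : X ≤ Is 3 F) : ∃ a, Nat.card X ∣ 2 ^ a * 315 := by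
  have h0 := hD.decomp.decomp
  have hinj : Function.Injective D := h0.indep.injective fun i e => by
    have := h0.finrank_eq i
    rw [e, finrank_bot] at this
    omega
  choose σ hσ using fun x : X => hX x.2
  let φ : X →* Equiv.Perm (Fin 7) := MonoidHom.mk' σ fun x y => Equiv.ext fun i => hinj (by
    rw [← hσ, Equiv.Perm.mul_apply, ← hσ, ← hσ, Subgroup.coe_mul, Units.val_mul, Matrix.toLin'_mul, Submodule.map_comp])
  have hk : IsPGroup 2 φ.ker := by
    rintro ⟨x, hx⟩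
    refine ⟨1, Subtype.ext (Subtype.ext (ap_ext fun v => ?_))⟩
    have h1 : ∀ i, D i ≤ fx (x.1 * x.1) := by
      intro i u hu
      by_cases hu0 : u = 0
      · rw [hu0]; exact (fx _).zero_mem
      have h3 : ap x.1 u ∈ D i := by
        have h4 := hσ x i
        rw [show σ x = 1 from hx, Equiv.Perm.one_apply] at h4
        rw [← h4]
        exact ⟨u, hu, Matrix.toLin'_apply _ _⟩
      have h4 : span F {u} = D i := Submodule.eq_of_le_of_finrank_eq ((span_singleton_le_iff_mem _ _).2 hu)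
        (by rw [h0.finrank_eq, finrank_span_singleton hu0])
      obtain ⟨c, hc⟩ := mem_span_singleton.1 (h4 ▸ h3)
      have h5 : qf u ≠ 0 := fun e => by
        obtain ⟨y, hy, h6⟩ := (hD.decomp.nondegenerate i u hu hu0).2
        obtain ⟨d, rfl⟩ := mem_span_singleton.1 (h4 ▸ hy)
        exact h6 ((bf_smul d u u).trans (by rw [bf_self, e, mul_zero, mul_zero]))
      rw [mem_fx, ap_mul, ← hc, ap_smul, ← hc, smul_smul]
      rcases sgn_of_fix (hI x.2) h5 hc.symm with rfl | rfl <;> simp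
    have h3 : v ∈ fx (x.1 * x.1) := (iSup_le h1 : iSup D ≤ _) (h0.iSup_eq_top ▸ trivial)
    rw [pow_one, pow_two]
    exact (mem_fx.1 h3).trans (ap_one v).symm
  obtain ⟨a, ha⟩ := IsPGroup.iff_card.1 hk
  refine ⟨a + 4, ?_⟩
  rw [← φ.ker.card_mul_index, ha, Subgroup.index_ker, pow_add, mul_assoc]
  refine Nat.mul_dvd_mul_left _ ((Subgroup.card_subgroup_dvd_card _).trans ?_)
  rw [Nat.card_perm, Nat.card_eq_fintype_card, Fintype.card_fin]
  rfl

theorem card_res {K P : Subgroup (GL (I 3) F)} (hK : K ≤ Om 3 F) (h : IsResidualCore K P) {T : Type} [Group T]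
    (e : (P ⧸ (scalars (I 3) F).subgroupOf P) ≃* T) : Nat.card K ∣ Nat.card (MulAut T) := by
  rw [← Nat.card_congr (MulAut.congr e).toEquiv]
  exact H900.SU4.card_dvd_of_core h K.subtype (fun b => b.2) fun b hb => Subtype.ext (scalars_inf (hK b.2) hb)

theorem not_stab {K : Subgroup (GL (I 3) F)} (hi : Irr K) {U : Submodule F (W 3 F)} (h0 : U ≠ ⊥) (h1 : U ≠ ⊤) :
    K ≠ subspaceStabilizer U ⊓ Om 3 F := by
  rintro rfl
  exact (hi U fun x hx u hu => (hx.1 u).1 hu).elim h0 h1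

/-- **the irreducible subgroups** -/
theorem list (hR : BoxRep) (hG : BoxGeo) (hodd : Odd (Fintype.card F)) (hX : X < Om 3 F) (hi : Irr X) :
    G2c X ∨ (¬ (Fintype.card F).Prime ∧ ¬ TrM X ∧
      ∀ p a r : ℕ, p.Prime → Fintype.card F = p ^ a → PP p (a * 6) r → ¬ r ∣ Nat.card X) ∨
    ((Fintype.card F).Prime ∧ (∃ a, Nat.card X ∣ 2 ^ a * 2835) ∧ (27 ∣ 2 * Nat.card X → Sm X)) := by
  obtain ⟨K, hK, hXK⟩ := H905.exists_isMaximalIn_of_lt hX
  have hiK := hi.mono hXK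
  have hc := Subgroup.card_dvd_of_le hXK
  rcases S5814.result hodd K hK with ⟨U, h0, h1, e⟩ | ⟨U, h0, h1, -, -, e⟩ | ⟨hp, D, hD, e⟩ | ⟨F₀, s, P, hs, hF, hP, e⟩ | hS
  · exact absurd e (not_stab hiK h0 (Ts.ne_top h1))
  · refine absurd e (not_stab hiK h0 ?_)
    rintro rfl
    rw [finrank_top, finrank_W] at h1
    exact absurd h1 (by decide)
  · obtain ⟨a, ha⟩ := card_two hD (hXK.trans (e.le.trans inf_le_left)) (hX.le.trans Om_le)
    refine Or.inr (Or.inr ⟨hp, ⟨a, ha.trans (Nat.mul_dvd_mul_left _ (by norm_num))⟩, fun h => ?_⟩)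
    have h2 : 27 ∣ 315 := odd_dvd (a := a + 1) (by decide) (by
      rw [pow_succ', mul_assoc]
      exact h.trans (Nat.mul_dvd_mul_left 2 ha))
    norm_num at h2
  · have hle : X ≤ subfieldSubgroup F₀ P := hXK.trans (e.le.trans inf_le_left)
    refine Or.inr (Or.inl ⟨fun hp => ?_, fun ht => ?_, fun p a r hp hq hr hd => ?_⟩)
    · rw [hF] at hp
      exact hs.ne_one hp.eq_one_of_pow
    · exact hG F 3 hodd le_rfl X _ (Or.inr (Or.inr (Or.inr (Or.inr (Or.inr (Or.inr (Or.inl ⟨F₀, s, P, hs, hF, hP, rfl⟩)))))))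
        (le_inf hle (hX.le.trans Om_le)) ht hi
    · exact H884.El.kill_subfield hle hs (by rw [Nat.card_eq_fintype_card, hF]) hp (by rw [Nat.card_eq_fintype_card, hq]) hr
        (by rw [card_I]; norm_num) (by norm_num) hd
  · obtain ⟨P, hP, ⟨⟨e⟩, h3⟩ | ⟨⟨e⟩, hp⟩ | h⟩ := S5815.result hodd K hK hS
    · exact Or.inr (Or.inr ⟨h3 ▸ Nat.prime_three, ⟨7, card_aut_alt ▸ hc.trans (card_res hK.1.le hP e)⟩,
        fun _ => ⟨K, P, hK, hXK, hP, Or.inl ⟨e⟩⟩⟩)
    · exact Or.inr (Or.inr ⟨hp, ⟨9, card_aut_psp ▸ hc.trans (card_res hK.1.le hP e)⟩,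
        fun _ => ⟨K, P, hK, hXK, hP, Or.inr ⟨e⟩⟩⟩)
    · obtain ⟨θ, h1, h2, h3⟩ := hR F hodd K P hK.1.le hP h
      exact Or.inl ⟨θ, h1, h2, fun y hy => h3 y (hXK hy)⟩

/-! ### the factorisations -/

theorem dvd_or (hodd : Odd (Fintype.card F)) (hd : Nat.card (Om 3 F) ∣ Nat.card X * Nat.card Y) {e r : ℕ}
    (hr : PP (Fintype.card F) e r) (he : 2 ≤ e) (h6 : e ∣ 6) : r ∣ Nat.card X ∨ r ∣ Nat.card Y := by
  have h1 : r ∣ 2 ^ 1 * Nat.card (Om 3 F) := by
    rw [pow_one, card_Om hodd]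
    exact (((hr.dvd_iff Fintype.card_pos 6).2 h6).mul_left _).mul_left _
  exact (Nat.Prime.dvd_mul hr.prime).1 ((odd_dvd (hr.odd he) h1).trans hd)

theorem core (hR : BoxRep) (hD : BoxRed) (hG : BoxGeo) (hodd : Odd (Fintype.card F)) (h : Pd X Y)
    (hd : Nat.card (Om 3 F) ∣ Nat.card X * Nat.card Y) {p a r : ℕ} (hp : p.Prime) (ha : 1 ≤ a)
    (hq : Fintype.card F = p ^ a) (hr : PP p (a * 6) r) (hrX : r ∣ Nat.card X) {N : Subgroup (Equiv.Perm (W 3 F))}
    (hN : Nz N Y) : (G2c X ∧ Irr X) ∨ (G2c Y ∧ Irr Y) ∨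
      (∃ U : Submodule F (W 3 F), Ts U ∧ finrank F U = 3 ∧ FixS N U) ∨
      (Fintype.card F = 3 ∧ ∃ w : W 3 F, qf w = 1 ∧ FixP N w ∧ Sm X) := by
  have h1q : 1 < Fintype.card F := Fintype.one_lt_card
  have hgood := good (m := 3) (two_ne hodd) (by norm_num)
  have hr6 : PP (Fintype.card F) 6 r := hq ▸ hr.of_pow ha
  have hXI := h.left.le.trans Om_le
  have hYI := h.right.le.trans Om_le
  have three : ∀ U : Submodule F (W 3 F), Ts U → finrank F U = 3 → Inv Y U →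
      (∀ U' : Submodule F (W 3 F), Ts U' → U' ≠ ⊥ → Inv Y U' → U' = U) → FixS N U := fun U h1 h3 h4 h5 =>
    hN.fixS_ts h4 h1 (fun e => by rw [e, finrank_bot] at h3; omega) h5
  by_cases hiX : Irr X
  swap
  · obtain ⟨v, hv⟩ := pt_of_six hodd hr6 hXI hrX hiX
    have ht := hv.trM hgood h
    by_cases hiY : Irr Y
    · rcases list hR hG hodd h.right hiY with k | k | ⟨-, ⟨b, hb⟩, -⟩
      · exact Or.inr (Or.inl ⟨k, hiY⟩)
      · exact absurd ht k.2.1
      · exact (not_minus hodd h1q (ht.dvd hodd (by norm_num) hYI) hb).elim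
    · obtain ⟨U, h1, h3, h4, h5⟩ := hD F 3 hodd le_rfl Y hYI ht hiY
      exact Or.inr (Or.inr (Or.inl ⟨U, h1, h3, three U h1 h3 h4 h5⟩))
  rcases list hR hG hodd h.left hiX with k | k | ⟨hpr, ⟨b, hb⟩, hS⟩
  · exact Or.inl ⟨k, hiX⟩
  · exact absurd hrX (k.2.2 p a r hp hq hr)
  obtain ⟨s, hs1, hs2⟩ := Lib.Zsigmondy.exists_prime_orderOf (a := Fintype.card F) (n := 3) h1q (by norm_num)
    (fun h => by omega) (fun h => by omega)
  have hs : PP (Fintype.card F) 3 s := ⟨hs1, hs2⟩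
  have hsY : s ∣ Nat.card Y := (dvd_or hodd hd hs (by norm_num) (by norm_num)).resolve_left fun k =>
    hr6.ne_of_ne hs (by norm_num) ((eq_seven hr6 (by norm_num) (by norm_num) (hrX.trans hb)).trans
      (eq_seven hs le_rfl dvd_rfl (k.trans hb)).symm)
  by_cases hiY : Irr Y
  · rcases list hR hG hodd h.right hiY with k | k | ⟨-, ⟨c, hc⟩, -⟩
    · exact Or.inr (Or.inl ⟨k, hiY⟩)
    · exact absurd hpr k.1
    · refine (not_nine hodd h1q (dvd_trans ?_ (Nat.mul_dvd_mul_left 2 hd)) hb hc).elim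
      rw [card_Om hodd]
      exact Dvd.intro _ rfl
  rcases red_three hodd hs hYI hsY hiY with ⟨w, hw, h1, h3⟩ | ⟨U, h1, h3, h4, h5⟩
  · have h4 := h.symm.dvd hgood hw (fix_of_inv h1)
    by_cases hsq : IsSquare (qf w)
    swap
    · rw [(boxCnt F 3 hodd (qf w)).2.2 hsq] at h4
      exact (not_minus hodd h1q h4 hb).elim
    rw [(boxCnt F 3 hodd (qf w)).2.1 hw hsq] at h4
    have h5 := eq_three hodd h1q h4 hb
    refine Or.inr (Or.inr (Or.inr ⟨h5, w, ?_, FixS.fixP (hN.fixS h1 (P := fun U => finrank F U = 1) (fun g hg => ?_)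
      fun U h6 h7 => (h3 U h6 h7).le), hS (dvd_trans ?_ h4)⟩))
    · obtain ⟨c, hc⟩ := hsq
      have h6 := FiniteField.pow_card_sub_one_eq_one c (fun e => hw (by rw [hc, e, mul_zero]))
      rw [h5] at h6
      rw [hc, ← h6, ← pow_two]
    · rw [finrank_simg, finrank_span_singleton (ne_of_qf hw)]
    · rw [h5]
      exact Dvd.intro _ rfl
  · exact Or.inr (Or.inr (Or.inl ⟨U, h1, h3, three U h1 h3 h4 h5⟩))

/-- **dimension seven** -/
theorem box7 (hR : BoxRep) (hD : BoxRed) (hG : BoxGeo) : Box7 := by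
  intro F _ _ hodd M H T B h
  have hd : Nat.card (Om 3 F) ∣ Nat.card (pre T) * Nat.card (pre B) := by
    have h1 := h.fac.card_eq
    rw [← map_pre, card_map_lin, card_map_lin, ← h.map_pre, card_map_lin, h.map_pre] at h1
    exact Dvd.intro _ h1
  obtain ⟨p, hc⟩ := CharP.exists F
  obtain ⟨a, hp, hq⟩ := FiniteField.card F p
  have ha : 1 ≤ (a : ℕ) := a.pos
  have hp2 : p ≠ 2 := by
    rintro rfl
    rw [hq] at hodd
    exact absurd (Nat.odd_pow_iff (by omega) |>.1 hodd) (by decide)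
  obtain ⟨r, hr1, hr2⟩ := Lib.Zsigmondy.exists_prime_orderOf (a := p) (n := a * 6) hp.two_le (by omega)
    (fun h => by omega) fun h => hp2 h.1
  have hr : PP p (a * 6) r := ⟨hr1, hr2⟩
  rcases dvd_or hodd hd (hq ▸ hr.of_pow ha) (by norm_num) dvd_rfl with k | k
  · rcases core hR hD hG hodd h.pd hd hp ha hq hr k h.nzB with e | e | ⟨U, h1, h2, h3⟩ | ⟨h3, w, h1, h2⟩
    · exact Or.inl e
    · exact Or.inr (Or.inl e)
    · exact Or.inr (Or.inr (Or.inl ⟨U, h1, h2, Or.inr h3⟩))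
    · exact Or.inr (Or.inr (Or.inr ⟨h3, w, h1, Or.inl h2⟩))
  · rcases core hR hD hG hodd h.pd.symm (mul_comm (Nat.card (pre T)) _ ▸ hd) hp ha hq hr k h.nzH with
      e | e | ⟨U, h1, h2, h3⟩ | ⟨h3, w, h1, h2⟩
    · exact Or.inr (Or.inl e)
    · exact Or.inl e
    · exact Or.inr (Or.inr (Or.inl ⟨U, h1, h2, Or.inl h3⟩))
    · exact Or.inr (Or.inr (Or.inr ⟨h3, w, h1, Or.inr h2⟩))

end Cfsg.Agent.SM.Oo.Sev
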