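import Cfsg.Agent.SM.Oo.Cnt
import Cfsg.Agent.SM.Ex78.Base
import Cfsg.Agent.H449.Reg.Nineteen
import Cfsg.Agent.H146.KW.CycGL

/-!
# SM (S3570), family `fO`, step A: one factor fixes a minus point (helper89)

* `elt`, `side` : large primitive primes have cyclic Sylow subgroups, which lie in one factor
* `fixed`, `pt_of_red` : reducible groups
* `list`, `nine`, `sm` : the overgroups
* `boxA_of`
-/

set_option autoImplicit false
set_option linter.unusedSectionVars false
set_option maxHeartbeats 200000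

namespace Cfsg.Agent.SM.Oo.A

open Cfsg Cfsg.Geo Matrix QuadraticMap Module
open Cfsg.Agent.LieClassical.OrthCore Cfsg.Agent.LieClassical.OrthTrans
open Cfsg.Agent.LieClassical.OrthFinite (glEquiv glEquiv_apply)
open Cfsg.Agent.LieClassical.OrthForms (oddForm coe_oddForm nondeg_oddForm)
open Cfsg.Agent.H884.El (PP Iso lin_one lin_ne_one lin_iso inv_of_mem one_lt_q)
open Cfsg.Agent.H955 (perp res IsPlus perp_perp perp_anti perp_bot finrank_perp)
open Cfsg.Agent.H954.TSing (perp_cm perp_fx)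
open Cfsg.Agent.H951 (fx cm)
open Cfsg.Agent.H278.Cov (Red)
open Cfsg.Agent.H449.Reg (elt_data stab_perp og_iso num_of LP lp_of NN S5836Stmt Small37)
open scoped MatrixGroups

variable {m : ℕ} {F : Type} [Field F] [Fintype F] {X Y : Subgroup (GL (I m) F)} {p f k r a : ℕ}

theorem cyc (hr : PP (Nat.card F) k r) (hk : 1 ≤ k) (h1 : k ≤ 2 * m + 1) (h2 : 2 * m + 1 < 2 * k) (Z : Subgroup (GL (I m) F))
    (P : Subgroup Z) (hP : IsPGroup r P) : IsCyclic P := by
  have := Fact.mk hr.prime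
  rw [Nat.card_eq_fintype_card] at hr
  exact H146.KW.isCyclic_of_GL (hr.not_dvd hk) hk (hr.dvd_iff Fintype.card_pos) (by rwa [card_I]) (by rwa [card_I]) hP
    (Z.subtype.comp P.subtype) (Z.subtype_injective.comp P.subtype_injective)

theorem elt (hr : PP (Nat.card F) k r) (hk : 1 ≤ k) (h1 : k ≤ 2 * m + 1) (h2 : 2 * m + 1 < 2 * k)
    (h : r ^ a ∣ Nat.card X) : ∃ g ∈ X, orderOf g = r ^ a := by
  have := Fact.mk hr.prime
  obtain ⟨P, hP⟩ := Sylow.exists_subgroup_card_pow_prime r h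
  obtain ⟨g, hg⟩ := (cyc hr hk h1 h2 X P (IsPGroup.of_card hP)).exists_ofOrder_eq_natCard
  exact ⟨_, g.1.2, by rw [Subgroup.orderOf_coe, Subgroup.orderOf_coe, hg, hP]⟩

theorem side (h : Pd X Y) (hr : PP (Nat.card F) k r) (hk : 1 ≤ k) (h1 : k ≤ 2 * m + 1) (h2 : 2 * m + 1 < 2 * k)
    (hd : r ^ a ∣ Nat.card (Om m F)) : r ^ a ∣ Nat.card X ∨ r ^ a ∣ Nat.card Y := by
  have h3 : Ex78.Pd (X.subgroupOf (Om m F)) (Y.subgroupOf (Om m F)) := by
    intro g
    obtain ⟨x, hx, y, hy, e⟩ := h.mul g g.2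
    exact ⟨⟨x, h.left.le hx⟩, hx, ⟨y, h.right.le hy⟩, hy, Subtype.ext e⟩
  have key : ∀ Z : Subgroup (GL (I m) F), Z ≤ Om m F → ¬ r ∣ (Z.subgroupOf (Om m F)).index → r ^ a ∣ Nat.card Z := by
    intro Z hZ h4
    rw [← (Z.subgroupOf (Om m F)).card_mul_index, Nat.card_congr (Subgroup.subgroupOfEquivOfLe hZ).toEquiv] at hd
    exact (Nat.Coprime.pow_left a (hr.prime.coprime_iff_not_dvd.2 h4)).dvd_of_dvd_mul_right hd
  exact (h3.cyc hr.prime (cyc hr hk h1 h2 _)).imp (key X h.left.le) (key Y h.right.le)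

theorem dvd_Om (hodd : Odd (Fintype.card F)) (hm : 3 ≤ m) {i : ℕ} (hi : 1 ≤ i) (him : i ≤ m) (hr : Odd r)
    (hd : r ^ a ∣ Fintype.card F ^ (2 * i) - 1) : r ^ a ∣ Nat.card (Om m F) := by
  have h3 := S0292.result (F := F) rfl hodd m hm
  have h4 : Fintype.card F ^ (2 * i) - 1 ∣ 2 * Nat.card (POmega F (quadFormOdd m F)) := by
    rw [h3]
    apply Dvd.dvd.mul_left
    have h5 := Finset.dvd_prod_of_mem (fun j => Fintype.card F ^ (2 * (j + 1)) - 1) (Finset.mem_range.2 (show i - 1 < m by omega))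
    rwa [Nat.sub_add_cancel hi] at h5
  have h5 := (Nat.Coprime.pow_left a (Nat.coprime_two_right.2 hr)).dvd_of_dvd_mul_left (hd.trans h4)
  rw [Om, omegaGL, Subgroup.card_map_of_injective (Subgroup.subtype_injective _)]
  exact h5.trans (Subgroup.card_quotient_dvd_card _)

theorem le_iso (hX : X ≤ Om m F) : X ≤ isometryGroup F ⇑(oddForm m F) := Is_eq (m := m) (F := F) ▸ hX.trans Om_le

theorem lin_pow {x : GL (I m) F} (hx : orderOf x = r) : (H884.El.lin x) ^ r = 1 := by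
  rw [← H251.GeoCard.toLin_pow, ← hx, pow_orderOf_eq_one]; exact lin_one

theorem ne_one {x : GL (I m) F} (hr : r.Prime) (hx : orderOf x = r) : x ≠ 1 := by
  rintro rfl
  rw [orderOf_one] at hx
  exact hr.one_lt.ne hx

/-- a reducible group fixes a subspace of the fixed space -/
theorem fixed (h2 : (2 : F) ≠ 0) (hX : X ≤ Om m F) (hr : PP (Nat.card F) k r) (hk : 2 ≤ k) (hn : 2 * m + 1 < 2 * k)
    {x : GL (I m) F} (hx : x ∈ X) (ho : orderOf x = r) (hred : Red X) :
    ∃ S : Submodule F (W m F), S ≠ ⊥ ∧ S ≤ fx (H884.El.lin x) ∧ X ≤ subspaceStabilizer S := by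
  have hQ := nondeg_oddForm m F h2
  obtain ⟨-, -, hor, -⟩ := elt_data hr hk (by rwa [card_I]) (lin_pow ho) (lin_ne_one (ne_one hr.prime ho))
  have hiso : Iso (oddForm m F) (H884.El.lin x) r := Iso.mk' hr hk (lin_pow ho) (lin_iso (le_iso hX) hx)
  obtain ⟨U, h0, h1, hU⟩ := hred
  rcases hor U (inv_of_mem (hU hx)) with h | h
  · exact ⟨U, h0, h, hU⟩
  · refine ⟨perp (oddForm m F) U, fun h3 => h1 ?_, ?_, stab_perp (le_iso hX) hU⟩
    · rw [← perp_perp hQ U, h3, perp_bot]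
    · rw [← perp_cm hQ hiso.iso hiso.ne0 hiso.pow]
      exact perp_anti h

/-- the perp of a plus point -/
theorem isPlus_perp (h2 : (2 : F) ≠ 0) (hm : 2 ≤ m) {v : W m F} (hv : qf v ≠ 0) (hs : IsSquare (qf v)) :
    IsPlus (res (oddForm m F) (perp (oddForm m F) (F ∙ v))) := by
  obtain ⟨c, hc⟩ := hs
  let e : W m F := Sum.elim (fun _ => c) 0
  have he : qf e = qf v := by rw [hc]; simp [e, qf, quadFormOdd, _root_.sq]
  obtain ⟨g, hg, hge⟩ := trans_norm (good h2 hm) (ne_of_qf (he ▸ hv)) (ne_of_qf hv) he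
  let j : (Fin m → F) →ₗ[F] W m F :=
    { toFun := fun b => Sum.elim 0 (Sum.elim b 0)
      map_add' := fun b b' => by ext (i | i | i) <;> simp
      map_smul' := fun t b => by ext (i | i | i) <;> simp }
  have hj : ∀ b, qf (j b) = 0 := fun b => by simp [j, qf, quadFormOdd]
  have hje : ∀ b, bf e (j b) = 0 := fun b => by
    have h3 := qf_add e (j b)
    have h4 : qf (e + j b) = qf e := by simp [e, j, qf, quadFormOdd]
    rw [h4, hj, add_zero] at h3
    exact (add_eq_left.1 h3.symm)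
  have hmem : ∀ b, ((glEquiv (I m) F g : W m F →ₗ[F] W m F).comp j) b ∈ perp (oddForm m F) (F ∙ v) := by
    intro b w hw
    obtain ⟨t, rfl⟩ := Submodule.mem_span_singleton.1 hw
    show polar (oddForm m F) (t • v) (glEquiv (I m) F g (j b)) = 0
    rw [← bf_eq, ← ap_eq, bf_smul', ← hge, bf_ap (Om_le hg), hje, mul_zero]
  let L := LinearMap.codRestrict _ _ hmem
  have hL : Function.Injective L := by
    intro b b' hb
    have h3 : glEquiv (I m) F g (j b) = glEquiv (I m) F g (j b') := congrArg Subtype.val hb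
    exact funext fun i => congrFun ((glEquiv (I m) F g).injective h3) (Sum.inr (Sum.inl i))
  refine ⟨LinearMap.range L, ?_, ?_⟩
  · rintro _ ⟨b, rfl⟩
    show oddForm m F (glEquiv (I m) F g (j b)) = 0
    rw [← qf_eq, ← ap_eq, mem_Is.1 (Om_le hg), hj]
  · rw [LinearMap.finrank_range_of_inj hL, finrank_fin_fun, finrank_perp (nondeg_oddForm m F h2), finrank_W,
      finrank_span_singleton (ne_of_qf hv), Nat.add_sub_cancel]

/-- **a reducible group of order divisible by a primitive prime of degree `2 m` fixes a minus point** -/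
theorem pt_of_red (h2 : (2 : F) ≠ 0) (hm : 2 ≤ m) (hX : X ≤ Om m F) (hr : PP (Nat.card F) (2 * m) r) (hd : r ∣ Nat.card X)
    (hred : Red X) : ∃ v, Pt X v := by
  have hQ := nondeg_oddForm m F h2
  obtain ⟨x, hx, ho⟩ := elt (X := X) (a := 1) hr (by omega) (by omega) (by omega) (by rwa [pow_one])
  rw [pow_one] at ho
  have hx1 := lin_ne_one (ne_one hr.prime ho)
  have hiso : Iso (oddForm m F) (H884.El.lin x) r := Iso.mk' hr (by omega) (lin_pow ho) (lin_iso (le_iso hX) hx)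
  obtain ⟨hcm, hmin⟩ := hiso.even_case hQ hx1 hr (even_two_mul m) (by rw [finrank_W]; omega)
  obtain ⟨-, -, hor, -⟩ := elt_data hr (by omega) (by rw [card_I]; omega) (lin_pow ho) hx1
  have hfx : finrank F (fx (H884.El.lin x)) = 1 := by
    have hadd := hiso.finrank_add
    rw [finrank_W, hcm] at hadd
    exact Nat.add_right_cancel (hadd.trans (add_comm _ _))
  obtain ⟨S, hS0, hS, hSX⟩ := fixed h2 hX hr (by omega) (by omega) hx ho hred
  obtain ⟨v, hvS, hv0⟩ := Submodule.exists_mem_ne_zero_of_ne_bot hS0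
  have h1 : F ∙ v ≤ S := (Submodule.span_singleton_le_iff_mem v S).2 hvS
  have h3 : F ∙ v = fx (H884.El.lin x) :=
    Submodule.eq_of_le_of_finrank_eq (h1.trans hS) ((finrank_span_singleton hv0).trans hfx.symm)
  have h4 : S = F ∙ v := le_antisymm (h3 ▸ hS) h1
  have h5 : perp (oddForm m F) (F ∙ v) = cm (H884.El.lin x) := by rw [h3, perp_fx hQ hiso.iso hiso.ne0 hiso.pow]
  have hmem : ∀ w, w ∈ cm (H884.El.lin x) ↔ bf v w = 0 := fun w => by
    rw [← h5]
    refine ⟨fun h => bf_eq v w ▸ h v (Submodule.mem_span_singleton_self v), fun h z hz => ?_⟩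
    obtain ⟨t, rfl⟩ := Submodule.mem_span_singleton.1 hz
    rw [← bf_eq, bf_smul', h, mul_zero]
  have hv : qf v ≠ 0 := by
    intro h0
    have h6 : v ∈ fx (H884.El.lin x) ⊓ cm (H884.El.lin x) :=
      ⟨h3 ▸ Submodule.mem_span_singleton_self v, (hmem v).2 (by rw [bf_self, h0, mul_zero])⟩
    rw [(H951.isCompl_fx_cm hiso.ne0 hiso.pow).inf_eq_bot] at h6
    exact hv0 h6
  refine ⟨v, fun hs => hmin (h5 ▸ isPlus_perp h2 hm hv hs), fun y hy => ?_, fun U hU => ?_⟩
  · have h6 := H884.OmegaGL.mem_subspaceStabilizer.1 (hSX hy) v hvS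
    rw [h4, ← ap_eq] at h6
    obtain ⟨c, hc⟩ := Submodule.mem_span_singleton.1 h6
    rcases sgn_of_fix (Om_le (hX hy)) hv hc.symm with rfl | rfl
    · exact Or.inl (by rw [← hc, one_smul])
    · exact Or.inr (by rw [← hc, neg_one_smul])
  · rcases hor U (fun w hw => hU x hx w hw) with h6 | h6
    · by_cases h0 : U = ⊥
      · exact Or.inl h0
      · refine Or.inr (Or.inr (Or.inl ?_))
        rw [h3]
        exact Submodule.eq_of_le_of_finrank_le h6 (hfx.le.trans (Nat.pos_of_ne_zero (Submodule.finrank_eq_zero.not.2 h0)))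
    · by_cases h0 : U = ⊤
      · exact Or.inr (Or.inl h0)
      · refine Or.inr (Or.inr (Or.inr fun w => ?_))
        have h7 := (Submodule.finrank_lt h0).trans_eq finrank_W
        rw [← Submodule.eq_of_le_of_finrank_le h6 ((Nat.lt_succ_iff.1 h7).trans hcm.ge), hmem]

/-- dimension at least eleven -/
theorem list (hP : H659.CovCore.S5948Stmt.{0}) (h2 : (2 : F) ≠ 0) (hm : 5 ≤ m) (hX : X < Om m F) (hp : p.Prime) (hf : 1 ≤ f)
    (hF : Fintype.card F = p ^ f) (hr : PP p (f * k) r) (hk : k ≤ 2 * m) (hmk : 2 * m + 1 < 2 * k) (hb : 2 * k + 1 < r ^ a)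
    (hd : r ^ a ∣ (p ^ f) ^ k - 1) (hc : Nat.Coprime (2 * m + 1) k) (h : r ^ a ∣ Nat.card X) : Red X := by
  obtain ⟨g, hg, ho⟩ := elt (k := k) (by rw [Nat.card_eq_fintype_card, hF]; exact hr.of_pow hf) (by omega) (by omega) hmk h
  have hnum := num_of hp hf hr (n := 2 * m + 1) (by omega) (by omega) hmk hb hd
  rcases og_iso hP (k := k) (H884.OddForm.isNondegenerate_of_nondeg _ (nondeg_oddForm m F h2)) (H := X)
    (fun x hx => LieClassical.OrthFinite.mem_isometryGroup_iff.1 (le_iso hX.le hx)) hg (by rw [card_I, ho, hF]; exact hnum)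
    with h1 | ⟨s, K, hs, h1, -⟩ | h1
  · exact h1
  · rw [card_I, hc.gcd_eq_one] at h1
    exact absurd (Nat.dvd_one.1 h1) hs.one_lt.ne'
  · exact absurd (Om_eq (m := m) (F := F) ▸ h1) hX.not_ge

open Cfsg.Agent.H449.Reg (aut_l2 aut_alt decomp_pow) in
/-- dimension nine -/
theorem nine (hR : S5836Stmt) (hodd : Odd (Fintype.card F)) (hpf : Fintype.card F = p ^ f) (hn : NN p f 8 r a)
    {X : Subgroup (GL (I 4) F)} (hX : X < Om 4 F) (h : r ^ a ∣ Nat.card X) : Red X := by
  have h2 := two_ne hodd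
  have hpf' : Nat.card F = p ^ f := by rw [Nat.card_eq_fintype_card]; exact hpf
  have hppq : PP (Nat.card F) 8 r := by rw [hpf']; exact hn.ppq
  obtain ⟨g, hgX, ho⟩ := elt hppq (by norm_num) (by norm_num) (by norm_num) h
  obtain ⟨M, hM, hXM⟩ := H449.Reg.exists_max hX
  have hg := hXM hgX
  suffices Red M by
    obtain ⟨U, h0, h1, hU⟩ := this
    exact ⟨U, h0, h1, hXM.trans hU⟩
  have hMI := le_iso hM.1.le
  have hkr := hn.kr
  have hdM : r ∣ Nat.card M := (dvd_pow_self r hn.ha).trans (h.trans (Subgroup.card_dvd_of_le hXM))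
  have hc9 : Fintype.card (I 4) = 9 := card_I 4
  have h9 : 17 < r ^ a := by
    rcases hn.big with ⟨-, h⟩ | ⟨h, -⟩
    · exact h
    · omega
  rcases S5835.result hodd M hM with ⟨W, hW0, hWs, hW⟩ | ⟨W, hW0, hWe, -, -, hW⟩ | ⟨-, D, hD, hW⟩ | ⟨-, D, hD, hW⟩ |
    ⟨K, hK, -, hW⟩ | ⟨F₀, s, P, hs, hcard, -, hW⟩ | ⟨-, e, P, f₁, -, -, hW⟩ | hS
  · exact ⟨W, hW0, Ts.ne_top hWs, hW.le.trans inf_le_left⟩
  · refine ⟨W, hW0, ?_, hW.le.trans inf_le_left⟩
    rintro rfl
    rw [finrank_top, finrank_W] at hWe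
    exact absurd hWe (by decide)
  · have := decomp_pow hD.decomp.decomp ((hW.le.trans inf_le_left) hg) (hMI hg) hppq (by omega) (by omega) hn.ha ho
    omega
  · have := decomp_pow hD.decomp.decomp ((hW.le.trans inf_le_left) hg) (hMI hg) hppq (by omega) (by omega) hn.ha ho
    omega
  · rcases H884.El.ext_cases Nat.prime_three hK (hW.le.trans inf_le_left) (by rw [hc9]; norm_num) hppq (by rw [hc9]; norm_num) hdM
      with h | h <;> omega
  · exact (H884.El.kill_subfield (hW.le.trans inf_le_left) hs (by rw [Nat.card_eq_fintype_card]; exact hcard) hn.hp hpf' hn.pp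
      (by rw [hc9]; omega) (by omega) hdM).elim
  · rcases H251.GeoCard.wreath e P hppq.prime (hppq.not_dvd (by omega))
      (hdM.trans (Subgroup.card_dvd_of_le (hW.le.trans inf_le_left))) with h | h
    · omega
    · have := H884.El.le_of_div hppq (one_lt_q F).le h
      omega
  exfalso
  obtain ⟨P, p', hP, hp', hc, hcase⟩ := hR hodd M hM hS
  have key := H975.Cov.orderOf_dvd_core (nondeg_oddForm 4 F h2) hP hMI hg (by rw [ho]; exact (hppq.odd (by norm_num)).pow)
  rw [ho] at key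
  rcases hcase with ⟨⟨K, _, _, hK, ⟨e⟩⟩, -⟩ | ⟨⟨e⟩, -⟩ | ⟨⟨e⟩, -⟩ | ⟨⟨e⟩, -⟩ | ⟨⟨e⟩, h11⟩ | ⟨⟨K, _, _, hK, ⟨e⟩⟩, -⟩
  · rw [Nat.card_congr (MulAut.congr e).toEquiv,
      aut_l2 (p := 2) (f := 3) Nat.prime_two (by norm_num) (by rw [hK]; rfl) (by norm_num)] at key
    exact hn.not_small (Or.inl rfl) key
  · have : Fact (Nat.Prime 17) := ⟨by norm_num⟩
    rw [Nat.card_congr (MulAut.congr e).toEquiv,
      aut_l2 (p := 17) (f := 1) (by norm_num) (by norm_num) (by rw [ZMod.card]; rfl) (by norm_num)] at key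
    exact hn.not_small (Or.inr (Or.inl rfl)) key
  · rw [Nat.card_congr (MulAut.congr e).toEquiv, aut_alt (by norm_num) (by norm_num)] at key
    exact hn.not_small (Or.inr (Or.inr (Or.inl rfl))) key
  · rw [Nat.card_congr (MulAut.congr e).toEquiv, aut_alt (by norm_num) (by norm_num)] at key
    exact hn.not_small (Or.inr (Or.inr (Or.inr rfl))) key
  · have h4 : 4 ≤ p ^ f := by
      obtain ⟨n, -, h5⟩ := FiniteField.card F p'
      have := Nat.le_self_pow n.ne_zero p'
      omega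
    rw [Nat.card_congr (MulAut.congr e).toEquiv, aut_l2 hn.hp hn.hf hpf h4] at key
    exact hn.not_l2 key
  · have h4 : 4 ≤ p ^ (2 * f) := by
      have h6 : 1 < p ^ f := by rw [← hpf]; exact Fintype.one_lt_card
      rw [two_mul, pow_add]
      exact Nat.mul_le_mul h6 h6
    rw [Nat.card_congr (MulAut.congr e).toEquiv, aut_l2 hn.hp (f := 2 * f) (by have := hn.hf; omega)
      (by rw [hK, hpf, ← pow_mul, mul_comm]) h4] at key
    exact hn.not_l2sq key

open Cfsg.Agent.H449.Reg (cj cj_iso cj_apply' nondeg_tq sm_iso E_le_of_omega) in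
/-- `Ω₁₉(3)`, the prime `37` -/
theorem sm (hS : Small37) (hF : Fintype.card F = 3) {X : Subgroup (GL (I 9) F)} (hX : X < Om 9 F) (hd : 37 ∣ Nat.card X) :
    Red X ∨ Nat.card X ≤ 3000000 := by
  have h2 : (2 : F) ≠ 0 := two_ne (by rw [hF]; decide)
  have hG := good (m := 9) h2 (by norm_num)
  let φ : W 9 F ≃ₗ[F] (Fin 19 → F) := LinearEquiv.ofFinrankEq _ _ (by rw [finrank_W, finrank_fin_fun])
  set H1 : Subgroup (W 9 F ≃ₗ[F] W 9 F) := X.map (glEquiv (I 9) F).toMonoidHom with hH1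
  have hH1O : H1 ≤ O (oddForm 9 F) := by
    rintro _ ⟨g, hg, rfl⟩
    exact mem_Is_iff.1 (Om_le (hX.le hg))
  have hc1 : Nat.card H1 = Nat.card X := Subgroup.card_map_of_injective (glEquiv (I 9) F).injective
  have hc2 : Nat.card (H1.map (cj φ).toMonoidHom) = Nat.card H1 := Subgroup.card_map_of_injective (cj φ).injective
  rcases sm_iso hS (by rw [Nat.card_eq_fintype_card, hF]) (nondeg_tq hG.nondeg φ) (H := H1.map (cj φ).toMonoidHom) (by
    rintro _ ⟨x, hx, rfl⟩
    exact cj_iso φ (hH1O hx)) (by rw [hc2, hc1]; exact hd) with ⟨U, h0, h1, hU⟩ | h1 | h1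
  · refine Or.inl ⟨U.comap (φ : W 9 F →ₗ[F] (Fin 19 → F)), fun h3 => h0 ?_, fun h3 => h1 ?_, fun g hg => ?_⟩
    · rw [← Submodule.map_comap_eq_of_surjective (f := (φ : W 9 F →ₗ[F] (Fin 19 → F))) φ.surjective U, h3, Submodule.map_bot]
    · rw [← Submodule.map_comap_eq_of_surjective (f := (φ : W 9 F →ₗ[F] (Fin 19 → F))) φ.surjective U, h3, Submodule.map_top,
        LinearEquiv.range]
    · refine H884.OmegaGL.mem_subspaceStabilizer.2 fun w hw => ?_
      have h3 : cj φ (glEquiv (I 9) F g) ∈ subspaceStabilizer U := hU ⟨glEquiv (I 9) F g, ⟨g, hg, rfl⟩, rfl⟩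
      have h4 : (cj φ (glEquiv (I 9) F g) : Matrix (Fin 19) (Fin 19) F) *ᵥ φ w ∈ U := (h3 (φ w)).1 hw
      rwa [cj_apply'] at h4
  · refine absurd (fun x hx => ?_) hX.not_ge
    obtain ⟨y, hy, e⟩ := E_le_of_omega (n := 19) (by norm_num) hG.nondeg φ h1 ((mem_Om hG).1 hx)
    rwa [← (glEquiv (I 9) F).injective e]
  · exact Or.inr (by rwa [hc2, hc1] at h1)

/-- the partner of a reducible group -/
theorem count (hG : Good (oddForm m F)) (h : Pd X Y) {S : Submodule F (W m F)} (hY : Y ≤ subspaceStabilizer S) {s : W m F}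
    (hs : s ∈ S) (hs0 : s ≠ 0) : Nat.card {w : W m F // qf w = qf s} ≤ Nat.card X * Nat.card S + 1 := by
  classical
  have key : ∀ w : {w : W m F // qf w = qf s}, ∃ o : Option (X × S),
      (w : W m F) = o.elim 0 fun z => ap (z.1 : GL (I m) F) (z.2 : W m F) := by
    intro w
    by_cases h0 : (w : W m F) = 0
    · exact ⟨none, h0⟩
    obtain ⟨g, hg, e⟩ := trans_norm hG hs0 h0 w.2.symm
    obtain ⟨x, hx, y, hy, rfl⟩ := h.mul g hg
    exact ⟨some (⟨x, hx⟩, ⟨ap y s, H884.OmegaGL.mem_subspaceStabilizer.1 (hY hy) s hs⟩), by rw [← e, ap_mul]; rfl⟩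
  choose o ho using key
  have h1 := Nat.card_le_card_of_injective o fun w w' e => Subtype.ext (by rw [ho, ho, e])
  rwa [Finite.card_option, Nat.card_prod] at h1

theorem nineteen (hP : H659.CovCore.S5948Stmt.{0}) (hS : Small37) (hF : Fintype.card F = 3) {X Y : Subgroup (GL (I 9) F)}
    (h : Pd X Y) (hd : 37 ∣ Nat.card X) : Red X := by
  have hodd : Odd (Fintype.card F) := by rw [hF]; decide
  have h2 : (2 : F) ≠ 0 := two_ne hodd
  have hG := good (m := 9) h2 (by norm_num)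
  refine (sm hS hF h.left hd).elim id fun h1 => ?_
  obtain ⟨r, a, hr, hb, hra⟩ := lp_of (k := 16) Nat.prime_three le_rfl (by norm_num) (by norm_num) (by norm_num)
  have hr' : PP (Nat.card F) 16 r := by rw [Nat.card_eq_fintype_card, hF]; exact hr
  have hF' : Fintype.card F = 3 ^ 1 := hF
  rcases side h hr' (by norm_num) (by norm_num) (by norm_num)
    (dvd_Om (i := 8) hodd (by norm_num) (by norm_num) (by norm_num) (hr'.odd (by norm_num)) (hF' ▸ hra)) with h3 | h3
  · exact list hP h2 (by norm_num) h.left Nat.prime_three le_rfl hF' hr (by norm_num) (by norm_num) hb hra (by norm_num) h3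
  exfalso
  have hred := list hP h2 (by norm_num) h.right Nat.prime_three le_rfl hF' hr (by norm_num) (by norm_num) hb hra (by norm_num) h3
  have ha : a ≠ 0 := by
    rintro rfl
    norm_num at hb
  obtain ⟨y, hy, ho⟩ := elt (a := 1) hr' (by norm_num) (by norm_num) (by norm_num) ((pow_dvd_pow r (by omega)).trans h3)
  rw [pow_one] at ho
  obtain ⟨S, hS0, hSle, hSY⟩ := fixed h2 h.right.le hr' (by norm_num) (by norm_num) hy ho hred
  have hiso : Iso (oddForm 9 F) (H884.El.lin y) r := Iso.mk' hr' (by norm_num) (lin_pow ho) (lin_iso (le_iso h.right.le) hy)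
  obtain ⟨-, hcm, -⟩ := elt_data hr' (by norm_num) (by rw [card_I]; norm_num) (lin_pow ho) (lin_ne_one (ne_one hr.prime ho))
  have hfx : finrank F (fx (H884.El.lin y)) = 3 :=
    Nat.add_right_cancel (m := 16) (((congrArg _ hcm.symm).trans hiso.finrank_add).trans finrank_W)
  have h4 : Nat.card S ≤ 27 := by
    rw [Module.natCard_eq_pow_finrank (K := F), Nat.card_eq_fintype_card, hF]
    exact Nat.pow_le_pow_right (n := 3) (j := 3) (by norm_num) ((Submodule.finrank_mono hSle).trans hfx.le)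
  obtain ⟨s, hs, hs0⟩ := Submodule.exists_mem_ne_zero_of_ne_bot hS0
  have h5 := (count hG h hSY hs hs0).trans (Nat.add_le_add_right (Nat.mul_le_mul h1 h4) 1)
  have h6 := cnt_aux (m := 9) (qf s)
  rw [hF] at h6
  omega

theorem boxA_of (hP : H659.CovCore.S5948Stmt.{0}) (hR : S5836Stmt) (hS : Small37) : BoxA := by
  intro F _ _ m hodd hm X Y h
  have h2 : (2 : F) ≠ 0 := two_ne hodd
  obtain ⟨p, _, ⟨f, hf⟩, hp, hF⟩ := FiniteField.card' F
  change Fintype.card F = p ^ f at hF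
  have hp2 : p ≠ 2 := by
    rintro rfl
    rw [hF] at hodd
    exact Nat.not_odd_iff_even.2 (Nat.even_pow.2 ⟨even_two, hf.ne'⟩) hodd
  have key : ∀ {r a : ℕ}, PP (Nat.card F) (2 * m) r → a ≠ 0 → r ^ a ∣ Fintype.card F ^ (2 * m) - 1 →
      (∀ X Y : Subgroup (GL (I m) F), Pd X Y → r ^ a ∣ Nat.card X → Red X) → ∃ v, Pt X v ∨ Pt Y v := by
    intro r a hr ha hd hred
    rcases side h hr (by omega) (by omega) (by omega) (dvd_Om hodd (by omega) (by omega) le_rfl (hr.odd (by omega)) hd)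
      with h3 | h3
    · obtain ⟨v, hv⟩ := pt_of_red h2 (by omega) h.left.le hr ((dvd_pow_self r ha).trans h3) (hred X Y h h3)
      exact ⟨v, Or.inl hv⟩
    · obtain ⟨v, hv⟩ := pt_of_red h2 (by omega) h.right.le hr ((dvd_pow_self r ha).trans h3) (hred Y X h.symm h3)
      exact ⟨v, Or.inr hv⟩
  by_cases h39 : p = 3 ∧ f = 1 ∧ 2 * m = 18
  · obtain ⟨rfl, rfl, h3⟩ := h39
    obtain rfl : m = 9 := by omega
    exact key (r := 37) (a := 1) (by rw [Nat.card_eq_fintype_card, hF]; exact H449.Reg.Ctx.pp37) one_ne_zero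
      (by rw [hF]; norm_num) fun X Y h hd => nineteen hP hS hF h hd
  obtain ⟨r, a, hr, hb, hd⟩ := lp_of (k := 2 * m) hp hf hp2 (by omega) h39
  have ha : a ≠ 0 := by
    rintro rfl
    rw [pow_zero] at hb
    omega
  refine key (by rw [Nat.card_eq_fintype_card, hF]; exact hr.of_pow hf) ha (hF ▸ hd) fun X Y h h3 => ?_
  rcases Nat.lt_or_ge m 5 with h5 | h5
  · obtain rfl : m = 4 := by omega
    exact nine hR hodd hF ⟨hp, hf, hr, Or.inl ⟨rfl, hb⟩⟩ h.left h3
  · exact list hP h2 h5 h.left hp hf hF hr le_rfl (by omega) hb hd (by simp) h3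

end Cfsg.Agent.SM.Oo.A
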