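import Cfsg.Agent.SM.Oo.Defs
import Cfsg.Agent.LieClassical.OrthForms
import Cfsg.Agent.LieClassical.OrthFinite

/-!
# SM (S3570), family `fO`: basic facts on the model (helper96)

* `good`, `mem_Om`, `trans_norm`: the link to `oddForm`, `E`;
* `Sem.ex`, `Sem.conj`, `simg`: semilinear isometries;
* `OF.pd`, `OF.nzH`, `OF.nzB`, `Nz.fixP`, `Nz.fixS`, `Pt.trM`, `OF.eqH`, `OF.eqB`, `OF.chain`.
-/

set_option autoImplicit false
set_option linter.unusedSectionVars false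

namespace Cfsg.Agent.SM.Oo

open Cfsg Cfsg.Geo Matrix Equiv QuadraticMap Module
open Cfsg.Agent.LieClassical.OrthCore Cfsg.Agent.LieClassical.OrthTrans Cfsg.Agent.LieClassical.OrthFinite
open Cfsg.Agent.LieClassical.OrthForms (oddForm coe_oddForm nondeg_oddForm)
open scoped MatrixGroups

variable {m : ℕ} {F : Type} [Field F]

/-! ### the form -/

theorem qf_eq (v : W m F) : qf v = oddForm m F v := (congrFun (coe_oddForm m F) v).symm

theorem bf_eq (u v : W m F) : bf u v = polar (oddForm m F) u v := by rw [coe_oddForm]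

theorem Is_eq : Is m F = isometryGroup F ⇑(oddForm m F) := by rw [coe_oddForm]

theorem Om_eq : Om m F = omegaGL ⇑(oddForm m F) := by rw [coe_oddForm]

theorem two_ne [Fintype F] (h : Odd (Fintype.card F)) : (2 : F) ≠ 0 := fun h2 => by
  have h3 : ringChar F = 2 := by
    have h4 : ringChar F ∣ 2 := (ringChar.spec F 2).1 (by exact_mod_cast h2)
    exact ((Nat.dvd_prime Nat.prime_two).1 h4).resolve_left (CharP.ringChar_ne_one)
  exact (Nat.not_even_iff_odd.2 h) (FiniteField.even_card_iff_char_two.1 h3 |> Nat.even_iff.2)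

theorem card_I (m : ℕ) : Fintype.card (I m) = 2 * m + 1 := by
  simp only [Fintype.card_sum, Fintype.card_fin, Fintype.card_unit]
  omega

theorem finrank_W : finrank F (W m F) = 2 * m + 1 := by rw [Module.finrank_fintype_fun_eq_card, card_I]

theorem good [Finite F] (h2 : (2 : F) ≠ 0) (hm : 2 ≤ m) : Good (oddForm m F) :=
  good_of_finite (nondeg_oddForm m F h2) (by rw [finrank_W]; omega)

theorem qf_smul (c : F) (v : W m F) : qf (c • v) = c ^ 2 * qf v := by
  rw [qf_eq, qf_eq, QuadraticMap.map_smul, smul_eq_mul, _root_.sq]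

theorem qf_neg (v : W m F) : qf (-v) = qf v := by rw [qf_eq, qf_eq, QuadraticMap.map_neg]

theorem qf_zero : qf (0 : W m F) = 0 := by rw [qf_eq, map_zero]

theorem qf_add (u v : W m F) : qf (u + v) = qf u + qf v + bf u v := by rw [qf_eq, qf_eq, qf_eq, bf_eq, Q_add]

theorem bf_comm (u v : W m F) : bf u v = bf v u := by rw [bf_eq, bf_eq, polar_comm]

theorem bf_self (u : W m F) : bf u u = 2 * qf u := by rw [bf_eq, qf_eq, polar_self']

theorem bf_add (u v w : W m F) : bf u (v + w) = bf u v + bf u w := by rw [bf_eq, bf_eq, bf_eq, polar_add_right]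

theorem bf_smul (c : F) (u v : W m F) : bf u (c • v) = c * bf u v := by
  rw [bf_eq, bf_eq, polar_smul_right, smul_eq_mul]

theorem bf_add' (u v w : W m F) : bf (u + v) w = bf u w + bf v w := by rw [bf_eq, bf_eq, bf_eq, polar_add_left]

theorem bf_smul' (c : F) (u v : W m F) : bf (c • u) v = c * bf u v := by
  rw [bf_eq, bf_eq, polar_smul_left, smul_eq_mul]

theorem bf_zero (u : W m F) : bf u 0 = 0 := by rw [bf_eq, polar_zero_right]

theorem bf_nondeg (h2 : (2 : F) ≠ 0) {u : W m F} (h : ∀ v, bf u v = 0) : u = 0 :=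
  nondeg_oddForm m F h2 u fun v => by rw [← bf_eq, h]

theorem ne_zero_of_not_isSquare {v : W m F} (h : ¬ IsSquare (qf v)) : qf v ≠ 0 := fun e => h (e ▸ IsSquare.zero)

theorem ne_of_qf {v : W m F} (h : qf v ≠ 0) : v ≠ 0 := fun e => h (e ▸ qf_zero)

theorem ap_add (g : GL (I m) F) (u v : W m F) : ap g (u + v) = ap g u + ap g v := mulVec_add _ _ _

theorem ap_smul (g : GL (I m) F) (c : F) (v : W m F) : ap g (c • v) = c • ap g v := mulVec_smul _ _ _

theorem ap_neg (g : GL (I m) F) (v : W m F) : ap g (-v) = -ap g v := mulVec_neg _ _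

theorem ap_sub (g : GL (I m) F) (u v : W m F) : ap g (u - v) = ap g u - ap g v := mulVec_sub _ _ _

theorem ap_zero (g : GL (I m) F) : ap g (0 : W m F) = 0 := mulVec_zero _

theorem ap_eq (g : GL (I m) F) (v : W m F) : ap g v = glEquiv (I m) F g v := (glEquiv_apply g v).symm

theorem ap_ext {g h : GL (I m) F} (e : ∀ v, ap g v = ap h v) : g = h := lin_injective (Perm.ext e)

theorem bf_ap {g : GL (I m) F} (hg : g ∈ Is m F) (u v : W m F) : bf (ap g u) (ap g v) = bf u v := by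
  have h := mem_Is.1 hg (u + v)
  rw [ap_add, qf_add, qf_add, mem_Is.1 hg, mem_Is.1 hg] at h
  exact add_left_cancel h

theorem mem_Is_iff {g : GL (I m) F} : g ∈ Is m F ↔ glEquiv (I m) F g ∈ O (oddForm m F) := by
  rw [mem_Is, mem_O]
  simp only [qf_eq, ap_eq]

theorem mem_Om (hG : Good (oddForm m F)) {g : GL (I m) F} : g ∈ Om m F ↔ glEquiv (I m) F g ∈ E (oddForm m F) := by
  rw [Om_eq, ← hG.commutator_eq_E, ← map_Omega]
  constructor
  · rintro ⟨x, hx, rfl⟩
    exact ⟨x, hx, LinearEquiv.ext fun v => by rw [isometryHom_apply, glEquiv_apply]; rfl⟩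
  · rintro ⟨x, hx, e⟩
    refine ⟨x, hx, ap_ext fun v => ?_⟩
    rw [ap_eq g, ← e, isometryHom_apply]
    rfl

theorem exists_Om (hG : Good (oddForm m F)) {k : W m F ≃ₗ[F] W m F} (hk : k ∈ E (oddForm m F)) :
    ∃ g ∈ Om m F, ∀ v, ap g v = k v :=
  ⟨(glEquiv (I m) F).symm k, (mem_Om hG).2 (by rwa [MulEquiv.apply_symm_apply]), fun v => by
    rw [ap_eq, MulEquiv.apply_symm_apply]⟩

theorem exists_Is {k : W m F ≃ₗ[F] W m F} (hk : k ∈ O (oddForm m F)) : ∃ g ∈ Is m F, ∀ v, ap g v = k v :=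
  ⟨(glEquiv (I m) F).symm k, mem_Is_iff.2 (by rwa [MulEquiv.apply_symm_apply]), fun v => by
    rw [ap_eq, MulEquiv.apply_symm_apply]⟩

/-- `Ω` is transitive on the vectors of each norm -/
theorem trans_norm (hG : Good (oddForm m F)) {v w : W m F} (hv : v ≠ 0) (hw : w ≠ 0) (h : qf v = qf w) :
    ∃ g ∈ Om m F, ap g v = w := by
  obtain ⟨k, hk, e⟩ := hG.trans_norm hv hw (by rw [← qf_eq, ← qf_eq, h])
  obtain ⟨g, hg, e'⟩ := exists_Om hG hk
  exact ⟨g, hg, (e' v).trans e⟩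

theorem conj_Om {a x : GL (I m) F} (ha : a ∈ Is m F) (hx : x ∈ Om m F) : a * x * a⁻¹ ∈ Om m F := by
  obtain ⟨y, hy, rfl⟩ := hx
  exact ⟨⟨a, ha⟩ * y * ⟨a, ha⟩⁻¹, (inferInstance : (commutator (Is m F)).Normal).conj_mem y hy _, rfl⟩

theorem det_Om {x : GL (I m) F} (hx : x ∈ Om m F) : (x : Matrix (I m) (I m) F).det = 1 := by
  obtain ⟨y, hy, rfl⟩ := hx
  have h1 : commutator (Is m F) ≤ ((Matrix.GeneralLinearGroup.det (n := I m) (R := F)).comp (Is m F).subtype).ker :=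
    Abelianization.commutator_subset_ker _
  exact congrArg Units.val (h1 hy)

theorem tw_Om (σ : F ≃+* F) {x : GL (I m) F} (hx : x ∈ Om m F) : tw σ x ∈ Om m F := by
  obtain ⟨y, hy, rfl⟩ := hx
  let f : Is m F →* Is m F := ((tw σ).comp (Is m F).subtype).codRestrict _ fun a => tw_mem σ a.2
  have h1 : (commutator (Is m F)).map f ≤ commutator (Is m F) := by
    rw [commutator_def, Subgroup.map_commutator]
    exact Subgroup.commutator_mono le_top le_top
  exact ⟨f y, h1 ⟨y, hy, rfl⟩, rfl⟩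

/-- the only scalar of `Ω` -/
theorem eq_one_of_scalar {x : GL (I m) F} (hx : x ∈ Is m F)
    (hd : (x : Matrix (I m) (I m) F).det = 1) {c : F} (h : ∀ v, ap x v = c • v) : x = 1 := by
  have h1 : (x : Matrix (I m) (I m) F) = c • (1 : Matrix (I m) (I m) F) :=
    Matrix.toLin'.injective (LinearMap.ext fun v => by
      rw [Matrix.toLin'_apply, Matrix.toLin'_apply, Matrix.smul_mulVec, Matrix.one_mulVec]
      exact h v)
  rw [h1, Matrix.det_smul, Matrix.det_one, mul_one, card_I] at hd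
  have h3 := mem_Is.1 hx (Pi.single (.inl ()) 1)
  have h4 : qf (Pi.single (.inl ()) 1 : W m F) = 1 := by simp [qf, quadFormOdd]
  rw [h, qf_smul, h4, mul_one] at h3
  rw [pow_succ, pow_mul, h3, one_pow, one_mul] at hd
  exact ap_ext fun v => by rw [h, hd, one_smul, ap_one]

theorem scalars_inf {x : GL (I m) F} (hx : x ∈ Om m F) (h : x ∈ scalars (I m) F) : x = 1 := by
  obtain ⟨c, hc⟩ := (mem_scalars_iff x).1 h
  exact eq_one_of_scalar (Om_le hx) (det_Om hx) (c := c) fun v => by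
    rw [ap, hc, Matrix.smul_mulVec, Matrix.one_mulVec]

theorem inv_iff {X : Subgroup (GL (I m) F)} {U : Submodule F (W m F)} :
    Inv X U ↔ ∀ s ∈ matrixSet X, U.map (Matrix.toLin' s) ≤ U := by
  constructor
  · rintro h _ ⟨x, hx, rfl⟩ _ ⟨u, hu, rfl⟩
    rw [Matrix.toLin'_apply]
    exact h x hx u hu
  · intro h x hx u hu
    exact h _ ⟨x, hx, rfl⟩ ⟨u, hu, Matrix.toLin'_apply _ _⟩

theorem irr_iff {X : Subgroup (GL (I m) F)} : Irr X ↔ ActsIrreducibly (matrixSet X) :=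
  forall_congr' fun _ => by rw [inv_iff]

theorem Inv.mono {X Y : Subgroup (GL (I m) F)} {U : Submodule F (W m F)} (h : Inv Y U) (hle : X ≤ Y) : Inv X U :=
  fun x hx => h x (hle hx)

theorem Irr.mono {X Y : Subgroup (GL (I m) F)} (h : Irr X) (hle : X ≤ Y) : Irr Y := fun U hU => h U (hU.mono hle)

theorem TrM.mono {X Y : Subgroup (GL (I m) F)} (h : TrM X) (hle : X ≤ Y) : TrM Y := fun v w hv hw =>
  let ⟨y, hy, e⟩ := h v w hv hw
  ⟨y, hle hy, e⟩

/-- `Ω` is irreducible -/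
theorem irr_Om (hG : Good (oddForm m F)) : Irr (Om m F) := by
  intro U hU
  by_contra hc
  obtain ⟨h0, h1⟩ := not_or.1 hc
  obtain ⟨u, hu, hu0⟩ := (Submodule.ne_bot_iff U).1 h0
  obtain ⟨x, y, hxy⟩ := hG.exists_hyp
  have key : ∀ s, oddForm m F s = 0 → s ∈ U := by
    -- `U` contains a singular vector
    obtain ⟨a, b, hab, e⟩ := exists_hyp_decomp hG.nondeg hxy hu0
    obtain ⟨z, w, hzw, h3, h4, h5, h6⟩ := hG.exists_hyp2 hab
    obtain ⟨g, hg, eg⟩ := exists_Om hG (siegel_mem_E (u := b) (w := z) hab.right h5)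
    have h7 : ap g u - u ∈ U := U.sub_mem (hU g hg u hu) hu
    have h8 : polar (oddForm m F) b u = 1 := by
      rw [e, polar_add_right, polar_smul_right, hab.pair', hab.polar_right, smul_zero, add_zero]
    have h9 : polar (oddForm m F) z u = 0 := by
      rw [e, polar_add_right, polar_smul_right, polar_comm _ z a, h3, polar_comm _ z b, h5, smul_zero, add_zero]
    rw [eg, siegel_apply, h8, h9, hzw.left, one_smul, zero_smul, zero_mul, zero_smul, sub_zero, sub_zero,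
      add_sub_cancel_left] at h7
    intro s hs
    by_cases hs0 : s = 0
    · rw [hs0]; exact U.zero_mem
    obtain ⟨g', hg', e'⟩ := trans_norm hG hzw.left_ne hs0 (by rw [qf_eq, qf_eq, hzw.left, hs])
    rw [← e']
    exact hU g' hg' z h7
  exact h1 (eq_top_iff.2 fun v _ => sing_induction hxy (P := fun a => a ∈ U) (fun a c => U.add_mem) key v)

/-! ### semilinear isometries -/

theorem lin_mem_Sem {a : GL (I m) F} (ha : a ∈ Is m F) (hd : (a : Matrix (I m) (I m) F).det = 1) : lin a ∈ Sem m F :=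
  ⟨RingEquiv.refl F, a, ha, hd, fun _ => rfl⟩

theorem Om_le_Sem : (Om m F).map lin ≤ Sem m F := by
  rintro _ ⟨x, hx, rfl⟩
  exact lin_mem_Sem (Om_le hx) (det_Om hx)

theorem Sem.add {g : Perm (W m F)} (hg : g ∈ Sem m F) (u v : W m F) : g (u + v) = g u + g v := by
  obtain ⟨σ, a, -, -, h⟩ := hg
  rw [h, h, h, ← ap_add]
  exact congrArg _ (funext fun i => map_add σ _ _)

theorem Sem.zero {g : Perm (W m F)} (hg : g ∈ Sem m F) : g 0 = 0 := by
  have h := Sem.add hg 0 0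
  rw [add_zero] at h
  exact left_eq_add.1 h

theorem Sem.neg {g : Perm (W m F)} (hg : g ∈ Sem m F) (v : W m F) : g (-v) = -g v := by
  rw [eq_neg_iff_add_eq_zero, ← Sem.add hg, neg_add_cancel, Sem.zero hg]

theorem Sem.sub {g : Perm (W m F)} (hg : g ∈ Sem m F) (u v : W m F) : g (u - v) = g u - g v := by
  rw [sub_eq_add_neg, Sem.add hg, Sem.neg hg, sub_eq_add_neg]

theorem Sem.ne {g : Perm (W m F)} (hg : g ∈ Sem m F) {v : W m F} (hv : v ≠ 0) : g v ≠ 0 := fun e =>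
  hv (g.injective (e.trans (Sem.zero hg).symm))

/-- the field automorphism of a semilinear isometry -/
theorem Sem.ex {g : Perm (W m F)} (hg : g ∈ Sem m F) : ∃ σ : F ≃+* F, (∀ c v, g (c • v) = σ c • g v) ∧
    (∀ v, qf (g v) = σ (qf v)) ∧ ∀ u v, bf (g u) (g v) = σ (bf u v) := by
  have hadd := Sem.add hg
  obtain ⟨σ, a, ha, -, h⟩ := hg
  have h1 : ∀ v, qf (g v) = σ (qf v) := fun v => by rw [h, mem_Is.1 ha, qf_tw]
  refine ⟨σ, fun c v => ?_, h1, fun u v => ?_⟩
  · rw [h, h, ← ap_smul]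
    exact congrArg _ (funext fun i => map_mul σ _ _)
  · have h2 := h1 (u + v)
    rw [hadd, qf_add, qf_add, map_add, map_add, h1, h1] at h2
    exact add_left_cancel h2

/-- conjugation of matrices -/
theorem Sem.conj {g : Perm (W m F)} (hg : g ∈ Sem m F) (x : GL (I m) F) :
    ∃ x' : GL (I m) F, lin x' = g * lin x * g⁻¹ ∧ (x ∈ Om m F → x' ∈ Om m F) := by
  obtain ⟨σ, a, ha, -, h⟩ := hg
  refine ⟨a * tw σ x * a⁻¹, ?_, fun hx => conj_Om ha (tw_Om σ hx)⟩
  rw [eq_mul_inv_iff_mul_eq]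
  refine Perm.ext fun v => ?_
  rw [Perm.mul_apply, Perm.mul_apply, lin_apply, lin_apply, h, h, ap_mul, ap_mul, ap_inv_ap, ap_tw]

/-- the image of a subspace -/
def simg {g : Perm (W m F)} (hg : g ∈ Sem m F) (U : Submodule F (W m F)) : Submodule F (W m F) where
  carrier := g '' U
  add_mem' := by
    rintro _ _ ⟨a, ha, rfl⟩ ⟨b, hb, rfl⟩
    exact ⟨a + b, U.add_mem ha hb, Sem.add hg a b⟩
  zero_mem' := ⟨0, U.zero_mem, Sem.zero hg⟩
  smul_mem' := by
    rintro c _ ⟨b, hb, rfl⟩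
    obtain ⟨σ, h, -⟩ := Sem.ex hg
    exact ⟨σ.symm c • b, U.smul_mem _ hb, by rw [h, RingEquiv.apply_symm_apply]⟩

theorem mem_simg {g : Perm (W m F)} (hg : g ∈ Sem m F) {U : Submodule F (W m F)} {w : W m F} :
    w ∈ simg hg U ↔ ∃ u ∈ U, g u = w := Iff.rfl

theorem apply_mem_simg {g : Perm (W m F)} (hg : g ∈ Sem m F) {U : Submodule F (W m F)} {u : W m F} :
    g u ∈ simg hg U ↔ u ∈ U := ⟨fun ⟨_, h, e⟩ => g.injective e ▸ h, fun h => ⟨u, h, rfl⟩⟩

theorem finrank_simg [Finite F] {g : Perm (W m F)} (hg : g ∈ Sem m F) (U : Submodule F (W m F)) :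
    finrank F (simg hg U) = finrank F U := by
  have h1 : Nat.card (simg hg U) = Nat.card U := Nat.card_image_of_injective g.injective (U : Set (W m F))
  rw [Module.natCard_eq_pow_finrank (K := F), Module.natCard_eq_pow_finrank (K := F) (V := U)] at h1
  exact Nat.pow_right_injective Finite.one_lt_card h1

theorem simg_ne_bot {g : Perm (W m F)} (hg : g ∈ Sem m F) {U : Submodule F (W m F)} (h : U ≠ ⊥) : simg hg U ≠ ⊥ := by
  obtain ⟨u, hu, h0⟩ := (Submodule.ne_bot_iff U).1 h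
  exact (Submodule.ne_bot_iff _).2 ⟨g u, ⟨u, hu, rfl⟩, Sem.ne hg h0⟩

theorem Ts.simg {g : Perm (W m F)} (hg : g ∈ Sem m F) {U : Submodule F (W m F)} (h : Ts U) : Ts (simg hg U) := by
  rintro _ ⟨u, hu, rfl⟩
  obtain ⟨σ, -, h1, -⟩ := Sem.ex hg
  rw [h1, h u hu, map_zero]

theorem Ts.bf {U : Submodule F (W m F)} (h : Ts U) {u v : W m F} (hu : u ∈ U) (hv : v ∈ U) : bf u v = 0 := by
  have h1 := qf_add u v
  rw [h _ (U.add_mem hu hv), h u hu, h v hv, zero_add, zero_add] at h1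
  exact h1.symm

theorem Ts.ne_top {U : Submodule F (W m F)} (h : Ts U) : U ≠ ⊤ := by
  rintro rfl
  have h1 := h (Pi.single (.inl ()) 1) trivial
  simp [qf, quadFormOdd] at h1

/-- the stabiliser of a set of vectors -/
def St (U : Set (W m F)) : Subgroup (Perm (W m F)) where
  carrier := {g | ∀ u, g u ∈ U ↔ u ∈ U}
  one_mem' := fun _ => Iff.rfl
  mul_mem' := fun {g h} hg hh u => (hg (h u)).trans (hh u)
  inv_mem' := fun {g} hg u => by
    have := hg (g⁻¹ u)
    rw [show g (g⁻¹ u) = u from Perm.eq_inv_iff_eq.1 rfl] at this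
    exact this.symm

theorem le_St {X : Subgroup (Perm (W m F))} {U : Set (W m F)} (h : ∀ g ∈ X, ∀ u ∈ U, g u ∈ U) : X ≤ St U :=
  fun g hg u => ⟨fun k => by
    have := h g⁻¹ (X.inv_mem hg) _ k
    rwa [show g⁻¹ (g u) = u from Perm.inv_eq_iff_eq.2 rfl] at this, h g hg u⟩

theorem mem_St_of [Finite F] {g : Perm (W m F)} {U : Set (W m F)} (h : ∀ u ∈ U, g u ∈ U) : g ∈ St U :=
  le_St (X := Subgroup.zpowers g) (fun k hk => by
    obtain ⟨n, rfl⟩ := mem_powers_iff_mem_zpowers.2 hk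
    induction n with
    | zero => exact fun u hu => hu
    | succ n ih =>
      intro u hu
      have := ih (Subgroup.npow_mem_zpowers g n) _ (h u hu)
      simpa only [pow_succ, Perm.mul_apply] using this) (Subgroup.mem_zpowers g)

theorem FixP.fixS {X : Subgroup (Perm (W m F))} (hX : X ≤ Sem m F) {v : W m F} (h : FixP X v) :
    FixS X (Submodule.span F {v}) := by
  intro g hg u hu
  obtain ⟨c, rfl⟩ := Submodule.mem_span_singleton.1 hu
  obtain ⟨σ, h1, -⟩ := Sem.ex (hX hg)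
  obtain ⟨d, hd⟩ := h g hg
  rw [h1, hd]
  exact Submodule.smul_mem _ _ (Submodule.smul_mem _ _ (Submodule.mem_span_singleton_self v))

theorem FixS.fixP {X : Subgroup (Perm (W m F))} {v : W m F} (h : FixS X (Submodule.span F {v})) : FixP X v := fun g hg =>
  let ⟨c, hc⟩ := Submodule.mem_span_singleton.1 (h g hg v (Submodule.mem_span_singleton_self v))
  ⟨c, hc.symm⟩

theorem FixS.inv {X : Subgroup (Perm (W m F))} {U : Submodule F (W m F)} (h : FixS X U) : Inv (pre X) U :=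
  fun x hx u hu => h (lin x) hx.1 u hu

/-! ### normalisers -/

/-- `N` is a group of semilinear isometries which normalises `X` -/
structure Nz (N : Subgroup (Perm (W m F))) (X : Subgroup (GL (I m) F)) : Prop where
  sem : N ≤ Sem m F
  conj : ∀ g ∈ N, ∀ x ∈ X, ∃ x' ∈ X, lin x' = g * lin x * g⁻¹

section nz

variable {N : Subgroup (Perm (W m F))} {X Y : Subgroup (GL (I m) F)} {U : Submodule F (W m F)} {v : W m F}

theorem Nz.inv (h : Nz N X) (hU : Inv X U) {g : Perm (W m F)} (hg : g ∈ N) : Inv X (simg (h.sem hg) U) := by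
  rintro x hx _ ⟨u, hu, rfl⟩
  obtain ⟨x', hx', e⟩ := h.conj g⁻¹ (N.inv_mem hg) x hx
  refine ⟨ap x' u, hU x' hx' u hu, ?_⟩
  rw [← lin_apply, e, inv_inv, Perm.mul_apply, Perm.mul_apply, show ∀ z, g (g⁻¹ z) = z from fun z => Perm.eq_inv_iff_eq.1 rfl]
  rfl

/-- a subspace which contains its images -/
theorem Nz.fixS (h : Nz N X) (hU : Inv X U) {P : Submodule F (W m F) → Prop}
    (hP : ∀ g (hg : g ∈ Sem m F), P (simg hg U)) (hu : ∀ U', Inv X U' → P U' → U' ≤ U) : FixS N U :=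
  fun g hg u hu' => hu _ (h.inv hU hg) (hP g (h.sem hg)) ⟨u, hu', rfl⟩

/-- the unique totally singular invariant subspace -/
theorem Nz.fixS_ts (h : Nz N X) (hU : Inv X U) (ht : Ts U) (h0 : U ≠ ⊥)
    (hu : ∀ U' : Submodule F (W m F), Ts U' → U' ≠ ⊥ → Inv X U' → U' = U) : FixS N U :=
  h.fixS hU (P := fun U' => Ts U' ∧ U' ≠ ⊥) (fun _ hg => ⟨ht.simg hg, simg_ne_bot hg h0⟩) fun U' h1 h2 =>
    (hu U' h2.1 h2.2 h1).le

theorem Pt.ne (h : Pt X v) : v ≠ 0 := ne_of_qf (ne_zero_of_not_isSquare h.mn)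

theorem Pt.inv_span (h : Pt X v) : Inv X (Submodule.span F {v}) := by
  intro x hx u hu
  obtain ⟨c, rfl⟩ := Submodule.mem_span_singleton.1 hu
  rw [ap_smul]
  refine Submodule.smul_mem _ _ ?_
  rcases h.fix x hx with e | e <;> rw [e]
  · exact Submodule.mem_span_singleton_self v
  · exact Submodule.neg_mem _ (Submodule.mem_span_singleton_self v)

/-- the perp of a vector -/
def pp (v : W m F) : Submodule F (W m F) := LinearMap.ker (polarBilin (oddForm m F) v)

theorem mem_pp {v w : W m F} : w ∈ pp v ↔ bf v w = 0 := by rw [bf_eq]; rfl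

theorem finrank_pp (h2 : (2 : F) ≠ 0) (hv : v ≠ 0) : finrank F (pp v) = 2 * m := by
  have h1 := LinearMap.finrank_range_add_finrank_ker (polarBilin (oddForm m F) v)
  have h3 : LinearMap.range (polarBilin (oddForm m F) v) = ⊤ := LinearMap.range_eq_top.2 fun c =>
    (nondeg_oddForm m F h2).exists_polar_eq hv c
  rw [h3, finrank_top, Module.finrank_self, finrank_W] at h1
  exact Nat.add_left_cancel (h1.trans (Nat.add_comm _ _))

theorem Nz.fixP [Finite F] (h2 : (2 : F) ≠ 0) (hm : 1 ≤ m) (h : Nz N X) (hv : Pt X v) : FixP N v := by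
  refine FixS.fixP (h.fixS hv.inv_span (P := fun U => finrank F U = 1) (fun g hg => ?_) fun U h1 h3 => ?_)
  · rw [finrank_simg, finrank_span_singleton hv.ne]
  · rcases hv.inv U h1 with e | e | e | e
    · rw [e]; exact bot_le
    · rw [e, finrank_top, finrank_W] at h3
      omega
    · exact e.le
    · have h4 : U = pp v := Submodule.ext fun w => (e w).trans mem_pp.symm
      rw [h4, finrank_pp h2 hv.ne] at h3
      omega

theorem Pd.symm (h : Pd X Y) : Pd Y X := ⟨h.right, h.left, fun g hg => by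
  obtain ⟨x, hx, y, hy, e⟩ := h.mul g⁻¹ ((Om m F).inv_mem hg)
  exact ⟨y⁻¹, Y.inv_mem hy, x⁻¹, X.inv_mem hx, by rw [← _root_.mul_inv_rev, ← e, inv_inv]⟩⟩

/-- the partner of the stabiliser of a point is transitive on the points of that type -/
theorem Pd.trans (hG : Good (oddForm m F)) (h : Pd X Y) (hv : v ≠ 0) (hX : ∀ x ∈ X, ∃ c : F, ap x v = c • v)
    {w : W m F} (hw : w ≠ 0) (e : qf v = qf w) : ∃ y ∈ Y, ∃ c : F, ap y (c • v) = w := by
  obtain ⟨g, hg, eg⟩ := trans_norm hG hv hw e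
  obtain ⟨y, hy, x, hx, rfl⟩ := h.symm.mul g hg
  obtain ⟨c, hc⟩ := hX x hx
  exact ⟨y, hy, c, by rw [← hc, ← ap_mul, eg]⟩

theorem exists_mul_sq [Finite F] {a b : F} (ha : ¬ IsSquare a) (hb : ¬ IsSquare b) : ∃ c : F, a = c ^ 2 * b := by
  classical
  have := Fintype.ofFinite F
  have ha0 : a ≠ 0 := fun e => ha (e ▸ IsSquare.zero)
  have hb0 : b ≠ 0 := fun e => hb (e ▸ IsSquare.zero)
  have h1 : quadraticChar F (a * b) = 1 := by
    rw [map_mul, quadraticChar_neg_one_iff_not_isSquare.2 ha, quadraticChar_neg_one_iff_not_isSquare.2 hb]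
    norm_num
  obtain ⟨d, hd⟩ := (quadraticChar_one_iff_isSquare (mul_ne_zero ha0 hb0)).1 h1
  refine ⟨d / b, ?_⟩
  field_simp
  linear_combination hd

theorem Pt.trM [Finite F] (hG : Good (oddForm m F)) (h : Pd X Y) (hv : Pt X v) : TrM Y := by
  have key : ∀ w : W m F, ∀ c : F, qf w = qf (c • v) → ¬ IsSquare (qf w) → ∃ y ∈ Y, ap y (c • v) = w ∨ ap y (c • v) = -w := by
    intro w c e hw
    have h0 := ne_zero_of_not_isSquare hw
    obtain ⟨g, hg, eg⟩ := trans_norm hG (ne_of_qf (e ▸ h0)) (ne_of_qf h0) e.symm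
    obtain ⟨y, hy, x, hx, rfl⟩ := h.symm.mul g hg
    refine ⟨y, hy, ?_⟩
    rw [ap_mul, ap_smul x] at eg
    rcases hv.fix x hx with e' | e' <;> rw [e'] at eg
    · exact Or.inl eg
    · rw [smul_neg, ap_neg] at eg
      exact Or.inr (neg_eq_iff_eq_neg.1 eg)
  intro u w hu e
  obtain ⟨c, hc⟩ := exists_mul_sq hu hv.mn
  rw [← qf_smul] at hc
  obtain ⟨y, hy, e1⟩ := key u c hc hu
  obtain ⟨y', hy', e2⟩ := key w c (e.trans hc) (e ▸ hu)
  refine ⟨y' * y⁻¹, Y.mul_mem hy' (Y.inv_mem hy), ?_⟩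
  have h1 : ap y⁻¹ u = c • v ∨ ap y⁻¹ u = -(c • v) := by
    rcases e1 with e1 | e1
    · exact Or.inl (by rw [← e1, ap_inv_ap])
    · exact Or.inr (by rw [← neg_eq_iff_eq_neg.2 e1, ap_neg, ap_inv_ap])
  rw [ap_mul]
  rcases h1 with h1 | h1 <;> rw [h1]
  · exact e2
  · rw [ap_neg]
    rcases e2 with e2 | e2 <;> rw [e2]
    · exact Or.inr rfl
    · exact Or.inl (neg_neg w)

end nz

/-! ### the factorisation -/

section of

variable {M H T B : Subgroup (Perm (W m F))}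

theorem OF.omM (h : OF M H T B) {x : GL (I m) F} (hx : x ∈ Om m F) : lin x ∈ M := h.fac.asM.le ⟨x, hx, rfl⟩

theorem OF.map_pre (h : OF M H T B) : (pre T).map lin = T := by
  refine le_antisymm ?_ fun t ht => ?_
  · rintro _ ⟨x, hx, rfl⟩
    exact hx.1
  · obtain ⟨x, hx, rfl⟩ := h.fac.le ht
    exact ⟨x, ⟨ht, hx⟩, rfl⟩

theorem OF.exists_pre (h : OF M H T B) {t : Perm (W m F)} (ht : t ∈ T) : ∃ x ∈ pre T, lin x = t := by
  rw [← h.map_pre] at ht
  exact ht

theorem map_pre (X : Subgroup (Perm (W m F))) : (pre X).map lin = (Om m F).map lin ⊓ X := by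
  ext k
  constructor
  · rintro ⟨x, hx, rfl⟩
    exact ⟨⟨x, hx.2, rfl⟩, hx.1⟩
  · rintro ⟨⟨x, hx, rfl⟩, h⟩
    exact ⟨x, ⟨h, hx⟩, rfl⟩

theorem card_map_lin (X : Subgroup (GL (I m) F)) : Nat.card (X.map (lin : GL (I m) F →* Perm (W m F))) = Nat.card X :=
  Nat.card_congr (X.equivMapOfInjective _ lin_injective).toEquiv.symm

theorem pre_lt {X : Subgroup (Perm (W m F))} (h : ¬ (Om m F).map lin ≤ X) : pre X < Om m F :=
  lt_of_le_of_ne inf_le_right fun e => h (by
    rintro _ ⟨x, hx, rfl⟩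
    rw [← e] at hx
    exact hx.1)

theorem OF.pd (h : OF M H T B) : Pd (pre T) (pre B) := by
  refine ⟨pre_lt fun k => h.fac.ne (le_antisymm h.fac.le k), pre_lt h.fac.nB, fun g hg => ?_⟩
  obtain ⟨t, ht, b, hb, e⟩ := h.fac.fac (lin g) ⟨g, hg, rfl⟩
  obtain ⟨x, hx, rfl⟩ := h.exists_pre ht
  refine ⟨x, hx, x⁻¹ * g, ⟨?_, (Om m F).mul_mem ((Om m F).inv_mem hx.2) hg⟩, by rw [mul_inv_cancel_left]⟩
  change lin (x⁻¹ * g) ∈ B
  rw [map_mul, map_inv, e, inv_mul_cancel_left]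
  exact hb

theorem OF.semH (h : OF M H T B) : H ≤ Sem m F := h.fac.HM.trans h.sem

theorem OF.semB (h : OF M H T B) : B ≤ Sem m F := h.fac.BM.trans h.sem

theorem nz_pre {N X : Subgroup (Perm (W m F))} (hN : N ≤ Sem m F) (hc : ∀ g ∈ N, ∀ x ∈ X, g * x * g⁻¹ ∈ X) :
    Nz N (pre X) := ⟨hN, fun g hg x hx =>
  let ⟨x', e, h⟩ := Sem.conj (hN hg) x
  ⟨x', ⟨show lin x' ∈ X from e ▸ hc g hg _ hx.1, h hx.2⟩, e⟩⟩

theorem OF.nzH (h : OF M H T B) : Nz H (pre T) := nz_pre h.semH h.fac.asH.conj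

theorem OF.nzB (h : OF M H T B) : Nz B (pre B) :=
  nz_pre h.semB fun _ hg _ hx => B.mul_mem (B.mul_mem hg hx) (B.inv_mem hg)

/-- `H` is the full stabiliser -/
theorem OF.eqH (h : OF M H T B) {Y : Subgroup (Perm (W m F))} (h1 : H ≤ Y) (h2 : ¬ (Om m F).map lin ≤ Y) : H = M ⊓ Y :=
  ((h.fac.hm.eq_or_eq (le_inf h.fac.HM h1) inf_le_left).resolve_right fun e =>
    h2 (h.fac.asM.le.trans (inf_eq_left.1 e))).symm

/-- `B` is the full stabiliser -/
theorem OF.eqB (h : OF M H T B) {Y : Subgroup (Perm (W m F))} (h1 : B ≤ Y) (h2 : ¬ (Om m F).map lin ≤ Y) : B = M ⊓ Y :=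
  ((h.fac.bm.eq_or_eq (le_inf h.fac.BM h1) inf_le_left).resolve_right fun e =>
    h2 (h.fac.asM.le.trans (inf_eq_left.1 e))).symm

/-- **no chain** `H ⊓ B < H ⊓ Y < H` -/
theorem OF.chain (h : OF M H T B) {Y : Subgroup (Perm (W m F))} (h1 : H ⊓ B ≤ Y) (h2 : ¬ T ≤ Y) {g : Perm (W m F)}
    (hg : g ∈ H) (hY : g ∈ Y) : g ∈ B := by
  rcases h.fac.pr.eq_or_eq (le_inf inf_le_left h1) (inf_le_left : H ⊓ Y ≤ H) with e | e
  · exact (e.le ⟨hg, hY⟩).2
  · exact absurd (h.fac.asH.le.trans (inf_eq_left.1 e)) h2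

theorem not_Om_le_St (hG : Good (oddForm m F)) {U : Submodule F (W m F)} (h0 : U ≠ ⊥) (h1 : U ≠ ⊤) :
    ¬ (Om m F).map lin ≤ St (U : Set (W m F)) := fun h =>
  (irr_Om hG U fun x hx u hu => (h ⟨x, hx, rfl⟩ u).2 hu).elim h0 h1

end of

end Cfsg.Agent.SM.Oo
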