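import Cfsg.Agent.SM.Oo.Api

/-!
# SM (S3570), family `fO`: the number of vectors of each norm (helper96)

* `boxCnt`; `orbit_dvd`, `TrM.dvd`, `Pd.dvd_plus`.
-/

set_option autoImplicit false
set_option linter.unusedSectionVars false

namespace Cfsg.Agent.SM.Oo

open Cfsg Cfsg.Geo Matrix Equiv QuadraticMap Module Finset
open Cfsg.Agent.LieClassical.OrthTrans (Good)
open Cfsg.Agent.LieClassical.OrthForms (oddForm)
open scoped MatrixGroups Classical

variable {m : ℕ} {F : Type} [Field F] [Fintype F]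

/-- the vectors `y` with `x ⬝ y = d` -/
theorem card_dot {x : Fin m → F} (hx : x ≠ 0) (d : F) :
    Fintype.card F * (univ.filter fun y : Fin m → F => ∑ i, x i * y i = d).card = Fintype.card F ^ m := by
  obtain ⟨j, hj⟩ := Function.ne_iff.1 hx
  have hj' : x j ≠ 0 := hj
  have key : ∀ d d' : F, (univ.filter fun y : Fin m → F => ∑ i, x i * y i = d).card =
      (univ.filter fun y : Fin m → F => ∑ i, x i * y i = d').card := by
    intro d d'
    refine card_bij (fun y _ => y + Pi.single j ((d' - d) / x j)) (fun y hy => ?_) (fun y _ z _ e => add_right_cancel e)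
      fun z hz => ⟨z - Pi.single j ((d' - d) / x j), ?_, sub_add_cancel _ _⟩
    · rw [mem_filter] at hy ⊢
      refine ⟨mem_univ _, ?_⟩
      simp only [Pi.add_apply, mul_add, sum_add_distrib, hy.2, Pi.single_apply, mul_ite, mul_zero, sum_ite_eq', mem_univ,
        if_true]
      field_simp
      ring
    · rw [mem_filter] at hz ⊢
      refine ⟨mem_univ _, ?_⟩
      simp only [Pi.sub_apply, mul_sub, sum_sub_distrib, hz.2, Pi.single_apply, mul_ite, mul_zero, sum_ite_eq', mem_univ,
        if_true]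
      field_simp
      ring
  have h1 := card_eq_sum_card_fiberwise (s := (univ : Finset (Fin m → F))) (t := (univ : Finset F))
    (f := fun y => ∑ i, x i * y i) fun _ _ => mem_univ _
  rw [sum_congr rfl fun d' _ => key d' d, sum_const, card_univ, card_univ, Fintype.card_fun, Fintype.card_fin,
    smul_eq_mul] at h1
  exact h1.symm

/-- the vectors with given norm, first form -/
theorem cnt_aux (c : F) : Nat.card {v : W m F // qf v = c} + Fintype.card F ^ m =
    Fintype.card F ^ (2 * m) + (univ.filter fun a : F => a ^ 2 = c).card * Fintype.card F ^ m := by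
  let e : {v : W m F // qf v = c} ≃ Σ x : Fin m → F, {p : F × (Fin m → F) // ∑ i, x i * p.2 i = c - p.1 ^ 2} :=
    { toFun := fun v => ⟨fun i => v.1 (.inr (.inl i)), ⟨(v.1 (.inl ()), fun i => v.1 (.inr (.inr i))), by
        have := v.2
        unfold qf quadFormOdd at this
        exact eq_sub_of_add_eq' this⟩⟩
      invFun := fun s => ⟨Sum.elim (fun _ => s.2.1.1) (Sum.elim s.1 s.2.1.2), by
        have := s.2.2
        unfold qf quadFormOdd
        simp only [Sum.elim_inl, Sum.elim_inr]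
        rw [this]
        ring⟩
      left_inv := fun v => Subtype.ext (funext fun i => by rcases i with _ | i | i <;> rfl)
      right_inv := fun s => rfl }
  have h1 : ∀ x : Fin m → F, Fintype.card {p : F × (Fin m → F) // ∑ i, x i * p.2 i = c - p.1 ^ 2} =
      ∑ a : F, (univ.filter fun y : Fin m → F => ∑ i, x i * y i = c - a ^ 2).card := by
    intro x
    rw [Fintype.card_subtype, card_filter, Fintype.sum_prod_type]
    exact sum_congr rfl fun a _ => (card_filter _ _).symm
  have h2 : ∀ x : Fin m → F, x ≠ 0 → Fintype.card {p : F × (Fin m → F) // ∑ i, x i * p.2 i = c - p.1 ^ 2} =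
      Fintype.card F ^ m := by
    intro x hx
    refine Nat.eq_of_mul_eq_mul_left (Fintype.card_pos (α := F)) ?_
    rw [h1, mul_sum, sum_congr rfl fun a _ => card_dot hx (c - a ^ 2), sum_const, card_univ, smul_eq_mul]
  have h3 : Fintype.card {p : F × (Fin m → F) // ∑ i, (0 : Fin m → F) i * p.2 i = c - p.1 ^ 2} =
      (univ.filter fun a : F => a ^ 2 = c).card * Fintype.card F ^ m := by
    rw [h1, card_filter, sum_mul]
    refine sum_congr rfl fun a _ => ?_
    simp only [Pi.zero_apply, zero_mul, sum_const_zero]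
    by_cases h : a ^ 2 = c
    · rw [if_pos h, filter_true_of_mem fun _ _ => by rw [h, sub_self], card_univ, Fintype.card_fun, Fintype.card_fin,
        one_mul]
    · rw [if_neg h, filter_false_of_mem fun _ _ e => h (sub_eq_zero.1 e.symm).symm, card_empty, zero_mul]
  rw [Nat.card_congr e, Nat.card_eq_fintype_card, Fintype.card_sigma, ← add_sum_erase _ _ (mem_univ (0 : Fin m → F)), h3,
    sum_congr rfl fun x hx => h2 x (ne_of_mem_erase hx), sum_const, card_erase_of_mem (mem_univ _), card_univ,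
    Fintype.card_fun, Fintype.card_fin, smul_eq_mul, two_mul, pow_add]
  have h4 : 1 ≤ Fintype.card F ^ m := Nat.one_le_pow _ _ Fintype.card_pos
  obtain ⟨k, hk⟩ := Nat.exists_eq_add_of_le h4
  rw [hk, Nat.add_sub_cancel_left]
  ring

theorem boxCnt : BoxCnt := by
  intro F _ _ m hodd c
  have h2 := two_ne hodd
  have h := cnt_aux (m := m) c
  have h4 : 1 ≤ Fintype.card F ^ m := Nat.one_le_pow _ _ Fintype.card_pos
  refine ⟨fun e => ?_, fun h0 ⟨d, hd⟩ => ?_, fun hc => ?_⟩
  · have h1 : (univ.filter fun a : F => a ^ 2 = c) = {0} := by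
      ext a
      simp [e]
    rw [h1, card_singleton, one_mul] at h
    exact Nat.add_right_cancel h
  · have hd0 : d ≠ 0 := fun e => h0 (by rw [hd, e, mul_zero])
    have h1 : (univ.filter fun a : F => a ^ 2 = c) = {d, -d} := by
      ext a
      simp only [mem_filter, mem_univ, true_and, mem_insert, mem_singleton, hd, ← _root_.sq, sq_eq_sq_iff_eq_or_eq_neg]
    have h3 : d ≠ -d := fun e => mul_ne_zero h2 hd0 (by linear_combination e)
    rw [h1, card_pair h3, two_mul m, pow_add] at h
    rw [mul_add, mul_one]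
    omega
  · have h1 : (univ.filter fun a : F => a ^ 2 = c) = ∅ := filter_false_of_mem fun a _ e => hc ⟨a, by rw [← e, _root_.sq]⟩
    rw [h1, card_empty, zero_mul, add_zero, two_mul m, pow_add] at h
    rw [Nat.mul_sub, mul_one]
    omega

/-- a group which is transitive up to sign on the vectors of norm `c` -/
theorem orbit_dvd {K : Subgroup (GL (I m) F)} (hK : K ≤ Is m F) {v : W m F}
    (h : ∀ w, qf w = qf v → ∃ y ∈ K, ap y v = w ∨ ap y v = -w) : Nat.card {w : W m F // qf w = qf v} ∣ 2 * Nat.card K := by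
  let act : MulAction (ℤˣ × K) (W m F) :=
    { smul := fun g w => (g.1 : ℤ) • ap g.2.1 w
      one_smul := fun w => by
        change ((1 : ℤˣ) : ℤ) • ap 1 w = w
        rw [ap_one, Units.val_one, one_smul]
      mul_smul := fun g k w => by
        change ((g.1 * k.1 : ℤˣ) : ℤ) • ap (g.2.1 * k.2.1) w = (g.1 : ℤ) • ap g.2.1 ((k.1 : ℤ) • ap k.2.1 w)
        rw [ap_mul, Units.val_mul, mul_smul]
        rcases Int.units_eq_one_or k.1 with e | e <;> simp [e, ap_neg] }
  have h1 : MulAction.orbit (ℤˣ × K) v = {w | qf w = qf v} := by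
    ext w
    constructor
    · rintro ⟨g, rfl⟩
      change qf ((g.1 : ℤ) • ap g.2.1 v) = qf v
      rcases Int.units_eq_one_or g.1 with e | e <;> simp [e, qf_neg, mem_Is.1 (hK g.2.2)]
    · intro hw
      obtain ⟨y, hy, e | e⟩ := h w hw
      · exact ⟨(1, ⟨y, hy⟩), show ((1 : ℤˣ) : ℤ) • ap y v = w by simp [e]⟩
      · exact ⟨(-1, ⟨y, hy⟩), show ((-1 : ℤˣ) : ℤ) • ap y v = w by simp [e]⟩
  have h2 : Nat.card (MulAction.orbit (ℤˣ × K) v) ∣ Nat.card (ℤˣ × K) := by
    rw [Nat.card_coe_set_eq, ← MulAction.index_stabilizer]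
    exact Subgroup.index_dvd_card _
  rw [h1, Nat.card_prod, show Nat.card ℤˣ = 2 by rw [Nat.card_eq_fintype_card]; rfl] at h2
  exact h2

theorem exists_qf (hm : 1 ≤ m) (c : F) : ∃ v : W m F, v ≠ 0 ∧ qf v = c := by
  let i : Fin m := ⟨0, hm⟩
  refine ⟨Pi.single (.inr (.inl i)) 1 + Pi.single (.inr (.inr i)) c, fun e => ?_, ?_⟩
  · simpa using congrFun e (.inr (.inl i))
  · simp [qf, quadFormOdd, Pi.single_apply]

theorem exists_minus (hodd : Odd (Fintype.card F)) (hm : 1 ≤ m) : ∃ v : W m F, ¬ IsSquare (qf v) := by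
  obtain ⟨c, hc⟩ := FiniteField.exists_nonsquare (F := F) fun e =>
    two_ne hodd (by exact_mod_cast (ringChar.spec F 2).2 (e ▸ dvd_rfl))
  obtain ⟨v, -, hv⟩ := exists_qf hm c
  exact ⟨v, hv ▸ hc⟩

theorem TrM.dvd (hodd : Odd (Fintype.card F)) (hm : 1 ≤ m) {K : Subgroup (GL (I m) F)} (hK : K ≤ Is m F) (h : TrM K) :
    Fintype.card F ^ m * (Fintype.card F ^ m - 1) ∣ 2 * Nat.card K := by
  obtain ⟨v, hv⟩ := exists_minus hodd hm
  rw [← (boxCnt F m hodd (qf v)).2.2 hv]
  exact orbit_dvd hK fun w hw => h v w hv hw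

theorem sgn_of_fix {x : GL (I m) F} (hx : x ∈ Is m F) {v : W m F} (hv : qf v ≠ 0) {c : F} (h : ap x v = c • v) :
    c = 1 ∨ c = -1 := by
  have h1 := mem_Is.1 hx v
  rw [h, qf_smul] at h1
  exact sq_eq_one_iff.1 (mul_right_cancel₀ hv (h1.trans (one_mul _).symm))

/-- the partner of the stabiliser of a non-singular point -/
theorem Pd.dvd (hG : Good (oddForm m F)) {X Y : Subgroup (GL (I m) F)} (h : Pd X Y) {v : W m F} (hv : qf v ≠ 0)
    (hX : ∀ x ∈ X, ∃ c : F, ap x v = c • v) : Nat.card {w : W m F // qf w = qf v} ∣ 2 * Nat.card Y := by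
  refine orbit_dvd (h.right.le.trans Om_le) fun w hw => ?_
  obtain ⟨g, hg, eg⟩ := trans_norm hG (ne_of_qf hv) (ne_of_qf (hw ▸ hv)) hw.symm
  obtain ⟨y, hy, x, hx, rfl⟩ := h.symm.mul g hg
  obtain ⟨c, hc⟩ := hX x hx
  refine ⟨y, hy, ?_⟩
  rw [ap_mul, hc] at eg
  rcases sgn_of_fix (Om_le (h.left.le hx)) hv hc with rfl | rfl
  · exact Or.inl (by rwa [one_smul] at eg)
  · rw [neg_smul, one_smul, ap_neg] at eg
    exact Or.inr (neg_eq_iff_eq_neg.1 eg)

end Cfsg.Agent.SM.Oo
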