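import Cfsg.Agent.SM.Mat.Tool
import Cfsg.Agent.SM.Rig
import Cfsg.Agent.SM.Oo.Tab
import Cfsg.Agent.H64.SubG2
import Cfsg.Prelude.Def_GeometricClasses

/-!
# SM (S3570), family `fO` (`S = Ω_{2m+1}(q)`, `q` odd): definitions and boxes (helper96, plan in `notes/SM/oodd.md`)

Everything happens in `Perm W`, `W = F^(2m+1)` with the form `qf`; `S` is `Ω` acting on the vectors (`lin`), `M` consists of
semilinear isometries of determinant one (`Sem`); `pre X ≤ Ω` are the matrices of `X ⊓ S`.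
-/

set_option autoImplicit false
set_option linter.unusedSectionVars false

namespace Cfsg.Agent.SM.Oo

open Cfsg Cfsg.Geo Matrix Equiv
open scoped MatrixGroups

/-- the coordinates -/
abbrev I (m : ℕ) : Type := Unit ⊕ (Fin m ⊕ Fin m)

/-- the space -/
abbrev W (m : ℕ) (F : Type) : Type := I m → F

section defs

variable {m : ℕ} {F : Type} [Field F]

/-- the quadratic form -/
abbrev qf (v : W m F) : F := quadFormOdd m F v

/-- its polar form -/
abbrev bf (u v : W m F) : F := QuadraticMap.polar (quadFormOdd m F) u v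

/-- the isometries -/
abbrev Is (m : ℕ) (F : Type) [Field F] : Subgroup (GL (I m) F) := isometryGroup F (quadFormOdd m F)

/-- `Ω` -/
abbrev Om (m : ℕ) (F : Type) [Field F] : Subgroup (GL (I m) F) := omegaGL (quadFormOdd m F)

/-- the action on vectors -/
abbrev ap (g : GL (I m) F) (v : W m F) : W m F := (g : Matrix (I m) (I m) F) *ᵥ v

/-- matrices as permutations of the vectors -/
def lin : GL (I m) F →* Perm (W m F) := MulAction.toPermHom (GL (I m) F) (W m F)

theorem lin_apply (g : GL (I m) F) (v : W m F) : lin g v = ap g v := rfl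

theorem lin_injective : Function.Injective (lin : GL (I m) F →* Perm (W m F)) := fun g h e =>
  Units.ext (Matrix.toLin'.injective (LinearMap.ext fun v => by
    rw [Matrix.toLin'_apply, Matrix.toLin'_apply]
    exact congrArg (fun k : Perm (W m F) => k v) e))

theorem ap_mul (g h : GL (I m) F) (v : W m F) : ap (g * h) v = ap g (ap h v) := by
  simp only [ap, Units.val_mul, mulVec_mulVec]

theorem ap_one (v : W m F) : ap (1 : GL (I m) F) v = v := by simp [ap]

theorem ap_inv_ap (g : GL (I m) F) (v : W m F) : ap g⁻¹ (ap g v) = v := by rw [← ap_mul, inv_mul_cancel, ap_one]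

theorem ap_ap_inv (g : GL (I m) F) (v : W m F) : ap g (ap g⁻¹ v) = v := by rw [← ap_mul, mul_inv_cancel, ap_one]

theorem mem_Is {g : GL (I m) F} : g ∈ Is m F ↔ ∀ v, qf (ap g v) = qf v := ⟨fun h v => h v v, fun h v _ => h v⟩

theorem Om_le : Om m F ≤ Is m F := Subgroup.map_subtype_le _

/-- a field automorphism on matrices -/
def tw (σ : F ≃+* F) : GL (I m) F →* GL (I m) F := Matrix.GeneralLinearGroup.map (σ : F →+* F)

theorem ap_tw (σ : F ≃+* F) (a : GL (I m) F) (v : W m F) : ap (tw σ a) (σ ∘ v) = σ ∘ ap a v :=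
  funext fun i => (RingHom.map_mulVec (σ : F →+* F) (a : Matrix (I m) (I m) F) v i).symm

theorem qf_tw (σ : F ≃+* F) (v : W m F) : qf (σ ∘ v) = σ (qf v) := by
  simp [qf, quadFormOdd, map_sum]

theorem comp_symm (σ : F ≃+* F) (v : W m F) : σ ∘ (σ.symm ∘ v) = v := funext fun _ => σ.apply_symm_apply _

theorem symm_comp (σ : F ≃+* F) (v : W m F) : σ.symm ∘ (σ ∘ v) = v := funext fun _ => σ.symm_apply_apply _

theorem tw_mem (σ : F ≃+* F) {a : GL (I m) F} (ha : a ∈ Is m F) : tw σ a ∈ Is m F := mem_Is.2 fun v => by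
  rw [← comp_symm σ v, ap_tw, qf_tw, qf_tw, mem_Is.1 ha]

theorem det_tw (σ : F ≃+* F) (a : GL (I m) F) :
    (tw σ a : Matrix (I m) (I m) F).det = σ (a : Matrix (I m) (I m) F).det :=
  ((σ : F →+* F).map_det (a : Matrix (I m) (I m) F)).symm

/-- the semilinear isometries of determinant one -/
def Sem (m : ℕ) (F : Type) [Field F] : Subgroup (Perm (W m F)) where
  carrier := {g | ∃ (σ : F ≃+* F) (a : GL (I m) F), a ∈ Is m F ∧ (a : Matrix (I m) (I m) F).det = 1 ∧
    ∀ v, g v = ap a (σ ∘ v)}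
  one_mem' := ⟨RingEquiv.refl F, 1, (Is m F).one_mem, Matrix.det_one, fun v => (ap_one v).symm⟩
  mul_mem' := by
    rintro g h ⟨σ, a, ha, da, hg⟩ ⟨τ, b, hb, db, hh⟩
    refine ⟨τ.trans σ, a * tw σ b, (Is m F).mul_mem ha (tw_mem σ hb), ?_, fun v => ?_⟩
    · rw [Units.val_mul, Matrix.det_mul, da, det_tw, db, map_one, one_mul]
    · rw [Perm.mul_apply, hg, hh, ap_mul, ← ap_tw]
      rfl
  inv_mem' := by
    rintro g ⟨σ, a, ha, da, hg⟩
    refine ⟨σ.symm, tw σ.symm a⁻¹, tw_mem _ ((Is m F).inv_mem ha), ?_, fun v => ?_⟩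
    · have h1 : (a : Matrix (I m) (I m) F).det * ((a⁻¹ : GL (I m) F) : Matrix (I m) (I m) F).det = 1 := by
        rw [← Matrix.det_mul, ← Units.val_mul, mul_inv_cancel, Units.val_one, Matrix.det_one]
      rw [da, one_mul] at h1
      rw [det_tw, h1, map_one]
    · rw [Perm.inv_eq_iff_eq, hg, ap_tw, comp_symm, ap_ap_inv]

/-- the matrices of `X ⊓ S` -/
def pre (X : Subgroup (Perm (W m F))) : Subgroup (GL (I m) F) := X.comap lin ⊓ Om m F

theorem mem_pre {X : Subgroup (Perm (W m F))} {x : GL (I m) F} : x ∈ pre X ↔ lin x ∈ X ∧ x ∈ Om m F := Iff.rfl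

/-- `X` fixes the point `⟨v⟩` -/
def FixP (X : Subgroup (Perm (W m F))) (v : W m F) : Prop := ∀ g ∈ X, ∃ c : F, g v = c • v

/-- `X` fixes the subspace `U` -/
def FixS (X : Subgroup (Perm (W m F))) (U : Submodule F (W m F)) : Prop := ∀ g ∈ X, ∀ u ∈ U, g u ∈ U

/-- `U` is invariant under the matrix group `X` -/
def Inv (X : Subgroup (GL (I m) F)) (U : Submodule F (W m F)) : Prop := ∀ x ∈ X, ∀ u ∈ U, ap x u ∈ U

/-- irreducible -/
def Irr (X : Subgroup (GL (I m) F)) : Prop := ∀ U, Inv X U → U = ⊥ ∨ U = ⊤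

/-- totally singular -/
def Ts (U : Submodule F (W m F)) : Prop := ∀ u ∈ U, qf u = 0

/-- `X` fixes the minus point `⟨v⟩` and is irreducible on its perp -/
structure Pt (X : Subgroup (GL (I m) F)) (v : W m F) : Prop where
  mn : ¬ IsSquare (qf v)
  fix : ∀ x ∈ X, ap x v = v ∨ ap x v = -v
  inv : ∀ U, Inv X U → U = ⊥ ∨ U = ⊤ ∨ U = Submodule.span F {v} ∨ ∀ w, w ∈ U ↔ bf v w = 0

/-- transitive on the minus points -/
def TrM (Y : Subgroup (GL (I m) F)) : Prop :=
  ∀ v w : W m F, ¬ IsSquare (qf v) → qf w = qf v → ∃ y ∈ Y, ap y v = w ∨ ap y v = -w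

/-- `Ω = X Y` with proper factors -/
structure Pd (X Y : Subgroup (GL (I m) F)) : Prop where
  left : X < Om m F
  right : Y < Om m F
  mul : ∀ g ∈ Om m F, ∃ x ∈ X, ∃ y ∈ Y, g = x * y

/-- **the factorisation in the model** -/
structure OF (M H T B : Subgroup (Perm (W m F))) : Prop where
  fac : Fac M ((Om m F).map lin) H T B
  sem : M ≤ Sem m F

/-- a model of the almost simple group `M` with socle `S` -/
structure Md {Γ : Type} [Group Γ] (M S : Subgroup Γ) (φ : M →* Perm (W m F)) : Prop where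
  inj : Function.Injective φ
  sem : ∀ g, φ g ∈ Sem m F
  om : ∀ g : M, (g : Γ) ∈ S ↔ φ g ∈ (Om m F).map lin
  surj : ∀ x ∈ Om m F, ∃ g : M, φ g = lin x

/-- the image in the model -/
def im {Γ : Type} [Group Γ] {M : Subgroup Γ} (φ : M →* Perm (W m F)) (X : Subgroup Γ) : Subgroup (Perm (W m F)) :=
  (X.subgroupOf M).map φ

theorem Md.im_soc {Γ : Type} [Group Γ] {M S : Subgroup Γ} {φ : M →* Perm (W m F)} (h : Md M S φ) :
    im φ S = (Om m F).map lin := by
  ext k
  constructor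
  · rintro ⟨g, hg, rfl⟩
    exact (h.om g).1 hg
  · rintro ⟨x, hx, rfl⟩
    obtain ⟨g, hg⟩ := h.surj x hx
    exact ⟨g, (h.om g).2 ⟨x, hx, hg.symm⟩, hg⟩

theorem Md.mem_im {Γ : Type} [Group Γ] {M S X : Subgroup Γ} {φ : M →* Perm (W m F)} (h : Md M S φ) {g : M} :
    φ g ∈ im φ X ↔ (g : Γ) ∈ X := Subgroup.mem_map_iff_mem h.inj

theorem Md.of {Γ : Type} [Group Γ] {M S H T B : Subgroup Γ} {φ : M →* Perm (W m F)} (h : Md M S φ) (f : Fac M S H T B) :
    OF (im φ M) (im φ H) (im φ T) (im φ B) := by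
  refine ⟨?_, ?_⟩
  · rw [← h.im_soc]
    exact f.top.map h.inj
  · rintro _ ⟨g, -, rfl⟩
    exact h.sem g

/-! ### dimension seven -/

open Cfsg.Agent.H64.SubG2 (inc cor) in
/-- the commutator of octonions of trace zero -/
def cr (u v : W 3 F) : W 3 F := cor F (Lie.zornMul (inc F u) (inc F v) - Lie.zornMul (inc F v) (inc F u))

/-- the permutations which keep the product -/
def CrG (F : Type) [Field F] : Subgroup (Perm (W 3 F)) where
  carrier := {g | ∀ u v, g (cr u v) = cr (g u) (g v)}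
  one_mem' := fun _ _ => rfl
  mul_mem' := fun {g h} hg hh u v => by rw [Perm.mul_apply, hh, hg]; rfl
  inv_mem' := fun {g} hg u v => by
    rw [Perm.inv_eq_iff_eq, hg]
    simp

/-- the standard `G₂(q)` in `Ω₇(q)` -/
def G0 (F : Type) [Field F] : Subgroup (GL (I 3) F) := pre (CrG F)

/-- `Y` lies in a conjugate of `G₂(q)` -/
def G2c (Y : Subgroup (GL (I 3) F)) : Prop :=
  ∃ θ ∈ Is 3 F, (θ : Matrix (I 3) (I 3) F).det = 1 ∧ ∀ y ∈ Y, θ⁻¹ * y * θ ∈ G0 F

/-- `Y` lies in a maximal subgroup with socle `A₉` or `Sp₆(2)` -/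
def Sm (Y : Subgroup (GL (I 3) F)) : Prop :=
  ∃ K P : Subgroup (GL (I 3) F), IsMaximalIn (Om 3 F) K ∧ Y ≤ K ∧ IsResidualCore K P ∧
    (Nonempty ((P ⧸ (scalars (I 3) F).subgroupOf P) ≃* alternatingGroup (Fin 9)) ∨
      Nonempty ((P ⧸ (scalars (I 3) F).subgroupOf P) ≃* PSp 3 (ZMod 2)))

end defs

/-! ### the boxes -/

/-- the number of vectors of each norm -/
def BoxCnt : Prop := ∀ (F : Type) [Field F] [Fintype F] (m : ℕ), Odd (Fintype.card F) → ∀ c : F,
  (c = 0 → Nat.card {v : W m F // qf v = c} = Fintype.card F ^ (2 * m)) ∧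
  (c ≠ 0 → IsSquare c → Nat.card {v : W m F // qf v = c} = Fintype.card F ^ m * (Fintype.card F ^ m + 1)) ∧
  (¬ IsSquare c → Nat.card {v : W m F // qf v = c} = Fintype.card F ^ m * (Fintype.card F ^ m - 1))

/-- **step A**: one factor fixes a minus point -/
def BoxA : Prop := ∀ (F : Type) [Field F] [Fintype F] (m : ℕ), Odd (Fintype.card F) → 4 ≤ m →
  ∀ X Y : Subgroup (GL (I m) F), Pd X Y → ∃ v, Pt X v ∨ Pt Y v

/-- the invariant subspaces of a group which is transitive on the minus points -/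
def BoxRed : Prop := ∀ (F : Type) [Field F] [Fintype F] (m : ℕ), Odd (Fintype.card F) → 3 ≤ m →
  ∀ K : Subgroup (GL (I m) F), K ≤ Is m F → TrM K → ¬ Irr K →
    ∃ U : Submodule F (W m F), Ts U ∧ Module.finrank F U = m ∧ Inv K U ∧
      ∀ U' : Submodule F (W m F), Ts U' → U' ≠ ⊥ → Inv K U' → U' = U

/-- the geometric classes -/
def BoxGeo : Prop := ∀ (F : Type) [Field F] [Fintype F] (m : ℕ), Odd (Fintype.card F) → 3 ≤ m →
  ∀ K L : Subgroup (GL (I m) F), InOrthogonalOddClass m F L → K ≤ L → TrM K → ¬ Irr K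

/-- the residual class in the dimensions 9 and 11 -/
def BoxS : Prop := ∀ (F : Type) [Field F] [Fintype F] (m : ℕ), Odd (Fintype.card F) → (m = 4 ∨ m = 5) →
  ∀ K : Subgroup (GL (I m) F), IsMaximalIn (Om m F) K → InOrthogonalResidualClass K → ¬ TrM K

/-- the residual class in dimension at least 13 -/
def BoxCS : Prop := ∀ (F : Type) [Field F] [Fintype F] (m : ℕ), Odd (Fintype.card F) → 6 ≤ m →
  ∀ (M H T B : Subgroup (Perm (W m F))) (v : W m F), OF M H T B →
    (Pt (pre B) v → FixP B v → TrM (pre T) → ¬ InOrthogonalResidualClass (pre T)) ∧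
    (Pt (pre T) v → FixP H v → TrM (pre B) → ¬ InOrthogonalResidualClass (pre B))

/-- the groups `G₂(q)` of the residual class -/
def BoxRep : Prop := ∀ (F : Type) [Field F] [Fintype F], Odd (Fintype.card F) →
  ∀ K P : Subgroup (GL (I 3) F), K ≤ Om 3 F → IsResidualCore K P →
    Nonempty ((P ⧸ (scalars (I 3) F).subgroupOf P) ≃* Lie.G2 F) → G2c K

/-- **dimension seven**: the list -/
def Box7 : Prop := ∀ (F : Type) [Field F] [Fintype F], Odd (Fintype.card F) →
  ∀ M H T B : Subgroup (Perm (W 3 F)), OF M H T B →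
    (G2c (pre T) ∧ Irr (pre T)) ∨ (G2c (pre B) ∧ Irr (pre B)) ∨
    (∃ U : Submodule F (W 3 F), Ts U ∧ Module.finrank F U = 3 ∧ (FixS H U ∨ FixS B U)) ∨
    (Fintype.card F = 3 ∧ ∃ w : W 3 F, qf w = 1 ∧ ((FixP B w ∧ Sm (pre T)) ∨ (FixP H w ∧ Sm (pre B))))

/-- the partner of `G₂(q)` -/
def BoxG : Prop := ∀ (F : Type) [Field F] [Fintype F], Odd (Fintype.card F) →
  ∀ M H T B : Subgroup (Perm (W 3 F)), OF M H T B → pre T = G0 F → H ≤ CrG F →
    (∃ v : W 3 F, v ≠ 0 ∧ FixP B v) ∨ (Fintype.card F = 3 ∧ Sm (pre B))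

/-- **the spin module**: on the cosets of `G₂(q)` and of `P₃` the group `M` lies properly in `PΓO₈⁺(q)` -/
def BoxSpin : Prop := ∀ (F : Type) [Field F] [Fintype F], Odd (Fintype.card F) →
  ∀ (Ω : Type) [Fintype Ω] [DecidableEq Ω] (X H T M S : Subgroup (Perm Ω)) (φ : M →* Perm (W 3 F)) (a : Ω),
    Up X H T M S → Md M S φ →
    (¬ ∀ g : M, (g : Perm Ω) a = a ↔ φ g ∈ CrG F) ∧
    ∀ U : Submodule F (W 3 F), Ts U → Module.finrank F U = 3 → ¬ ∀ g : M, (g : Perm Ω) a = a ↔ ∀ u ∈ U, φ g u ∈ U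

/-- `Ω₇(3)` on the 378 plus points, `T` in `Sp₆(2)` or `S₉` -/
def BoxE1 : Prop := ∀ (M H T B : Subgroup (Perm (W 3 (ZMod 3)))) (w : W 3 (ZMod 3)), OF M H T B → qf w = 1 → FixP B w →
  Sm (pre T) → False

/-- `H` fixes a plus point, `B ⊓ S` in `Sp₆(2)` or `S₉` -/
def BoxE3 : Prop := ∀ (M H T B : Subgroup (Perm (W 3 (ZMod 3)))) (w : W 3 (ZMod 3)), OF M H T B → qf w = 1 → FixP H w →
  Sm (pre B) → False

/-- the overgroups `Ω₇(3)` of `G₂(3)` with `B ⊓ S` in `Sp₆(2)` or `S₉` -/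
def OvE {Ω : Type} [Fintype Ω] [DecidableEq Ω] (X H T : Subgroup (Perm Ω)) (a : Ω) : Set (Subgroup (Perm Ω)) :=
  {M | ∃ (S : Subgroup (Perm Ω)) (φ : M →* Perm (W 3 (ZMod 3))), Up X H T M S ∧ Md M S φ ∧
    pre (im φ T) = G0 (ZMod 3) ∧ im φ H ≤ CrG (ZMod 3) ∧ Sm (pre (im φ (M ⊓ MulAction.stabilizer (Perm Ω) a)))}

/-- `G₂(3) < Ω₇(3)` on the cosets of `Sp₆(2)` and `S₉` -/
def BoxE4 : Prop := ∀ (Ω : Type) [Fintype Ω] [DecidableEq Ω] (X H T : Subgroup (Perm Ω)) (a : Ω),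
  (OvE X H T a).Nonempty → (Fintype.card Ω = 3159 ∨ Fintype.card Ω = 12636 ∨ Fintype.card Ω = 25272) ∧
    (OvE X H T a).ncard ≤ 4

end Cfsg.Agent.SM.Oo
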