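import Cfsg.Agent.SM.Oo.E1C
import Cfsg.Agent.SM.Mat.Sieve
import Cfsg.Agent.LieClassical.SympCount
import Cfsg.Agent.Involutions.IndexFive

/-!
# SM (S3570), family `fO`: box E1 (helper94)
-/

set_option autoImplicit false
set_option linter.unusedSectionVars false

namespace Cfsg.Agent.SM.Oo.E

open Cfsg Cfsg.Geo Equiv Cfsg.Agent.H856.Sv Cfsg.Agent.H856.SpS
open scoped MatrixGroups

/-- the orbit of a point, with a subgroup of the stabiliser -/
theorem orbit_dvd2 {K A : Subgroup G7} (hK : K ≤ Is 3 (ZMod 3)) (hA : A ≤ K) {v : W7} (hv : qf v = 1)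
    (hAv : ∀ a ∈ A, ∃ c : ZMod 3, ap a v = c • v) (h : ∀ w, qf w = 1 → ∃ y ∈ K, ∃ c : ZMod 3, ap y (c • v) = w) :
    378 * Nat.card A ∣ Nat.card K := by
  let act : MulAction ((ZMod 3)ˣ × K) W7 :=
    { smul := fun g w => (g.1 : ZMod 3) • ap g.2.1 w
      one_smul := fun w => by
        change ((1 : (ZMod 3)ˣ) : ZMod 3) • ap 1 w = w
        rw [ap_one, Units.val_one, one_smul]
      mul_smul := fun g k w => by
        change ((g.1 * k.1 : (ZMod 3)ˣ) : ZMod 3) • ap (g.2.1 * k.2.1) w = (g.1 : ZMod 3) • ap g.2.1 ((k.1 : ZMod 3) • ap k.2.1 w)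
        rw [ap_mul, Units.val_mul, mul_smul, ap_smul] }
  have hv0 : v ≠ 0 := ne_of_qf (by rw [hv]; exact one_ne_zero)
  have hsq : ∀ c : (ZMod 3)ˣ, (c : ZMod 3) ^ 2 = 1 := by decide
  have h1 : MulAction.orbit ((ZMod 3)ˣ × K) v = {w | qf w = 1} := by
    ext w
    constructor
    · rintro ⟨g, rfl⟩
      change qf ((g.1 : ZMod 3) • ap g.2.1 v) = 1
      rw [qf_smul, hsq, one_mul, mem_Is.1 (hK g.2.2), hv]
    · intro hw
      obtain ⟨y, hy, c, e⟩ := h w hw
      have hc : c ≠ 0 := by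
        rintro rfl
        rw [zero_smul, ap_zero] at e
        rw [Set.mem_ofPred_eq, ← e, qf_zero] at hw
        exact zero_ne_one hw
      exact ⟨(Units.mk0 c hc, ⟨y, hy⟩), show c • ap y v = w by rw [← ap_smul, e]⟩
  have h2 := (MulAction.stabilizer ((ZMod 3)ˣ × K) v).card_mul_index
  have h3 : Nat.card {w : W7 // qf w = 1} = 756 := by
    rw [(boxCnt (ZMod 3) 3 (by rw [ZMod.card]; decide) 1).2.1 one_ne_zero IsSquare.one, ZMod.card]
    norm_num
  rw [MulAction.index_stabilizer, h1, ← Nat.card_coe_set_eq, Nat.card_prod,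
    show Nat.card (ZMod 3)ˣ = 2 by rw [Nat.card_eq_fintype_card]; rfl] at h2
  let p : MulAction.stabilizer ((ZMod 3)ˣ × K) v →* G7 :=
    K.subtype.comp ((MonoidHom.snd _ _).comp (MulAction.stabilizer ((ZMod 3)ˣ × K) v).subtype)
  have hp : Function.Injective p := by
    rw [injective_iff_map_eq_one]
    rintro ⟨⟨c, y, hy⟩, hg⟩ e
    obtain rfl : y = 1 := e
    have h4 : (c : ZMod 3) • ap 1 v = v := hg
    rw [ap_one] at h4
    obtain rfl : c = 1 := Units.ext (smul_left_injective (ZMod 3) hv0 (h4.trans (one_smul _ v).symm))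
    rfl
  have h4 : A ≤ p.range := fun a ha => by
    obtain ⟨c, e⟩ := hAv a ha
    have hc : c * c = 1 := by
      rcases sgn_of_fix (hK (hA ha)) (by rw [hv]; exact one_ne_zero) e with rfl | rfl <;> decide
    exact ⟨⟨(⟨c, c, hc, hc⟩, ⟨a, hA ha⟩), show c • ap a v = v by rw [e, smul_smul, hc, one_smul]⟩, rfl⟩
  have h5 := Subgroup.card_dvd_of_le h4
  rw [← Nat.card_congr (MonoidHom.ofInjective hp).toEquiv] at h5
  have h6 : Nat.card K = 378 * Nat.card (MulAction.stabilizer ((ZMod 3)ˣ × K) v) := by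
    have h7 : Nat.card ({w | qf w = 1} : Set W7) = 756 := h3
    rw [h7] at h2
    omega
  rw [h6]
  exact Nat.mul_dvd_mul_left _ h5

theorem card_pre {X : Subgroup (Perm W7)} (h : X ≤ (Om 3 (ZMod 3)).map lin) : Nat.card (pre X) = Nat.card X := by
  rw [← card_map_lin, map_pre, inf_eq_right.2 h]

theorem fixP_smul {X : Subgroup (Perm W7)} (hX : X ≤ Sem 3 (ZMod 3)) {w : W7} (h : FixP X w) (c : ZMod 3) : FixP X (c • w) :=
  fun g hg => by
    obtain ⟨a, -, -, rfl⟩ := sem3 (hX hg)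
    obtain ⟨d, e⟩ := h _ hg
    exact ⟨d, by rw [lin_apply, ap_smul, ← lin_apply, e, smul_comm]⟩

theorem pd_trans {X Y : Subgroup G7} (h : Pd X Y) {w : W7} (hw : qf w = 1) (hX : ∀ x ∈ X, ∃ c : ZMod 3, ap x w = c • w)
    (v : W7) (hv : qf v = 1) : ∃ y ∈ Y, ∃ c : ZMod 3, ap y (c • w) = v :=
  h.trans good3 (ne_of_qf (by rw [hw]; exact one_ne_zero)) hX (ne_of_qf (by rw [hv]; exact one_ne_zero)) (hw.trans hv.symm)

/-- **box E1** -/
theorem boxE1 : BoxE1 := by
  intro M H T B w h hw hB hS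
  obtain ⟨K, P, hK, hY, hA, hi, L, s, φ, b, d, hb, f⟩ := Sm.model hS
  have hPO : P ≤ Om 3 (ZMod 3) := hA.le.trans hK
  have hA' := hA.map lin_injective
  have hTK : T ≤ K.map lin := h.map_pre ▸ Subgroup.map_mono hY
  have hTP : T ≤ P.map lin := by
    rcases h.fac.asH.inf_or_le (N := P.map lin) (fun g hg x hx => hA'.conj g (hTK hg) x hx.1) with k | k
    · exact absurd (hA'.solvable hTK (by rw [inf_comm, k])) h.fac.asH.not_solvable
    · exact k
  have ht := pd_trans h.pd.symm hw fun x hx => hB _ hx.1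
  have h1 := orbit_dvd2 (A := pre (T ⊓ B)) (h.pd.left.le.trans Om_le) (fun x hx => ⟨hx.1.1, hx.2⟩) hw
    (fun x hx => hB _ hx.1.2) ht
  rw [card_pre h.fac.le, card_pre (inf_le_left.trans h.fac.le)] at h1
  have h2 := Fac.card_mul T B
  have h3 : 378 ∣ B.relIndex T := by
    rw [← h2, mul_comm 378] at h1
    exact Nat.dvd_of_mul_dvd_mul_left Nat.card_pos h1
  have h4 : Nat.card T ∣ Nat.card P := card_map_lin P ▸ Subgroup.card_dvd_of_le hTP
  have h5 : Nat.card P = 181440 ∨ Nat.card P = 1451520 := by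
    rcases hi with ⟨⟨e⟩⟩ | ⟨⟨e⟩⟩
    · left
      rw [Nat.card_congr e.toEquiv, nat_card_alternatingGroup, Nat.card_eq_fintype_card, Fintype.card_fin]
      rfl
    · right
      rw [Nat.card_congr e.toEquiv, LieClassical.SympCount.card_symplecticGroup, ZMod.card]
      decide
  have h6 : Nat.card T ∣ 1451520 := h4.trans (by rcases h5 with e | e <;> rw [e]; norm_num)
  have h7 := H940.Eng.D.ords_co3 Mat.base T h.fac.asH.simple (fun k => h.fac.asH.nab ⟨⟨k⟩⟩) (h6.trans (by decide))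
  have h8 : ∀ n ∈ H940.Eng.D.o_co3, n ∣ 1451520 → 378 ∣ n → n = 6048 ∨ n = 181440 ∨ n = 1451520 := by decide
  have hT : T = P.map lin := by
    refine Subgroup.eq_of_le_of_card_ge hTP ?_
    rw [card_map_lin]
    rcases h8 _ h7 h6 ((Dvd.intro _ rfl).trans h1) with e | e | e
    · exfalso
      have h9 : Nat.card ↥(T ⊓ B) ∣ 2 ^ 4 := by
        rw [e] at h1
        exact Nat.dvd_of_mul_dvd_mul_left (by norm_num : 0 < 378) h1
      obtain ⟨k, -, hk⟩ := (Nat.dvd_prime_pow Nat.prime_two).1 h9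
      rcases k with _ | k
      · exact h.fac.nb (Subgroup.card_eq_one.1 hk)
      · have h10 := h.fac.syl_num 2 k 1 Nat.prime_two (by rw [hk, mul_one]) (by norm_num) fun d hd _ => by simpa using hd
        omega
    · rcases h5 with e' | e'
      · rw [e, e']
      · exfalso
        have := hA'.simple
        have h9 := (T.subgroupOf (P.map lin)).card_mul_index
        rw [Nat.card_congr (Subgroup.subgroupOfEquivOfLe hTP).toEquiv, e, card_map_lin, e'] at h9
        have h10 : (T.subgroupOf (P.map lin)).index = 8 := by omega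
        have h11 := Involutions.IndexFive.card_dvd_factorial_index (T.subgroupOf (P.map lin)) fun k => by
          rw [k, Subgroup.index_top] at h10
          omega
        rw [h10, card_map_lin, e'] at h11
        revert h11
        decide
    · rw [e]
      rcases h5 with e' | e' <;> rw [e']
      norm_num
  have hm : ∀ x, lin x ∈ T ↔ x ∈ P := fun x => by rw [hT, Subgroup.mem_map_iff_mem lin_injective]
  have hn : ∀ a, lin a ∈ H → Nm P a := fun a ha x hx => (hm _).1 (by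
    rw [map_mul, map_mul, map_inv]
    exact h.fac.asH.conj _ ha _ ((hm x).2 hx))
  obtain ⟨ψ, c, f', e⟩ := f.adapt hb d (h.pd.left.le.trans Om_le) (fun y hy => hn y (h.fac.asH.le hy.1)) ht
  have hB' : FixP B (ψ w0) := e ▸ fixP_smul h.semB hB c
  obtain ⟨p, hp, ep⟩ := f'.alt C1
  obtain ⟨q, hq, eq⟩ := f'.alt C2
  have key := h.chain (Y := St (Zw ψ L s)) (fun g hg => by
    obtain ⟨a, ha, -, rfl⟩ := sem3 (h.semH hg.1)
    obtain ⟨c, e⟩ := hB' _ hg.2
    exact f'.mem_St ha (hn a hg.1) (hn _ (by rw [map_inv]; exact H.inv_mem hg.1)) e) (fun k => by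
    obtain ⟨r, h9, h10⟩ := d.e1b
    exact h10 ((mem_St_Zw eq).1 (k ((hm q).2 hq)) r h9)) (h.fac.asH.le ((hm p).2 hp)) ((mem_St_Zw ep).2 d.e1a)
  obtain ⟨c', e'⟩ := hB' _ key
  rw [lin_apply, ep, ← map_smul] at e'
  exact act_w0 c' (ψ.injective e')

end Cfsg.Agent.SM.Oo.E
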