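import Cfsg.Agent.SM.Oo.E1
import Cfsg.Agent.H353.IFO.Idx

/-!
# SM (S3570), family `fO`: box E3 (helper94)
-/

set_option autoImplicit false
set_option linter.unusedSectionVars false

namespace Cfsg.Agent.SM.Oo.E

open Cfsg Cfsg.Geo Equiv QuadraticMap Cfsg.Agent.H856.Sv
open Cfsg.Agent.LieClassical.OrthCore Cfsg.Agent.LieClassical.OrthFinite
open Cfsg.Agent.LieClassical.OrthForms (oddForm)
open scoped MatrixGroups

variable {M H T B : Subgroup (Perm W7)} {w : W7}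

theorem det_gl (a : G7) : LinearMap.det (glEquiv (I 3) (ZMod 3) a : W7 →ₗ[ZMod 3] W7) = (a : Matrix (I 3) (I 3) (ZMod 3)).det := by
  rw [← LinearMap.det_toLin']
  rfl

/-- `H` is the full stabiliser of the point -/
theorem mem_H (h : OF M H T B) (hw : qf w = 1) (hH : FixP H w) {g : G7} (hg : lin g ∈ M) (e : ap g w = w) : lin g ∈ H := by
  have h0 : w ≠ 0 := ne_of_qf (by rw [hw]; exact one_ne_zero)
  rw [h.eqH (Y := St (Submodule.span (ZMod 3) {w} : Submodule (ZMod 3) W7)) (le_St (hH.fixS h.semH))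
    (not_Om_le_St good3 (fun k => h0 (Submodule.span_singleton_eq_bot.1 k)) (span_ne_top h0))]
  refine ⟨hg, mem_St_of fun u hu => ?_⟩
  obtain ⟨c, rfl⟩ := Submodule.mem_span_singleton.1 hu
  rw [lin_apply, ap_smul, e]
  exact hu

/-- `M = Ω`: otherwise the stabiliser of the point has a centre -/
theorem le_Om (h : OF M H T B) (hw : qf w = 1) (hH : FixP H w) : M ≤ (Om 3 (ZMod 3)).map lin := by
  by_contra hc
  obtain ⟨m, hm, hm'⟩ := SetLike.not_le_iff_exists.1 hc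
  obtain ⟨a, ha, hd, rfl⟩ := sem3 (h.sem hm)
  have hq : oddForm 3 (ZMod 3) w ≠ 0 := by rw [← Oo.qf_eq, hw]; exact one_ne_zero
  let k : W7 ≃ₗ[ZMod 3] W7 := (LieClassical.OrthCore.refl (oddForm 3 (ZMod 3)) w hq).trans (LinearEquiv.neg (ZMod 3))
  have hk : ∀ v, k v = -v + bf w v • w := fun v => by
    show -(LieClassical.OrthCore.refl (oddForm 3 (ZMod 3)) w hq v) = _
    rw [LieClassical.OrthCore.refl_apply, ← Oo.qf_eq, hw, inv_one, one_mul, ← bf_eq, neg_sub, sub_eq_neg_add]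
  have hkO : k ∈ O (oddForm 3 (ZMod 3)) := fun v => by
    show oddForm 3 (ZMod 3) (-(LieClassical.OrthCore.refl (oddForm 3 (ZMod 3)) w hq v)) = _
    rw [QuadraticMap.map_neg]
    exact refl_mem_O hq v
  have hkd : LinearMap.det (k : W7 →ₗ[ZMod 3] W7) = 1 := by
    rw [show (k : W7 →ₗ[ZMod 3] W7) = (-1 : ZMod 3) • (LieClassical.OrthCore.refl (oddForm 3 (ZMod 3)) w hq : W7 →ₗ[ZMod 3] W7) from
      LinearMap.ext fun v => (neg_one_smul (ZMod 3) _).symm, LinearMap.det_smul, H353.IFO.det_refl, rank7]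
    decide
  clear_value k
  obtain ⟨z, rfl⟩ := (glEquiv (I 3) (ZMod 3)).surjective k
  replace hk : ∀ v, ap z v = -v + bf w v • w := hk
  have hz : lin z ∈ M := by
    by_cases e : z ∈ Om 3 (ZMod 3)
    · exact h.omM e
    · have h1 := H353.IFO.mul_mem_det two3 good3 hkO (mem_Is_iff.1 ha) hkd ((det_gl a).trans hd)
        (fun e' => e ((mem_Om good3).2 e')) fun e' => hm' ⟨a, (mem_Om good3).2 e', rfl⟩
      rw [← map_mul, ← mem_Om good3] at h1
      have h2 := M.mul_mem (h.omM h1) (M.inv_mem hm)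
      rwa [map_mul, mul_inv_cancel_right] at h2
  have h1 : lin z = 1 := h.fac.asH.cen _ (mem_H h hw hH hz (by
    rw [hk, bf_self, hw, mul_one, two_smul, neg_add_cancel_left])) fun t ht => by
      obtain ⟨x, hx, rfl⟩ := h.exists_pre ht
      obtain ⟨c, e⟩ := hH _ (h.fac.asH.le ht)
      replace e : ap x w = c • w := e
      have hI := Om_le hx.2
      have hc : c * c = 1 := by rcases sgn_of_fix hI (by rw [hw]; exact one_ne_zero) e with rfl | rfl <;> decide
      refine Perm.ext fun v => ?_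
      show ap z (ap x v) = ap x (ap z v)
      rw [hk, hk, ap_add, ap_neg, ap_smul, e, ← bf_ap hI w v, e, bf_smul', smul_smul, mul_right_comm, hc, one_mul]
  refine span_ne_top (ne_of_qf (by rw [hw]; exact one_ne_zero) : w ≠ 0) (eq_top_iff.2 fun v _ => ?_)
  have h2 : ap z v = v := congrArg (fun g : Perm W7 => g v) h1
  rw [hk, neg_add_eq_iff_eq_add, ← two_smul (ZMod 3)] at h2
  exact (Submodule.smul_mem_iff _ two3).1 (h2 ▸ Submodule.smul_mem _ _ (Submodule.mem_span_singleton_self w))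

/-- **box E3** -/
theorem boxE3 : BoxE3 := by
  intro M H T B w h hw hH hS
  obtain ⟨K, P, hK, hY, hA, -, L, s, φ, b, d, hb, f⟩ := Sm.model hS
  have hn : ∀ y ∈ pre B, Nm P y := fun y hy => hA.conj y (hY hy)
  have hI : pre B ≤ Is 3 (ZMod 3) := h.pd.right.le.trans Om_le
  obtain ⟨ψ, c, f', e⟩ := f.adapt hb d hI hn (pd_trans h.pd hw fun x hx => hH _ (h.fac.asH.le hx.1))
  have hH' : FixP H (ψ w0) := e ▸ fixP_smul h.semH hH c
  have hw' : qf (ψ w0) = 1 := by rw [f'.qf_eq, be_w0]; decide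
  have h1 : H ⊓ B ≤ St (Zw ψ L true) := fun g hg => by
    obtain ⟨a, ha, rfl⟩ := le_Om h hw hH (h.fac.HM hg.1)
    obtain ⟨c, e⟩ := hH' _ hg.1
    have h2 : a ∈ pre B := ⟨hg.2, ha⟩
    exact f'.mem_St (hI h2) (hn a h2) (hn _ ((pre B).inv_mem h2)) e
  rcases h.fac.pr.eq_or_eq (le_inf inf_le_left h1) (inf_le_left : H ⊓ St (Zw ψ L true) ≤ H) with k | k
  · obtain ⟨a, a', ha, ha', h2, h3, r, hr, h4⟩ := d.e3a
    obtain ⟨g, hg, eg⟩ := f'.refl ha ha'
    have h5 : lin g ∈ B := (k.le ⟨mem_H h hw' hH' (h.omM hg) (by rw [eg, h2]), (mem_St_Zw eg).2 h3⟩).2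
    have h6 := f'.inv g (hn g ⟨h5, hg⟩) r hr
    rw [eg, LinearEquiv.symm_apply_apply] at h6
    exact h4 h6
  · obtain ⟨a, a', ha, ha', h2, r, hr, h4⟩ := d.e3b
    obtain ⟨g, hg, eg⟩ := f'.refl ha ha'
    exact h4 ((mem_St_Zw eg).1 (k.ge (mem_H h hw' hH' (h.omM hg) (by rw [eg, h2]))).2 r hr)

end Cfsg.Agent.SM.Oo.E
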