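import Cfsg.Agent.H856.Sv9
import Cfsg.Agent.StandardComponent.SpTwoAut

/-!
# SM (S3570), family `fO`, boxes E1 and E3: the root systems of `Sp₆(2)` and `A₉` in dimension seven (helper94)

The frames of `H856.Sv` (the first halves of the proofs of `sp6_main` and `a9_main` are repeated), and the invariance of the
roots under the normaliser.
-/

set_option autoImplicit false
set_option linter.unusedSectionVars false

open scoped Pointwise

namespace Cfsg.Agent.SM.Oo.E

open Equiv Cfsg.Agent.H856.SpS Cfsg.Agent.H856.Sv Cfsg.Agent.H637.SevenA8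

variable {F : Type*} [Field F] {V : Type*} [AddCommGroup V] [Module F V]

/-- the automorphism induced by an element of the normaliser -/
theorem exists_aut {G Γ : Type*} [Group G] [Finite G] [Group Γ] {τ : G →* Γ} (hτ : Function.Injective τ) {h : Γ}
    (hn : ∀ g, ∃ g', τ g' = h * τ g * h⁻¹) : ∃ e : MulAut G, ∀ g, τ (e g) = h * τ g * h⁻¹ := by
  choose f hf using hn
  let f' : G →* G := MonoidHom.mk' f fun a b => hτ (by rw [map_mul, hf, hf, hf, map_mul]; group)
  have hi : Function.Injective f' := fun a b e => hτ (by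
    have h1 : τ (f a) = τ (f b) := congrArg τ e
    rw [hf, hf] at h1
    exact mul_left_cancel (mul_right_cancel h1))
  exact ⟨MulEquiv.ofBijective f' (Finite.injective_iff_bijective.1 hi), hf⟩

/-- **`Sp₆(2)`**: the frame and the roots -/
theorem sp6_frame (h7 : Module.finrank F V = 7) (h2 : (2 : F) ≠ 0) (τ : G6 →* (V ≃ₗ[F] V))
    (hne : ¬ ∀ g g', τ g * τ g' = τ g' * τ g) :
    ∃ u : Fin 8 → V, Fr8 F u ∧ (∀ (g : alternatingGroup (Fin 8)) i, τ (phi g) (u i) = u ((g : Perm (Fin 8)) i)) ∧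
      ∀ g, ∀ x ∈ Xs u, τ g x ∈ Xs u := by
  let τ8 : alternatingGroup (Fin 8) →* (V ≃ₗ[F] V) := (τ.comp phi).comp (alternatingGroup (Fin 8)).subtype
  have ht8 : ∀ g : alternatingGroup (Fin 8), τ8 g = τ (phi (g : Perm (Fin 8))) := fun g => rfl
  rcases a8_cases h7 h2 τ8 with ⟨w, hw, hfix⟩ | ⟨u, hu, hτ⟩
  · exfalso
    have h1 := a8_no_fix h7 h2 τ8 hw hfix
    have h3 : (Subgroup.zpowers (τ tB)).comap τ = ⊤ := by
      apply gen
      · intro g
        rw [Subgroup.mem_comap, ← ht8, h1]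
        exact Subgroup.one_mem _
      · rw [Subgroup.mem_comap]
        exact Subgroup.mem_zpowers _
    apply hne
    intro g g'
    have h4 : g ∈ (Subgroup.zpowers (τ tB)).comap τ := by rw [h3]; trivial
    have h5 : g' ∈ (Subgroup.zpowers (τ tB)).comap τ := by rw [h3]; trivial
    rw [Subgroup.mem_comap] at h4 h5
    obtain ⟨a, ha⟩ := h4
    obtain ⟨b, hb⟩ := h5
    simp only at ha hb
    rw [← ha, ← hb, ← zpow_add, ← zpow_add, add_comm]
  let t : V ≃ₗ[F] V := τ tB
  have htt : ∀ v, t (t v) = v := by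
    intro v
    show (τ tB * τ tB) v = v
    rw [← map_mul, tB_mul_self, map_one]
    rfl
  have hcm : ∀ g : alternatingGroup (Fin 8), ∑ i ∈ B4, dl ((g : Perm (Fin 8)) i) = ∑ i ∈ B4, dl i →
      ∀ v, τ8 g (t v) = t (τ8 g v) := by
    intro g hg v
    show (τ (phi (g : Perm (Fin 8))) * τ tB) v = (τ tB * τ (phi (g : Perm (Fin 8)))) v
    rw [← map_mul, tB_comm hg, map_mul]
  have c1 := hcm A1 commA1
  have c2 := hcm A2 commA2
  have c3 := hcm C1 commC1
  have c4 := hcm D1 commD1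
  have c5 := hcm D2 commD2
  have c6 := hcm E2 commE2
  have hsq : ∀ (k : F) (y : V), y ≠ 0 → t y = k • y → k = 1 ∨ k = -1 := by
    intro k y hy h
    have h1 := htt y
    rw [h, map_smul, h, smul_smul] at h1
    have h3 : (k * k - 1) • y = 0 := by rw [sub_smul, h1, one_smul, sub_self]
    have h4 := (smul_eq_zero.1 h3).resolve_right hy
    exact mul_self_eq_one_iff.1 (by linear_combination h4)
  -- the vector `w`
  let w : V := u 0 + u 1 + u 2 + u 3
  have hA1w : τ8 A1 w = w := by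
    simp only [w, map_add, hτ]
    rw [show (A1 : Perm (Fin 8)) 0 = 1 by decide, show (A1 : Perm (Fin 8)) 1 = 0 by decide,
      show (A1 : Perm (Fin 8)) 2 = 3 by decide, show (A1 : Perm (Fin 8)) 3 = 2 by decide]
    abel
  have hA2w : τ8 A2 w = w := by
    simp only [w, map_add, hτ]
    rw [show (A2 : Perm (Fin 8)) 0 = 2 by decide, show (A2 : Perm (Fin 8)) 1 = 3 by decide,
      show (A2 : Perm (Fin 8)) 2 = 0 by decide, show (A2 : Perm (Fin 8)) 3 = 1 by decide]
    abel
  have hD1w : τ8 D1 w = w := by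
    simp only [w, map_add, hτ]
    rw [show (D1 : Perm (Fin 8)) 0 = 0 by decide, show (D1 : Perm (Fin 8)) 1 = 1 by decide,
      show (D1 : Perm (Fin 8)) 2 = 2 by decide, show (D1 : Perm (Fin 8)) 3 = 3 by decide]
  have hD2w : τ8 D2 w = w := by
    simp only [w, map_add, hτ]
    rw [show (D2 : Perm (Fin 8)) 0 = 0 by decide, show (D2 : Perm (Fin 8)) 1 = 1 by decide,
      show (D2 : Perm (Fin 8)) 2 = 2 by decide, show (D2 : Perm (Fin 8)) 3 = 3 by decide]
  obtain ⟨k0, hk0⟩ : ∃ k : F, t w = k • w := by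
    refine in_W0 hu hτ h7 ?_ ?_ ?_ ?_
    · rw [c1, hA1w]
    · rw [c2, hA2w]
    · rw [c4, hD1w]
    · rw [c5, hD2w]
  let v1 : V := u 0 + u 1 - u 2 - u 3
  have hA1v : τ8 A1 v1 = v1 := by
    simp only [v1, map_add, map_sub, hτ]
    rw [show (A1 : Perm (Fin 8)) 0 = 1 by decide, show (A1 : Perm (Fin 8)) 1 = 0 by decide,
      show (A1 : Perm (Fin 8)) 2 = 3 by decide, show (A1 : Perm (Fin 8)) 3 = 2 by decide]
    abel
  have hA2v : τ8 A2 v1 = -v1 := by
    simp only [v1, map_add, map_sub, hτ]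
    rw [show (A2 : Perm (Fin 8)) 0 = 2 by decide, show (A2 : Perm (Fin 8)) 1 = 3 by decide,
      show (A2 : Perm (Fin 8)) 2 = 0 by decide, show (A2 : Perm (Fin 8)) 3 = 1 by decide]
    abel
  have hD1v : τ8 D1 v1 = v1 := by
    simp only [v1, map_add, map_sub, hτ]
    rw [show (D1 : Perm (Fin 8)) 0 = 0 by decide, show (D1 : Perm (Fin 8)) 1 = 1 by decide,
      show (D1 : Perm (Fin 8)) 2 = 2 by decide, show (D1 : Perm (Fin 8)) 3 = 3 by decide]
  have hD2v : τ8 D2 v1 = v1 := by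
    simp only [v1, map_add, map_sub, hτ]
    rw [show (D2 : Perm (Fin 8)) 0 = 0 by decide, show (D2 : Perm (Fin 8)) 1 = 1 by decide,
      show (D2 : Perm (Fin 8)) 2 = 2 by decide, show (D2 : Perm (Fin 8)) 3 = 3 by decide]
  obtain ⟨k1, hk1⟩ : ∃ k : F, t v1 = k • v1 := by
    refine in_W1 hu hτ h7 ?_ ?_ ?_ ?_
    · rw [c1, hA1v]
    · rw [c2, hA2v, map_neg]
    · rw [c4, hD1v]
    · rw [c5, hD2v]
  have hw0 : w ≠ 0 := by
    intro h
    have h1 := hu.rel (fun i => if i = 0 ∨ i = 1 ∨ i = 2 ∨ i = 3 then 1 else 0) (by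
      rw [← h]
      simp [Fin.sum_univ_eight, w]) 0 4
    simp at h1
  have hv0 : v1 ≠ 0 := by
    intro h
    have h1 := hu.rel (fun i => if i = 0 ∨ i = 1 then 1 else if i = 2 ∨ i = 3 then -1 else 0) (by
      rw [← h]
      simp [Fin.sum_univ_eight, v1, sub_eq_add_neg]) 0 4
    simp at h1
  have e0 := hsq k0 w hw0 hk0
  have e1 := hsq k1 v1 hv0 hk1
  -- the other two vectors of the block
  have hC0 : (C1 : Perm (Fin 8)) 0 = 0 := by decide
  have hC1 : (C1 : Perm (Fin 8)) 1 = 2 := by decide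
  have hC2 : (C1 : Perm (Fin 8)) 2 = 3 := by decide
  have hC3 : (C1 : Perm (Fin 8)) 3 = 1 := by decide
  have hv2 : τ8 C1 v1 = u 0 + u 2 - u 3 - u 1 := by
    simp only [v1, map_add, map_sub, hτ, hC0, hC1, hC2, hC3]
  have hv3 : τ8 C1 (u 0 + u 2 - u 3 - u 1) = u 0 + u 3 - u 1 - u 2 := by
    simp only [map_add, map_sub, hτ, hC0, hC1, hC2, hC3]
  have tv2 : t (u 0 + u 2 - u 3 - u 1) = k1 • (u 0 + u 2 - u 3 - u 1) := by
    rw [← hv2, ← c3, hk1, map_smul]
  have tv3 : t (u 0 + u 3 - u 1 - u 2) = k1 • (u 0 + u 3 - u 1 - u 2) := by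
    rw [← hv3, ← c3, tv2, map_smul]
  have h4 : (4 : F) ≠ 0 := by
    rw [show (4 : F) = 2 * 2 by norm_num]
    exact mul_ne_zero h2 h2
  have ht0 : t (u 0) = k1 • u 0 + ((k0 - k1) / 4) • w := by
    have h5 : (4 : F) • u 0 = w + v1 + (u 0 + u 2 - u 3 - u 1) + (u 0 + u 3 - u 1 - u 2) := by
      simp only [w, v1]
      module
    have h6 : (4 : F) • t (u 0) = k0 • w + k1 • v1 + k1 • (u 0 + u 2 - u 3 - u 1) + k1 • (u 0 + u 3 - u 1 - u 2) := by
      rw [← map_smul, h5, map_add, map_add, map_add, hk0, hk1, tv2, tv3]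
    have h8 : (4 : F) • t (u 0) = (4 : F) • (k1 • u 0 + ((k0 - k1) / 4) • w) := by
      have h10 : (4 : F) * ((k0 - k1) / 4) = k0 - k1 := mul_div_cancel₀ _ h4
      have h11 : (4 : F) • (k1 • u 0 + ((k0 - k1) / 4) • w) = (4 * k1) • u 0 + (k0 - k1) • w := by
        rw [smul_add, smul_smul, smul_smul, h10]
      rw [h11, h6]
      simp only [w, v1]
      module
    exact smul_right_injective V h4 h8
  have hw : ∑ k ∈ B4, u k = w := by
    simp only [B4, w]
    rw [Finset.sum_insert (by decide), Finset.sum_insert (by decide), Finset.sum_insert (by decide), Finset.sum_singleton]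
    abel
  have hE2w : τ8 E2 w = -w := by
    have h5 := hu.sum
    rw [Fin.sum_univ_eight] at h5
    simp only [w, map_add, hτ]
    rw [show (E2 : Perm (Fin 8)) 0 = 4 by decide, show (E2 : Perm (Fin 8)) 1 = 5 by decide,
      show (E2 : Perm (Fin 8)) 2 = 6 by decide, show (E2 : Perm (Fin 8)) 3 = 7 by decide, eq_neg_iff_add_eq_zero, ← h5]
    abel
  have hstep : ∀ (g : alternatingGroup (Fin 8)) (i : Fin 8) (d : F) (s : V), (∀ v, τ8 g (t v) = t (τ8 g v)) → τ8 g w = s →
      t (u i) = k1 • u i + d • w → t (u ((g : Perm (Fin 8)) i)) = k1 • u ((g : Perm (Fin 8)) i) + d • s := by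
    intro g i d s hg hs hi
    rw [← hτ, ← hg, hi, map_add, map_smul, map_smul, hs]
  have ht1 := hstep A1 0 _ _ c1 hA1w ht0
  have ht2 := hstep A2 0 _ _ c2 hA2w ht0
  have ht3 := hstep A2 _ _ _ c2 hA2w ht1
  have ht4 := hstep E2 _ _ _ c6 hE2w ht0
  have ht5 := hstep E2 _ _ _ c6 hE2w ht1
  have ht6 := hstep E2 _ _ _ c6 hE2w ht2
  have ht7 := hstep E2 _ _ _ c6 hE2w ht3
  have hin : ∀ i ∈ B4, t (u i) = k1 • u i + ((k0 - k1) / 4) • w := by
    intro i hi
    have h5 : i = 0 ∨ i = 1 ∨ i = 2 ∨ i = 3 := by simpa [B4] using hi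
    rcases h5 with rfl | rfl | rfl | rfl
    exacts [ht0, ht1, ht2, ht3]
  have hout : ∀ i ∉ B4, t (u i) = k1 • u i + ((k0 - k1) / 4) • -w := by
    intro i hi
    have h5 : ∀ i ∉ B4, i = 4 ∨ i = 5 ∨ i = 6 ∨ i = 7 := by decide
    rcases h5 i hi with rfl | rfl | rfl | rfl
    exacts [ht4, ht5, ht6, ht7]
  have h24 : (2 : F) / 4 = 2⁻¹ := by
    rw [show (4 : F) = 2 * 2 by norm_num]
    field_simp
  have htX : ∀ x ∈ Xs u, t x ∈ Xs u := by
    by_cases e : k0 = k1
    · refine Xs_pm hu (σ := 1) e1 fun i => ?_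
      by_cases hi : i ∈ B4
      · rw [hin i hi, e, sub_self, zero_div, zero_smul, add_zero]; rfl
      · rw [hout i hi, e, sub_self, zero_div, zero_smul, add_zero]; rfl
    · rcases e1 with rfl | rfl
      · have e2 : k0 = -1 := e0.resolve_left e
        have e3 : (k0 - 1) / 4 = -(2 : F)⁻¹ := by rw [e2, ← h24]; ring
        refine Xs_refl hu h2 (fun i hi => ?_) (fun i hi => ?_) ?_
        · rw [hin i hi, e3, hw]; module
        · rw [hout i hi, e3, hw]; module
        · rw [hw, hk0, e2]; module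
      · have e2 : k0 = 1 := e0.resolve_right e
        have e3 : (k0 - -1) / 4 = (2 : F)⁻¹ := by rw [e2, ← h24]; ring
        intro x hx
        have h5 := Xs_refl hu h2 (r := t.trans (LinearEquiv.neg F)) (fun i hi => ?_) (fun i hi => ?_) ?_ x hx
        · have h6 := Xs_neg hu _ h5
          rwa [show -(t.trans (LinearEquiv.neg F)) x = t x from neg_neg _] at h6
        · show -t (u i) = _
          rw [hin i hi, e3, hw]; module
        · show -t (u i) = _
          rw [hout i hi, e3, hw]; module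
        · show -t _ = _
          rw [hw, hk0, e2]; module
  let Y : Subgroup G6 :=
    { carrier := {g | ∀ x, τ g x ∈ Xs u ↔ x ∈ Xs u}
      one_mem' := fun x => by rw [map_one]; rfl
      mul_mem' := fun {a b} ha hb x => by
        rw [map_mul]
        exact (ha (τ b x)).trans (hb x)
      inv_mem' := fun {a} ha x => by
        have h5 := ha (τ a⁻¹ x)
        rw [show τ a (τ a⁻¹ x) = x by
          show (τ a * τ a⁻¹) x = x
          rw [← map_mul, mul_inv_cancel, map_one]; rfl] at h5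
        exact h5.symm }
  have hK : Y = ⊤ := by
    apply gen
    · intro g x
      refine ⟨fun h => ?_, fun h => Xs_perm (hτ g) x h⟩
      have h9 := Xs_perm (hτ g⁻¹) _ h
      have h10 : τ8 g⁻¹ (τ (phi (g : Perm (Fin 8))) x) = x := by
        show (τ8 g⁻¹ * τ8 g) x = x
        rw [← map_mul, inv_mul_cancel, map_one]
        rfl
      rwa [h10] at h9
    · intro x
      refine ⟨fun h => ?_, htX x⟩
      have h9 := htX _ h
      rwa [show t (τ tB x) = x from htt x] at h9
  refine ⟨u, hu, hτ, fun g x hx => ?_⟩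
  have h9 : g ∈ Y := by rw [hK]; trivial
  exact (h9 x).2 hx

/-- the normaliser of `Sp₆(2)` keeps the roots -/
theorem sp6_norm {u : Fin 8 → V} (hu : Fr8 F u) {τ : G6 →* (V ≃ₗ[F] V)} (hτ : Function.Injective τ)
    (hX : ∀ g, ∀ x ∈ Xs u, τ g x ∈ Xs u) (h3 : ∀ c : F, c = 0 ∨ c = 1 ∨ c = -1)
    (hs : ∀ L : V ≃ₗ[F] V, (∀ g, L * τ g = τ g * L) → ∃ c : F, ∀ v, L v = c • v) {h : V ≃ₗ[F] V}
    (hn : ∀ g, ∃ g', τ g' = h * τ g * h⁻¹) : ∀ x ∈ Xs u, h x ∈ Xs u := by
  obtain ⟨e, he⟩ := exists_aut hτ hn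
  obtain ⟨y, rfl⟩ := Cfsg.Agent.StandardComponent.SpTwoAut.inner e
  obtain ⟨c, hc⟩ := hs ((τ y)⁻¹ * h) fun g => by
    have h1 := he g
    rw [MulAut.conj_apply, map_mul, map_mul, map_inv] at h1
    calc (τ y)⁻¹ * h * τ g = (τ y)⁻¹ * (h * τ g * h⁻¹) * h := by group
      _ = τ g * ((τ y)⁻¹ * h) := by rw [← h1]; group
  intro x hx
  have h1 : h x = τ y (c • x) := by
    rw [← hc]
    show h x = (τ y * ((τ y)⁻¹ * h)) x
    rw [mul_inv_cancel_left]
  rw [h1]
  refine hX y _ ?_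
  rcases h3 c with rfl | rfl | rfl
  · have h4 := hc (u 0)
    rw [zero_smul, LinearEquiv.map_eq_zero_iff] at h4
    exact absurd h4 (hu.ne_zero 0)
  · rwa [one_smul]
  · rw [neg_smul, one_smul]
    exact Xs_neg hu x hx

/-- the roots of `A₉` -/
def X9 (u : Fin 8 → V) : Set V := {v | (∃ i j, i ≠ j ∧ v = u i - u j) ∨ ∃ i, v = u i ∨ v = -u i}

/-- **`A₉`**: the frame and the roots -/
theorem a9_frame (h7 : Module.finrank F V = 7) (h2 : (2 : F) ≠ 0) (τ : alternatingGroup (Fin 9) →* (V ≃ₗ[F] V))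
    (hno : ∀ w : V, (∀ g, τ g w = w) → w = 0) (hinj : Function.Injective τ) (h3 : ∀ c : F, c = 0 ∨ c = 1 ∨ c = -1) :
    ∃ u : Fin 8 → V, Fr8 F u ∧ (∀ g : alternatingGroup (Fin 8), ∃ k, ∀ i, τ k (u i) = u ((g : Perm (Fin 8)) i)) ∧
      ∀ h : V ≃ₗ[F] V, (∀ g, ∃ g', τ g' = h * τ g * h⁻¹) → ∀ x ∈ X9 u, h x ∈ X9 u := by
  have hfin : FiniteDimensional F V := Module.finite_of_finrank_pos (by rw [h7]; norm_num)
  obtain ⟨ι, hι1, hι2, hι3⟩ := exists_io9
  rcases a8_cases h7 h2 (τ.comp ι) with ⟨w, hw, hfix⟩ | ⟨u, hu, hτ⟩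
  · exfalso
    apply hw
    apply hno
    exact nine_fixed h2 (endHom τ) h7 (w := w) (by
      intro g hg
      obtain ⟨g', rfl⟩ := hι3 g hg
      exact hfix g')
  replace hτ : ∀ (g : alternatingGroup (Fin 8)) i, τ (ι g) (u i) = u ((g : Perm (Fin 8)) i) := hτ
  -- vectors attached to ordered pairs
  obtain ⟨U, hU, hU8⟩ : ∃ U : Fin 9 → Fin 9 → V,
      (∀ (g : alternatingGroup (Fin 9)) a b, a ≠ b →
        τ g (U a b) = U ((g : Perm (Fin 9)) a) ((g : Perm (Fin 9)) b)) ∧
      ∀ i : Fin 8, U i.castSucc (Fin.last 8) = u i := by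
    have hwd : ∀ g : alternatingGroup (Fin 9), (g : Perm (Fin 9)) 0 = 0 →
        (g : Perm (Fin 9)) (Fin.last 8) = Fin.last 8 → τ g (u 0) = u 0 := by
      intro g h0 h8
      obtain ⟨g', rfl⟩ := hι3 g h8
      rw [hτ]
      have h1 := hι1 g' 0
      have h2 : ((g' : Perm (Fin 8)) 0).castSucc = (0 : Fin 8).castSucc := by
        rw [← h1]
        exact h0
      rw [Fin.castSucc_injective _ h2]
    have hwd2 : ∀ g g' : alternatingGroup (Fin 9), (g : Perm (Fin 9)) 0 = (g' : Perm (Fin 9)) 0 →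
        (g : Perm (Fin 9)) (Fin.last 8) = (g' : Perm (Fin 9)) (Fin.last 8) → τ g (u 0) = τ g' (u 0) := by
      intro g g' h0 h8
      have h1 := hwd (g'⁻¹ * g) (by
        show (g' : Perm (Fin 9))⁻¹ ((g : Perm (Fin 9)) 0) = 0
        rw [h0]
        exact (g' : Perm (Fin 9)).symm_apply_apply 0) (by
        show (g' : Perm (Fin 9))⁻¹ ((g : Perm (Fin 9)) (Fin.last 8)) = Fin.last 8
        rw [h8]
        exact (g' : Perm (Fin 9)).symm_apply_apply _)
      rw [map_mul] at h1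
      have h3 := congrArg (τ g') h1
      rw [← h3]
      show τ g (u 0) = (τ g' * (τ g'⁻¹ * τ g)) (u 0)
      rw [map_inv, mul_inv_cancel_left]
    have hex : ∀ a b : Fin 9, ∃ g : alternatingGroup (Fin 9), a ≠ b →
        (g : Perm (Fin 9)) 0 = a ∧ (g : Perm (Fin 9)) (Fin.last 8) = b := by
      intro a b
      by_cases h : a = b
      · exact ⟨1, fun h' => absurd h h'⟩
      · obtain ⟨g, h1, h2⟩ := exists_even9 h
        exact ⟨g, fun _ => ⟨h1, h2⟩⟩
    choose k hk using hex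
    refine ⟨fun a b => τ (k a b) (u 0), fun g a b hab => ?_, fun i => ?_⟩
    · have hgab : (g : Perm (Fin 9)) a ≠ (g : Perm (Fin 9)) b := fun h => hab ((g : Perm (Fin 9)).injective h)
      show (τ g * τ (k a b)) (u 0) = _
      rw [← map_mul]
      apply hwd2
      · show (g : Perm (Fin 9)) ((k a b : Perm (Fin 9)) 0) = _
        rw [(hk a b hab).1, (hk _ _ hgab).1]
      · show (g : Perm (Fin 9)) ((k a b : Perm (Fin 9)) (Fin.last 8)) = _
        rw [(hk a b hab).2, (hk _ _ hgab).2]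
    · obtain ⟨g, hg⟩ := exists_map (n := 8) (by norm_num) 0 i
      have h1 := hτ g 0
      rw [hg] at h1
      rw [← h1]
      have hi : i.castSucc ≠ Fin.last 8 := (Fin.castSucc_lt_last i).ne
      apply hwd2
      · rw [(hk _ _ hi).1]
        have h3 := hι1 g 0
        rw [hg] at h3
        exact h3.symm
      · rw [(hk _ _ hi).2, hι2]
  -- the sign
  obtain ⟨c, hc⟩ : ∃ c : F, U (Fin.last 8) (0 : Fin 8).castSucc = c • u 0 := by
    refine hu.fixed h7 (τ := τ.comp ι) hτ 0 fun g hg => ?_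
    show τ (ι g) _ = _
    rw [hU _ _ _ (by decide), hι2, hι1, hg]
  have hc' : ∀ a b : Fin 9, a ≠ b → U b a = c • U a b := by
    intro a b hab
    obtain ⟨g, h1, h2⟩ := exists_even9 hab
    have h3 := congrArg (τ g) hc
    rw [← hU8 0, hU _ _ _ (by decide), map_smul, hU _ _ _ (by decide), show (0 : Fin 8).castSucc = (0 : Fin 9) from rfl,
      h1, h2] at h3
    exact h3
  have hcc : c * c = 1 := by
    have h1 := hc' (Fin.last 8) (0 : Fin 8).castSucc (by decide)
    rw [hc, hU8, smul_smul] at h1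
    have h3 : (1 - c * c) • u 0 = 0 := by rw [sub_smul, ← h1, one_smul, sub_self]
    have h4 := (smul_eq_zero.1 h3).resolve_right (hu.ne_zero 0)
    linear_combination -h4
  -- the vectors for pairs of points in `Fin 8`
  obtain ⟨x, y, hxy⟩ : ∃ x y : F, U (0 : Fin 8).castSucc (1 : Fin 8).castSucc = x • u 0 + y • u 1 := by
    refine hu.fixed2 h7 (τ := τ.comp ι) hτ fun g hg hg' => ?_
    show τ (ι g) _ = _
    rw [hU _ _ _ (by decide), hι1, hι1, hg, hg']
  have hpair : ∀ i j : Fin 8, i ≠ j → U i.castSucc j.castSucc = x • u i + y • u j := by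
    intro i j hij
    obtain ⟨g, h1, h2⟩ := exists_even_pair hij
    have h3 := congrArg (τ (ι g)) hxy
    rw [hU _ _ _ (by decide), map_add, map_smul, map_smul, hτ, hτ, hι1, hι1, h1, h2] at h3
    exact h3
  have hyx : y = c * x := by
    have h1 := hc' (0 : Fin 8).castSucc (1 : Fin 8).castSucc (by decide)
    rw [hpair 0 1 (by decide), hpair 1 0 (by decide)] at h1
    have h3 := hu.rel (fun i => if i = 0 then y - c * x else if i = 1 then x - c * y else 0) (by
      simp only [Fin.sum_univ_eight]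
      simp
      rw [← sub_eq_zero] at h1
      rw [← h1]
      module) 0 2
    simpa [sub_eq_zero] using h3
  -- the general law
  have hlaw : ∀ a b d : Fin 9, a ≠ b → a ≠ d → b ≠ d → U a b = x • U a d + (c * x) • U b d := by
    intro a b d hab had hbd
    -- an even permutation moving `0, 1, 8` to `a, b, d`
    obtain ⟨g, h1, h2⟩ := exists_even9 had
    have hb' : (g : Perm (Fin 9))⁻¹ b ≠ 0 ∧ (g : Perm (Fin 9))⁻¹ b ≠ Fin.last 8 := by
      constructor
      · intro h
        rw [Perm.inv_eq_iff_eq, h1] at h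
        exact hab h.symm
      · intro h
        rw [Perm.inv_eq_iff_eq, h2] at h
        exact hbd h
    obtain ⟨i, hi⟩ : ∃ i : Fin 8, i.castSucc = (g : Perm (Fin 9))⁻¹ b :=
      Fin.exists_castSucc_eq.2 hb'.2
    have hi0 : i ≠ 0 := by
      rintro rfl
      exact hb'.1 hi.symm
    have hgi : (g : Perm (Fin 9)) i.castSucc = b := by
      rw [hi]
      exact (g : Perm (Fin 9)).apply_symm_apply b
    have h3 := congrArg (τ g) (hpair 0 i hi0.symm)
    rw [← hU8 0, ← hU8 i, hyx, map_add, map_smul, map_smul, hU _ _ _ (by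
        intro h
        exact hi0 (Fin.castSucc_injective _ h).symm), hU _ _ _ (by decide),
      hU _ _ _ ((Fin.castSucc_lt_last i).ne), hgi, show (0 : Fin 8).castSucc = (0 : Fin 9) from rfl, h1, h2] at h3
    exact h3
  have hx0 : x ≠ 0 := by
    intro h
    have h1 := hlaw (0 : Fin 8).castSucc (Fin.last 8) (1 : Fin 8).castSucc (by decide) (by decide) (by decide)
    rw [h, mul_zero, zero_smul, zero_smul, add_zero, hU8] at h1
    exact hu.ne_zero 0 h1
  have hkey : x = 1 ∧ c = -1 := by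
    have h1 := hlaw (0 : Fin 8).castSucc (1 : Fin 8).castSucc (2 : Fin 8).castSucc (by decide) (by decide) (by decide)
    rw [hpair 0 1 (by decide), hpair 0 2 (by decide), hpair 1 2 (by decide), hyx] at h1
    have h3 := hu.rel (fun i => if i = 0 then x - x * x else if i = 1 then c * x - c * x * x else
        if i = 2 then -(x * (c * x) + c * x * (c * x)) else 0) (by
      simp only [Fin.sum_univ_eight]
      simp
      rw [← sub_eq_zero] at h1
      rw [← h1]
      module)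
    have h4 := h3 0 3
    have h5 := h3 2 3
    simp at h4 h5
    have hx1 : x = 1 := by
      have h6 : x * (1 - x) = 0 := by linear_combination h4
      rcases mul_eq_zero.1 h6 with h7 | h7
      · exact absurd h7 hx0
      · linear_combination -h7
    refine ⟨hx1, ?_⟩
    rw [hx1] at h5
    have h6 : (c + 1) * 1 = 0 := by
      have h8 : c * (c + 1) = 0 := by linear_combination -h5
      linear_combination c * h8 + (-c-1) * hcc
    linear_combination h6
  obtain ⟨hx1, hc1⟩ := hkey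
  have hpair' : ∀ i j : Fin 8, i ≠ j → U i.castSucc j.castSucc = u i - u j := by
    intro i j hij
    rw [hpair i j hij, hyx, hx1, hc1]
    module
  have h8i : ∀ i : Fin 8, U (Fin.last 8) i.castSucc = -u i := by
    intro i
    rw [hc' i.castSucc (Fin.last 8) (Fin.castSucc_lt_last i).ne, hU8, hc1, neg_smul, one_smul]
  have hUX : ∀ a b : Fin 9, a ≠ b → U a b ∈ X9 u := by
    intro a b hab
    rcases Fin.eq_castSucc_or_eq_last a with ⟨i, rfl⟩ | rfl
    · rcases Fin.eq_castSucc_or_eq_last b with ⟨k, rfl⟩ | rfl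
      · exact Or.inl ⟨i, k, fun h => hab (by rw [h]), hpair' i k fun h => hab (by rw [h])⟩
      · exact Or.inr ⟨i, Or.inl (hU8 i)⟩
    · rcases Fin.eq_castSucc_or_eq_last b with ⟨k, rfl⟩ | rfl
      · exact Or.inr ⟨k, Or.inr (h8i k)⟩
      · exact absurd rfl hab
  have hXU : ∀ v ∈ X9 u, ∃ a b : Fin 9, a ≠ b ∧ v = U a b := by
    rintro v (⟨i, j, hij, rfl⟩ | ⟨i, rfl | rfl⟩)
    · exact ⟨i.castSucc, j.castSucc, fun h => hij (Fin.castSucc_injective _ h), (hpair' i j hij).symm⟩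
    · exact ⟨_, _, (Fin.castSucc_lt_last i).ne, (hU8 i).symm⟩
    · exact ⟨_, _, (Fin.castSucc_lt_last i).ne', (h8i i).symm⟩
  refine ⟨u, hu, fun g => ⟨ι g, hτ g⟩, fun h hn v hv => ?_⟩
  obtain ⟨a, b, hab, rfl⟩ := hXU v hv
  obtain ⟨e, he⟩ := exists_aut hinj hn
  obtain ⟨σ, hσ⟩ := Cfsg.Agent.StandardComponent.AltAut.exists_conj (m := 7) (by norm_num) e
  have hab' : σ a ≠ σ b := fun k => hab (σ.injective k)
  obtain ⟨k, k0, k8⟩ := exists_even9 hab'
  obtain ⟨d, hd⟩ : ∃ d : F, τ k⁻¹ (h (U a b)) = d • u 0 := by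
    refine hu.fixed h7 (τ := τ.comp ι) hτ 0 fun g hg => ?_
    obtain ⟨y, hy⟩ := e.surjective (k * ι g * k⁻¹)
    have h4 : ∀ z : Fin 9, (ι g : Perm (Fin 9)) ((k : Perm (Fin 9))⁻¹ (σ z)) = (k : Perm (Fin 9))⁻¹ (σ z) →
        (y : Perm (Fin 9)) z = z := by
      intro z hz
      have h5 : ((e y : alternatingGroup (Fin 9)) : Perm (Fin 9)) (σ z) = σ ((y : Perm (Fin 9)) z) := by
        have h6 : ((e y : alternatingGroup (Fin 9)) : Perm (Fin 9)) = σ * y * σ⁻¹ := hσ y
        rw [h6]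
        simp
      rw [hy] at h5
      have h6 : (k : Perm (Fin 9)) ((ι g : Perm (Fin 9)) ((k : Perm (Fin 9))⁻¹ (σ z))) = σ ((y : Perm (Fin 9)) z) := h5
      rw [hz, show (k : Perm (Fin 9)) ((k : Perm (Fin 9))⁻¹ (σ z)) = σ z from (k : Perm (Fin 9)).apply_symm_apply _] at h6
      exact (σ.injective h6).symm
    have ha : (y : Perm (Fin 9)) a = a := h4 a (by
      rw [← k0, show (k : Perm (Fin 9))⁻¹ ((k : Perm (Fin 9)) 0) = 0 from (k : Perm (Fin 9)).symm_apply_apply _]
      have h5 := hι1 g 0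
      rwa [hg] at h5)
    have hb : (y : Perm (Fin 9)) b = b := h4 b (by
      rw [← k8, show (k : Perm (Fin 9))⁻¹ ((k : Perm (Fin 9)) (Fin.last 8)) = Fin.last 8 from
        (k : Perm (Fin 9)).symm_apply_apply _, hι2])
    have h5 : τ (e y) (h (U a b)) = h (U a b) := by
      rw [he]
      show h (τ y (h⁻¹ (h (U a b)))) = _
      rw [show h⁻¹ (h (U a b)) = U a b from h.symm_apply_apply _, hU y a b hab, ha, hb]
    show (τ (ι g) * τ k⁻¹) (h (U a b)) = _
    rw [← map_mul, show ι g * k⁻¹ = k⁻¹ * e y by rw [hy]; group, map_mul]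
    exact congrArg (τ k⁻¹) h5
  have h4 : h (U a b) = d • U (σ a) (σ b) := by
    have h5 := congrArg (τ k) hd
    rw [map_smul, ← hU8 0, hU _ _ _ (by decide), show (0 : Fin 8).castSucc = (0 : Fin 9) from rfl, k0, k8] at h5
    rw [← h5]
    show _ = (τ k * τ k⁻¹) _
    rw [← map_mul, mul_inv_cancel, map_one]
    rfl
  rw [h4]
  rcases h3 d with rfl | rfl | rfl
  · exfalso
    rw [zero_smul, LinearEquiv.map_eq_zero_iff, LinearEquiv.map_eq_zero_iff] at hd
    obtain ⟨g, h5, h6⟩ := exists_even9 hab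
    have h8 := hU g 0 (Fin.last 8) (by decide)
    rw [h5, h6, hd, LinearEquiv.map_eq_zero_iff] at h8
    exact hu.ne_zero 0 ((hU8 0).symm.trans h8)
  · rw [one_smul]
    exact hUX _ _ hab'
  · rw [← hc1, ← hc' _ _ hab']
    exact hUX _ _ hab'.symm

end Cfsg.Agent.SM.Oo.E
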