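import Cfsg.Agent.SM.Oo.E1A

/-!
# SM (S3570), family `fO`, boxes E1 and E3: the finite facts in coordinates (helper94)

`V0 = F₃⁷` with the frame `cc` and the form `be`; `L6`, `L9` are the roots of `Sp₆(2)` and `A₉`; `Zs L true` are the roots
orthogonal to `w0` which are orthogonal to all others of them, `Zs L false` the rest.
-/

set_option autoImplicit false
set_option linter.unusedSectionVars false

namespace Cfsg.Agent.SM.Oo.E

open Equiv Cfsg.Agent.H856.Sv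

/-- the coordinates -/
abbrev V0 : Type := Fin 7 → ZMod 3

/-- a vector from its digits -/
def vec (n : ℕ) : V0 := fun i => ((n / 3 ^ i.val % 3 : ℕ) : ZMod 3)

/-- the frame -/
def cc (i : Fin 8) : V0 := fun j => if i = 7 then -1 else if i = j.castSucc then 1 else 0

/-- the form -/
def be (x y : V0) : ZMod 3 :=
  (x 0 + x 1 + x 2 + x 3 + x 4 + x 5 + x 6) * (y 0 + y 1 + y 2 + y 3 + y 4 + y 5 + y 6) +
    (x 0 * y 0 + x 1 * y 1 + x 2 * y 2 + x 3 * y 3 + x 4 * y 4 + x 5 * y 5 + x 6 * y 6)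

/-- the plus vector -/
def w0 : V0 := vec 76

/-- the roots of `Sp₆(2)` -/
def l6 : List ℕ := [7, 19, 55, 163, 487, 1459, 1094, 5, 21, 57, 165, 489, 1461, 1096, 11, 15, 63, 171, 495, 1467, 1102, 29, 33,
  45, 189, 513, 1485, 1120, 83, 87, 99, 135, 567, 1539, 1174, 245, 249, 261, 297, 405, 1701, 1336, 731, 735, 747, 783, 891, 1215,
  1822, 2185, 2183, 2177, 2159, 2105, 1943, 1457, 40, 94, 256, 742, 2160, 112, 274, 760, 2124, 328, 814, 2016, 976, 1692, 720,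
  118, 280, 766, 2112, 334, 820, 2004, 982, 1680, 708, 352, 838, 1968, 1000, 1644, 672, 1054, 1536, 564, 240, 120, 282, 768,
  2108, 336, 822, 2000, 984, 1676, 704, 354, 840, 1964, 1002, 1640, 668, 1056, 1532, 560, 236, 360, 846, 1952, 1008, 1628, 656,
  1062, 1520, 548, 224, 1080, 1484, 512, 188, 80]

/-- the roots of `A₉` -/
def l9 : List ℕ := [7, 19, 55, 163, 487, 1459, 1094, 5, 21, 57, 165, 489, 1461, 1096, 11, 15, 63, 171, 495, 1467, 1102, 29, 33,
  45, 189, 513, 1485, 1120, 83, 87, 99, 135, 567, 1539, 1174, 245, 249, 261, 297, 405, 1701, 1336, 731, 735, 747, 783, 891, 1215,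
  1822, 2185, 2183, 2177, 2159, 2105, 1943, 1457, 1, 3, 9, 27, 81, 243, 729, 2186, 2, 6, 18, 54, 162, 486, 1458, 1093]

/-- the roots of `Sp₆(2)` -/
def L6 : List V0 := l6.map vec

/-- the roots of `A₉` -/
def L9 : List V0 := l9.map vec

/-- the roots orthogonal to `w0`, isolated or not -/
def Zs (L : List V0) (s : Bool) (r : V0) : Prop :=
  r ∈ L ∧ be w0 r = 0 ∧ ((∀ r' ∈ L, be w0 r' = 0 → be r r' = 0 ∨ r' = r ∨ r' = -r) ↔ s = true)

/-- a permutation of the frame -/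
def act (σ : Perm (Fin 8)) (x : V0) : V0 := ∑ i : Fin 7, x i • cc (σ i.castSucc)

/-- a reflection -/
def rf (a x : V0) : V0 := x - be a x • a

/-- a three-cycle -/
def C2 : alternatingGroup (Fin 8) := mk8 (swap 3 4 * swap 4 5)

/-- the finite facts -/
structure Dat (L : List V0) (s : Bool) : Prop where
  root : vec 7 ∈ L
  non : ∃ x, be x x = 2 ∧ x ∉ L ∧ -x ∉ L
  e1a : ∀ r, Zs L s r → Zs L s (act C1.1 r)
  e1b : ∃ r, Zs L s r ∧ ¬ Zs L s (act C2.1 r)
  e3a : ∃ a b, be a a = 2 ∧ be b b = 2 ∧ rf a (rf b w0) = w0 ∧ (∀ r, Zs L true r → Zs L true (rf a (rf b r))) ∧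
    ∃ r ∈ L, rf a (rf b r) ∉ L
  e3b : ∃ a b, be a a = 2 ∧ be b b = 2 ∧ rf a (rf b w0) = w0 ∧ ∃ r, Zs L true r ∧ ¬ Zs L true (rf a (rf b r))

/-- the number of a vector -/
def cd (x : V0) : ℕ :=
  (x 0).val + 3 * (x 1).val + 9 * (x 2).val + 27 * (x 3).val + 81 * (x 4).val + 243 * (x 5).val + 729 * (x 6).val

theorem cd_vec {n : ℕ} (h : n < 2187) : cd (vec n) = n := by
  simp only [cd, vec, ZMod.val_natCast, Fin.val_zero, Fin.val_one, Fin.val_two, show ((3 : Fin 7) : ℕ) = 3 from rfl,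
    show ((4 : Fin 7) : ℕ) = 4 from rfl, show ((5 : Fin 7) : ℕ) = 5 from rfl, show ((6 : Fin 7) : ℕ) = 6 from rfl]
  omega

theorem vec_cd (x : V0) : vec (cd x) = x := by
  have h := fun i => ZMod.val_lt (x i)
  have h0 := h 0; have h1 := h 1; have h2 := h 2; have h3 := h 3; have h4 := h 4; have h5 := h 5; have h6 := h 6
  have key : ∀ (i : Fin 7), cd x / 3 ^ i.val % 3 = (x i).val → vec (cd x) i = x i := fun i e => by
    rw [vec, e, ZMod.natCast_zmod_val]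
  funext i
  refine key i ?_
  unfold cd
  match i with
  | 0 => show _ / 1 % 3 = _; omega
  | 1 => show _ / 3 % 3 = _; omega
  | 2 => show _ / 9 % 3 = _; omega
  | 3 => show _ / 27 % 3 = _; omega
  | 4 => show _ / 81 % 3 = _; omega
  | 5 => show _ / 243 % 3 = _; omega
  | 6 => show _ / 729 % 3 = _; omega

theorem eq_vec {x : V0} {n : ℕ} (h : n < 2187) : x = vec n ↔ cd x = n :=
  ⟨fun e => by rw [e, cd_vec h], fun e => by rw [← e, vec_cd]⟩

theorem mem_vec {l : List ℕ} (h : ∀ n ∈ l, n < 2187) {x : V0} : x ∈ l.map vec ↔ cd x ∈ l :=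
  ⟨fun k => by
    obtain ⟨n, hn, rfl⟩ := List.mem_map.1 k
    rwa [cd_vec (h n hn)], fun k => List.mem_map.2 ⟨_, k, vec_cd x⟩⟩

/-- the form on numbers -/
def bn (m n : ℕ) : ℕ :=
  ((m % 3 + m / 3 % 3 + m / 9 % 3 + m / 27 % 3 + m / 81 % 3 + m / 243 % 3 + m / 729 % 3) *
    (n % 3 + n / 3 % 3 + n / 9 % 3 + n / 27 % 3 + n / 81 % 3 + n / 243 % 3 + n / 729 % 3) +
    (m % 3 * (n % 3) + m / 3 % 3 * (n / 3 % 3) + m / 9 % 3 * (n / 9 % 3) + m / 27 % 3 * (n / 27 % 3) +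
      m / 81 % 3 * (n / 81 % 3) + m / 243 % 3 * (n / 243 % 3) + m / 729 % 3 * (n / 729 % 3))) % 3

theorem be_vec (m n : ℕ) : be (vec m) (vec n) = 0 ↔ bn m n = 0 := by
  rw [bn, ← Nat.dvd_iff_mod_eq_zero, ← ZMod.natCast_eq_zero_iff]
  simp only [Nat.cast_add, Nat.cast_mul]
  have h : ∀ k, vec k 0 = ((k % 3 : ℕ) : ZMod 3) := fun k => by
    show ((k / 1 % 3 : ℕ) : ZMod 3) = _
    rw [Nat.div_one]
  rw [be, h, h]
  rfl

/-- the negative on numbers -/
def ng (n : ℕ) : ℕ := cd (-vec n)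

/-- the test on numbers -/
def zn (l : List ℕ) (s : Bool) (r : ℕ) : Bool :=
  bn 76 r == 0 && (l.all fun r' => bn 76 r' != 0 || bn r r' == 0 || r' == r || r' == ng r) == s

theorem zs_iff {l z : List ℕ} {s : Bool} (h : ∀ n ∈ l, n < 2187) (hz : l.filter (zn l s) = z) (x : V0) :
    Zs (l.map vec) s x ↔ cd x ∈ z := by
  rw [← hz, List.mem_filter, Zs, mem_vec h]
  refine and_congr_right fun hx => ?_
  have h1 : (∀ r' ∈ l.map vec, be w0 r' = 0 → be x r' = 0 ∨ r' = x ∨ r' = -x) ↔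
      (l.all fun r' => bn 76 r' != 0 || bn (cd x) r' == 0 || r' == cd x || r' == ng (cd x)) = true := by
    rw [List.forall_mem_map, List.all_eq_true]
    refine forall₂_congr fun n hn => ?_
    rw [w0, be_vec, ng, vec_cd, eq_comm (a := vec n), eq_comm (a := vec n), eq_vec (h n hn), eq_vec (h n hn)]
    conv_lhs => rw [← vec_cd x, be_vec, vec_cd]
    simp only [Bool.or_eq_true, bne_iff_ne, beq_iff_eq, eq_comm (a := n)]
    tauto
  rw [h1, zn, Bool.and_eq_true, beq_iff_eq, beq_iff_eq, ← be_vec, vec_cd, Bool.coe_iff_coe]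
  rfl

theorem lt6 : ∀ n ∈ l6, n < 2187 := by decide +kernel

theorem lt9 : ∀ n ∈ l9, n < 2187 := by decide +kernel

theorem zs6 (x : V0) : Zs L6 true x ↔ cd x ∈ [40, 80] := zs_iff lt6 (by decide +kernel) x

theorem zs9 (x : V0) : Zs L9 true x ↔ cd x ∈ [7, 5, 63, 45] := zs_iff lt9 (by decide +kernel) x

theorem zs9' (x : V0) : Zs L9 false x ↔ cd x ∈ [567, 1539, 1174, 405, 1701, 1336, 891, 1215, 1822, 2105, 1943, 1457, 81, 243, 729, 2186, 162, 486, 1458, 1093] := zs_iff lt9 (by decide +kernel) x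

theorem all_cd {z : List ℕ} {p : V0 → Prop} (h : ∀ n ∈ z, p (vec n)) (x : V0) (hx : cd x ∈ z) : p x := vec_cd x ▸ h _ hx

theorem dat6 : Dat L6 true := by
  refine ⟨?_, ⟨vec 1, ?_⟩, ?_, ⟨vec 40, ?_⟩, ⟨vec 1701, vec 1116, by decide +kernel, by decide +kernel, by decide +kernel, ?_,
    vec 19, ?_⟩, ⟨vec 1701, vec 729, by decide +kernel, by decide +kernel, by decide +kernel, vec 40, ?_⟩⟩
  all_goals try simp only [zs6]
  all_goals try simp only [L6, mem_vec lt6]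
  · decide +kernel
  · decide +kernel
  · exact all_cd (by decide +kernel)
  · decide +kernel
  · exact all_cd (by decide +kernel)
  · decide +kernel
  · decide +kernel

theorem dat9 : Dat L9 false := by
  refine ⟨?_, ⟨vec 40, ?_⟩, ?_, ⟨vec 567, ?_⟩, ⟨vec 729, vec 40, by decide +kernel, by decide +kernel, by decide +kernel, ?_,
    vec 163, ?_⟩, ⟨vec 729, vec 1035, by decide +kernel, by decide +kernel, by decide +kernel, vec 63, ?_⟩⟩
  all_goals try simp only [zs9, zs9']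
  all_goals try simp only [L9, mem_vec lt9]
  · decide +kernel
  · decide +kernel
  · exact all_cd (by decide +kernel)
  · decide +kernel
  · exact all_cd (by decide +kernel)
  · decide +kernel
  · decide +kernel

theorem be_w0 : be w0 w0 = 1 := by decide +kernel

theorem be_root : be (vec 7) (vec 7) = 2 := by decide +kernel

theorem act_w0 : ∀ c : ZMod 3, act C1.1 w0 ≠ c • w0 := by decide +kernel

theorem mem6 (x : V0) : x ∈ L6 ↔ x ∈ Xs cc := by
  have h1 : ∀ i j, i ≠ j → cd (cc i - cc j) ∈ l6 := by decide +kernel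
  have h2 : ∀ S : Finset (Fin 8), S.card = 4 → cd (∑ i ∈ S, cc i) ∈ l6 := by decide +kernel
  have h3 : ∀ n ∈ l6, (∃ i j, i ≠ j ∧ cd (cc i - cc j) = n) ∨ ∃ S : Finset (Fin 8), S.card = 4 ∧ cd (∑ i ∈ S, cc i) = n := by
    decide +kernel
  rw [L6, mem_vec lt6]
  constructor
  · intro h
    rcases h3 _ h with ⟨i, j, h, e⟩ | ⟨S, h, e⟩
    · exact Or.inl ⟨i, j, h, by rw [← vec_cd x, ← e, vec_cd]⟩
    · exact Or.inr ⟨S, h, by rw [← vec_cd x, ← e, vec_cd]⟩
  · rintro (⟨i, j, h, rfl⟩ | ⟨S, h, rfl⟩)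
    exacts [h1 i j h, h2 S h]

theorem mem9 (x : V0) : x ∈ L9 ↔ x ∈ X9 cc := by
  have h1 : ∀ i j, i ≠ j → cd (cc i - cc j) ∈ l9 := by decide +kernel
  have h2 : ∀ i, cd (cc i) ∈ l9 ∧ cd (-cc i) ∈ l9 := by decide +kernel
  have h3 : ∀ n ∈ l9, (∃ i j, i ≠ j ∧ cd (cc i - cc j) = n) ∨ ∃ i, cd (cc i) = n ∨ cd (-cc i) = n := by decide +kernel
  rw [L9, mem_vec lt9]
  constructor
  · intro h
    rcases h3 _ h with ⟨i, j, h, e⟩ | ⟨i, e | e⟩
    · exact Or.inl ⟨i, j, h, by rw [← vec_cd x, ← e, vec_cd]⟩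
    · exact Or.inr ⟨i, Or.inl (by rw [← vec_cd x, ← e, vec_cd])⟩
    · exact Or.inr ⟨i, Or.inr (by rw [← vec_cd x, ← e, vec_cd])⟩
  · rintro (⟨i, j, h, rfl⟩ | ⟨i, rfl | rfl⟩)
    exacts [h1 i j h, (h2 i).1, (h2 i).2]

theorem be_neg (x y : V0) : be (-x) y = -be x y := by
  simp only [be, Pi.neg_apply]
  ring

/-- the invariance of the two sets -/
theorem Zs.map {L : List V0} {s : Bool} {k k' : V0 → V0} (h1 : ∀ x, k' (k x) = x) (h1' : ∀ x, k (k' x) = x)
    (hn : ∀ x, k (-x) = -k x) (hb : ∀ x y, be (k x) (k y) = be x y) (hL : ∀ x ∈ L, k x ∈ L) (hL' : ∀ x ∈ L, k' x ∈ L)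
    (hw : k w0 = w0 ∨ k w0 = -w0) {r : V0} (h : Zs L s r) : Zs L s (k r) := by
  have h2 : ∀ x, be w0 (k x) = 0 ↔ be w0 x = 0 := fun x => by
    rw [← hb w0 x]
    rcases hw with e | e <;> rw [e]
    rw [be_neg, neg_eq_zero]
  have h3 : Function.Injective k := Function.LeftInverse.injective h1
  refine ⟨hL r h.1, (h2 r).2 h.2.1, Iff.trans ⟨fun a r' hr' e => ?_, fun a r' hr' e => ?_⟩ h.2.2⟩
  · have h4 := a (k r') (hL r' hr') ((h2 r').2 e)
    rwa [hb, ← hn, h3.eq_iff, h3.eq_iff] at h4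
  · have h4 := a (k' r') (hL' r' hr') ((h2 _).1 (by rwa [h1']))
    rwa [← hb, ← h3.eq_iff, ← h3.eq_iff (b := -r), h1', hn] at h4

section frame

variable {V : Type*} [AddCommGroup V] [Module (ZMod 3) V] {u : Fin 8 → V}

theorem eq_sum (x : V0) : x = ∑ i : Fin 7, x i • cc i.castSucc := by
  have h : ∀ i j : Fin 7, cc i.castSucc j = if i = j then 1 else 0 := by decide
  funext j
  simp only [Finset.sum_apply, Pi.smul_apply, h, smul_eq_mul, mul_ite, mul_one, mul_zero, Finset.sum_ite_eq',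
    Finset.mem_univ, if_true]

/-- coordinates -/
theorem exists_coord (hu : Fr8 (ZMod 3) u) (h7 : Module.finrank (ZMod 3) V = 7) :
    ∃ φ : V0 ≃ₗ[ZMod 3] V, ∀ i, φ (cc i) = u i := by
  have h : ∀ i : Fin 7, cc i.castSucc = Pi.single i 1 := by decide
  have h1 : ∀ i : Fin 7, (hu.basis h7).equivFun.symm (cc i.castSucc) = u i.castSucc := fun i => by
    rw [h, ← hu.basis_apply h7, LinearEquiv.symm_apply_eq]
    funext j
    rw [Module.Basis.equivFun_self, Pi.single_apply]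
    exact if_congr eq_comm rfl rfl
  refine ⟨(hu.basis h7).equivFun.symm, fun i => ?_⟩
  rcases Fin.eq_castSucc_or_eq_last i with ⟨j, rfl⟩ | rfl
  · exact h1 j
  · rw [hu.last_eq, show cc (Fin.last 7) = -∑ j : Fin 7, cc j.castSucc by decide, map_neg, map_sum]
    simp only [h1]

theorem map_act {φ : V0 ≃ₗ[ZMod 3] V} {k : V →ₗ[ZMod 3] V} {σ : Perm (Fin 8)} (h : ∀ i, k (φ (cc i)) = φ (cc (σ i)))
    (x : V0) : k (φ x) = φ (act σ x) := by
  conv_lhs => rw [eq_sum x]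
  simp only [act, map_sum, map_smul, h]

theorem map_Xs {φ : V0 ≃ₗ[ZMod 3] V} (h : ∀ i, φ (cc i) = u i) (x : V0) : φ x ∈ Xs u ↔ x ∈ L6 := by
  rw [mem6]
  simp only [Xs, Set.mem_ofPred_eq, ← h, ← map_sub, ← map_sum, φ.injective.eq_iff]

theorem map_X9 {φ : V0 ≃ₗ[ZMod 3] V} (h : ∀ i, φ (cc i) = u i) (x : V0) : φ x ∈ X9 u ↔ x ∈ L9 := by
  rw [mem9]
  simp only [X9, Set.mem_ofPred_eq, ← h, ← map_sub, ← map_neg, φ.injective.eq_iff]

/-- the form in coordinates -/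
theorem form_coord {φ : V0 ≃ₗ[ZMod 3] V} (B : V →ₗ[ZMod 3] V →ₗ[ZMod 3] ZMod 3) {b : ZMod 3}
    (h1 : ∀ i j, i ≠ j → B (φ (cc i)) (φ (cc j)) = b) (h2 : ∀ i, B (φ (cc i)) (φ (cc i)) = -7 * b) (x y : V0) :
    B (φ x) (φ y) = b * be x y := by
  have h3 : ∀ i j : Fin 7, B (φ (cc i.castSucc)) (φ (cc j.castSucc)) = b + if i = j then b else 0 := fun i j => by
    by_cases e : i = j
    · rw [if_pos e, e, h2, show (-7 : ZMod 3) = 2 by decide, two_mul]
    · rw [if_neg e, h1 _ _ fun k => e (Fin.castSucc_injective _ k), add_zero]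
  conv_lhs => rw [eq_sum x, eq_sum y]
  simp only [map_sum, map_smul, LinearMap.sum_apply, LinearMap.smul_apply, h3, smul_eq_mul, mul_add, Finset.sum_add_distrib,
    mul_ite, mul_zero, Finset.sum_ite_eq', Finset.mem_univ, if_true]
  simp only [Fin.sum_univ_seven, be]
  ring

end frame

end Cfsg.Agent.SM.Oo.E
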