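import Cfsg.Agent.SM.Oo.E1B
import Cfsg.Agent.SM.Oo.Cnt

/-!
# SM (S3570), family `fO`, boxes E1 and E3: frames for the groups `A₉` and `Sp₆(2)` in `Ω₇(3)` (helper94)
-/

set_option autoImplicit false
set_option linter.unusedSectionVars false

namespace Cfsg.Agent.SM.Oo.E

open Cfsg Cfsg.Geo Equiv QuadraticMap Cfsg.Agent.H856.Sv Cfsg.Agent.H856.SpS
open Cfsg.Agent.LieClassical.OrthCore Cfsg.Agent.LieClassical.OrthTrans Cfsg.Agent.LieClassical.OrthFinite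
open Cfsg.Agent.LieClassical.OrthForms (oddForm nondeg_oddForm)
open scoped MatrixGroups

/-- the matrices -/
abbrev G7 : Type := GL (I 3) (ZMod 3)

/-- the space -/
abbrev W7 : Type := W 3 (ZMod 3)

theorem two3 : (2 : ZMod 3) ≠ 0 := by decide

theorem three3 : ∀ c : ZMod 3, c = 0 ∨ c = 1 ∨ c = -1 := by decide

theorem good3 : Good (oddForm 3 (ZMod 3)) := good two3 (by norm_num)

theorem rank7 : Module.finrank (ZMod 3) W7 = 7 := finrank_W

theorem sem3 {g : Perm W7} (hg : g ∈ Sem 3 (ZMod 3)) :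
    ∃ a ∈ Is 3 (ZMod 3), (a : Matrix (I 3) (I 3) (ZMod 3)).det = 1 ∧ lin a = g := by
  obtain ⟨σ, a, ha, hd, h⟩ := hg
  refine ⟨a, ha, hd, Perm.ext fun v => ?_⟩
  rw [h, lin_apply]
  congr 1
  funext i
  exact (RingHom.congr_fun (RingHom.ext_zmod (σ : ZMod 3 →+* ZMod 3) (RingHom.id _)) (v i)).symm

/-- `h` normalises `P` -/
def Nm (P : Subgroup G7) (h : G7) : Prop := ∀ x ∈ P, h * x * h⁻¹ ∈ P

/-- a frame -/
structure Fm (P : Subgroup G7) (L : List V0) (φ : V0 ≃ₗ[ZMod 3] W7) (b : ZMod 3) : Prop where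
  form : ∀ x y, bf (φ x) (φ y) = b * be x y
  alt : ∀ g : alternatingGroup (Fin 8), ∃ p ∈ P, ∀ x, ap p (φ x) = φ (act g.1 x)
  inv : ∀ h, Nm P h → ∀ x ∈ L, φ.symm (ap h (φ x)) ∈ L

variable {K P N : Subgroup G7} {L : List V0} {φ : V0 ≃ₗ[ZMod 3] W7} {b : ZMod 3} {s : Bool}

theorem fm_of (hP : P ≤ Is 3 (ZMod 3)) {u : Fin 8 → W7} (hu : Fr8 (ZMod 3) u)
    (alt : ∀ g : alternatingGroup (Fin 8), ∃ p ∈ P, ∀ i, ap p (u i) = u (g.1 i)) {X : Set W7}
    (hX : ∀ φ : V0 ≃ₗ[ZMod 3] W7, (∀ i, φ (cc i) = u i) → ∀ x, φ x ∈ X ↔ x ∈ L)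
    (inv : ∀ h, Nm P h → ∀ v ∈ X, ap h v ∈ X) : ∃ φ b, b ≠ 0 ∧ Fm P L φ b := by
  obtain ⟨φ, hφ⟩ := exists_coord hu rank7
  have hI : Inv8 (oddForm 3 (ZMod 3)) u (bf (u 0) (u 1)) := ⟨hu, fun i j hij => by
    obtain ⟨g, h0, h1⟩ := exists_even_pair hij
    obtain ⟨p, hp, e⟩ := alt g
    rw [← bf_eq, ← bf_ap (hP hp) (u 0), e, e, h0, h1]⟩
  refine ⟨φ, _, hI.b_ne rank7 (nondeg_oddForm 3 _ two3), fun x y => ?_, fun g => ?_, fun h hn x hx => ?_⟩
  · rw [bf_eq]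
    refine form_coord (polarBilin (oddForm 3 (ZMod 3))) (fun i j hij => ?_) (fun i => ?_) x y
    · rw [hφ, hφ]
      exact hI.pol i j hij
    · rw [hφ]
      exact hI.pol_self i
  · obtain ⟨p, hp, e⟩ := alt g
    exact ⟨p, hp, map_act (k := (glEquiv (I 3) (ZMod 3) p : W7 →ₗ[ZMod 3] W7)) fun i => by
      rw [hφ, hφ]
      exact e i⟩
  · rw [← hX φ hφ, LinearEquiv.apply_symm_apply]
    exact inv h hn _ ((hX φ hφ x).2 hx)

/-- the representation given by an isomorphism -/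
noncomputable def tau {G : Type} [Group G] (e : P ≃* G) : G →* (W7 ≃ₗ[ZMod 3] W7) :=
  (glEquiv (I 3) (ZMod 3)).toMonoidHom.comp (P.subtype.comp e.symm.toMonoidHom)

theorem tau_inj {G : Type} [Group G] (e : P ≃* G) : Function.Injective (tau e) :=
  (glEquiv (I 3) (ZMod 3)).injective.comp (P.subtype_injective.comp e.symm.injective)

theorem tau_apply {G : Type} [Group G] (e : P ≃* G) (x : P) : tau e (e x) = glEquiv (I 3) (ZMod 3) x := by
  show glEquiv (I 3) (ZMod 3) (e.symm (e x) : P) = _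
  rw [e.symm_apply_apply]

theorem tau_norm {G : Type} [Group G] (e : P ≃* G) {h : G7} (hn : Nm P h) (g : G) :
    ∃ g', tau e g' = glEquiv (I 3) (ZMod 3) h * tau e g * (glEquiv (I 3) (ZMod 3) h)⁻¹ :=
  ⟨e ⟨_, hn _ (e.symm g).2⟩, by rw [tau_apply, map_mul, map_mul, map_inv]; rfl⟩

theorem fm6 (hP : P ≤ Is 3 (ZMod 3)) (hn : ¬ IsMulCommutative P) (ha : ActsAbsolutelyIrreducibly (matrixSet P))
    (e : P ≃* G6) : ∃ φ b, b ≠ 0 ∧ Fm P L6 φ b := by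
  obtain ⟨u, hu, h1, h2⟩ := sp6_frame rank7 two3 (tau e) fun h => hn ⟨⟨fun x y => e.injective (tau_inj e (by
    rw [map_mul e, map_mul e, map_mul, map_mul, h]))⟩⟩
  refine fm_of hP hu (fun g => ⟨_, (e.symm (phi g)).2, h1 g⟩) (fun φ => map_Xs) fun h hh => ?_
  refine sp6_norm hu (tau_inj e) h2 three3 (fun k hk => ?_) (tau_norm e hh)
  obtain ⟨k, rfl⟩ := (glEquiv (I 3) (ZMod 3)).surjective k
  obtain ⟨c, hc⟩ := ha.2 k (by
    rintro _ ⟨x, hx, rfl⟩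
    have h3 := hk (e ⟨x, hx⟩)
    rw [tau_apply, ← map_mul, ← map_mul] at h3
    exact congrArg Units.val ((glEquiv (I 3) (ZMod 3)).injective h3))
  exact ⟨c, fun v => by rw [glEquiv_apply, hc, Matrix.smul_mulVec, Matrix.one_mulVec]⟩

theorem span_ne_top {w : W7} (hw : w ≠ 0) : Submodule.span (ZMod 3) {w} ≠ ⊤ := fun h => by
  have h1 := finrank_span_singleton (K := ZMod 3) hw
  rw [h, finrank_top, rank7] at h1
  omega

theorem fm9 (hP : P ≤ Is 3 (ZMod 3)) (ha : ActsAbsolutelyIrreducibly (matrixSet P)) (e : P ≃* alternatingGroup (Fin 9)) :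
    ∃ φ b, b ≠ 0 ∧ Fm P L9 φ b := by
  obtain ⟨u, hu, h1, h2⟩ := a9_frame rank7 two3 (tau e) (fun w hw => by
    by_contra h0
    rcases irr_iff.2 ha.1 (Submodule.span (ZMod 3) {w}) (fun x hx v hv => by
      obtain ⟨c, rfl⟩ := Submodule.mem_span_singleton.1 hv
      have h3 := hw (e ⟨x, hx⟩)
      rw [tau_apply] at h3
      rw [ap_smul, ap_eq, h3]
      exact hv) with h | h
    · exact h0 (Submodule.span_singleton_eq_bot.1 h)
    · exact span_ne_top h0 h) (tau_inj e) three3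
  refine fm_of hP hu (fun g => ?_) (fun φ => map_X9) fun h hh => h2 _ (tau_norm e hh)
  obtain ⟨k, hk⟩ := h1 g
  exact ⟨_, (e.symm k).2, hk⟩

theorem Fm.qf_eq (f : Fm P L φ b) (x : V0) : qf (φ x) = 2 * b * be x x := by
  have h := f.form x x
  rw [bf_self] at h
  have h4 : (2 : ZMod 3) * 2 = 1 := by decide
  calc qf (φ x) = 2 * (2 * qf (φ x)) := by rw [← mul_assoc, h4, one_mul]
    _ = _ := by rw [h, mul_assoc]

/-- change of the frame -/
theorem Fm.move (f : Fm P L φ b) {g : G7} (hg : g ∈ Is 3 (ZMod 3)) (h1 : Nm P g) (h2 : Nm P g⁻¹) :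
    Fm P L (φ.trans (glEquiv (I 3) (ZMod 3) g)) b := by
  refine ⟨fun x y => (bf_ap hg _ _).trans (f.form x y), fun σ => ?_, fun h hh x hx => ?_⟩
  · obtain ⟨p, hp, e⟩ := f.alt σ
    refine ⟨_, h1 p hp, fun x => ?_⟩
    show ap _ (ap g (φ x)) = ap g (φ _)
    rw [ap_mul, ap_inv_ap, ap_mul, e]
  · have h3 := f.inv (g⁻¹ * h * g) (fun y hy => by
      have h4 := h2 _ (hh _ (h1 y hy))
      rwa [show g⁻¹ * (h * (g * y * g⁻¹) * h⁻¹) * g⁻¹⁻¹ = g⁻¹ * h * g * y * (g⁻¹ * h * g)⁻¹ by group] at h4) x hx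
    rwa [ap_mul, ap_mul, show ap g⁻¹ (ap h (ap g (φ x))) = (glEquiv (I 3) (ZMod 3) g).symm (ap h (ap g (φ x))) by
      rw [LinearEquiv.eq_symm_apply, ← ap_eq, ap_ap_inv]] at h3

/-- a frame adapted to the point -/
theorem Fm.adapt (f : Fm P L φ b) (hb : b ≠ 0) (d : Dat L s) (hN : N ≤ Is 3 (ZMod 3)) (hn : ∀ y ∈ N, Nm P y) {w : W7}
    (ht : ∀ v : W7, qf v = 1 → ∃ y ∈ N, ∃ c : ZMod 3, ap y (c • w) = v) :
    ∃ (φ' : V0 ≃ₗ[ZMod 3] W7) (c : ZMod 3), Fm P L φ' 2 ∧ φ' w0 = c • w := by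
  rcases three3 b with rfl | rfl | rfl
  · exact absurd rfl hb
  · exfalso
    obtain ⟨x, h1, h2, h3⟩ := d.non
    obtain ⟨y, hy, c, e⟩ := ht (φ x) (by rw [f.qf_eq, h1]; decide)
    obtain ⟨y', hy', c', e'⟩ := ht (φ (vec 7)) (by rw [f.qf_eq, be_root]; decide)
    have h4 := f.inv _ (hn _ (N.mul_mem hy (N.inv_mem hy'))) _ d.root
    rw [← e', ap_mul, ap_inv_ap] at h4
    have h5 : c ≠ 0 := by
      rintro rfl
      rw [zero_smul, ap_zero, eq_comm, LinearEquiv.map_eq_zero_iff] at e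
      rw [e] at h1
      revert h1
      decide
    have h6 : c' ≠ 0 := by
      rintro rfl
      rw [zero_smul, ap_zero, eq_comm, LinearEquiv.map_eq_zero_iff] at e'
      revert e'
      decide
    have h7 : ∀ c c' : ZMod 3, c ≠ 0 → c' ≠ 0 → c' = c ∨ c' = -c := by decide
    rcases h7 c c' h5 h6 with rfl | rfl
    · rw [e, LinearEquiv.symm_apply_apply] at h4
      exact h2 h4
    · rw [neg_smul, ap_neg, e, ← map_neg, LinearEquiv.symm_apply_apply] at h4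
      exact h3 h4
  · obtain ⟨y, hy, c, e⟩ := ht (φ w0) (by rw [f.qf_eq, be_w0]; decide)
    refine ⟨_, c, f.move (hN (N.inv_mem hy)) (hn _ (N.inv_mem hy)) (hn _ (N.inv_mem (N.inv_mem hy))), ?_⟩
    show ap y⁻¹ (φ w0) = _
    rw [← e, ap_inv_ap]

/-- the invariant set -/
def Zw (φ : V0 ≃ₗ[ZMod 3] W7) (L : List V0) (s : Bool) : Set W7 := {v | Zs L s (φ.symm v)}

theorem mem_St_Zw {g : G7} {k : V0 → V0} (e : ∀ x, ap g (φ x) = φ (k x)) :
    lin g ∈ St (Zw φ L s) ↔ ∀ r, Zs L s r → Zs L s (k r) := by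
  have h : ∀ r, lin g (φ r) ∈ Zw φ L s ↔ Zs L s (k r) := fun r => by
    rw [lin_apply, e]
    show Zs L s (φ.symm _) ↔ _
    rw [LinearEquiv.symm_apply_apply]
  refine ⟨fun a r hr => (h r).1 ((a _).2 ?_), fun a => mem_St_of fun v hv => ?_⟩
  · show Zs L s (φ.symm _)
    rwa [LinearEquiv.symm_apply_apply]
  · rw [← φ.apply_symm_apply v, h]
    exact a _ hv

/-- the stabiliser of the point keeps the set -/
theorem Fm.mem_St (f : Fm P L φ 2) {g : G7} (hg : g ∈ Is 3 (ZMod 3)) (h1 : Nm P g) (h2 : Nm P g⁻¹) {c : ZMod 3}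
    (hw : ap g (φ w0) = c • φ w0) : lin g ∈ St (Zw φ L s) := by
  rw [mem_St_Zw (k := fun x => φ.symm (ap g (φ x))) fun x => (φ.apply_symm_apply _).symm]
  refine fun r => Zs.map (k' := fun x => φ.symm (ap g⁻¹ (φ x))) (fun x => ?_) (fun x => ?_) (fun x => ?_) (fun x y => ?_)
    (f.inv g h1) (f.inv _ h2) ?_
  · rw [LinearEquiv.apply_symm_apply, ap_inv_ap, LinearEquiv.symm_apply_apply]
  · rw [LinearEquiv.apply_symm_apply, ap_ap_inv, LinearEquiv.symm_apply_apply]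
  · rw [map_neg, ap_neg, map_neg]
  · refine mul_left_cancel₀ two3 ?_
    rw [← f.form, ← f.form, LinearEquiv.apply_symm_apply, LinearEquiv.apply_symm_apply, bf_ap hg]
  · rcases sgn_of_fix hg (by rw [f.qf_eq, be_w0]; decide) hw with rfl | rfl
    · exact Or.inl (by rw [hw, one_smul, LinearEquiv.symm_apply_apply])
    · exact Or.inr (by rw [hw, neg_smul, one_smul, map_neg, LinearEquiv.symm_apply_apply])

/-- products of two reflections -/
theorem Fm.refl (f : Fm P L φ 2) {a a' : V0} (ha : be a a = 2) (ha' : be a' a' = 2) :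
    ∃ g ∈ Om 3 (ZMod 3), ∀ x, ap g (φ x) = φ (rf a (rf a' x)) := by
  have h1 : ∀ {a : V0}, be a a = 2 → oddForm 3 (ZMod 3) (φ a) = 2 := fun h => by rw [← Oo.qf_eq, f.qf_eq, h]; decide
  have h2 : ∀ {a : V0} (h : be a a = 2) (x : V0),
      LieClassical.OrthCore.refl (oddForm 3 (ZMod 3)) (φ a) (h1 h ▸ two3) (φ x) = φ (rf a x) := fun h x => by
    rw [LieClassical.OrthCore.refl_apply, h1 h, ← bf_eq, f.form, inv_mul_cancel_left₀ two3, rf, map_sub, map_smul]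
  obtain ⟨g, hg, e⟩ := exists_Om good3 (good3.refl_mul_refl_mem (h1 ha' ▸ two3) (h1 ha ▸ two3) ((h1 ha').trans (h1 ha).symm))
  exact ⟨g, hg, fun x => by rw [e, ← h2 ha, ← h2 ha']; rfl⟩

/-- the core of a maximal subgroup -/
theorem core_iso (hK : K ≤ Om 3 (ZMod 3)) (h : IsResidualCore K P) :
    Nonempty (P ≃* P ⧸ (scalars (I 3) (ZMod 3)).subgroupOf P) := by
  have h1 : (scalars (I 3) (ZMod 3)).subgroupOf P = ⊥ :=
    eq_bot_iff.2 fun x hx => Subgroup.mem_bot.2 (Subtype.ext (scalars_inf (hK (h.le x.2)) hx))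
  exact ⟨((QuotientGroup.quotientMulEquivOfEq h1).trans QuotientGroup.quotientBot).symm⟩

theorem core_as (hK : K ≤ Om 3 (ZMod 3)) (h : IsResidualCore K P) : AS K P := by
  obtain ⟨e⟩ := core_iso hK h
  have := h.simple
  refine ⟨h.le, h.normal, e.isSimpleGroup, fun k => h.nonabelian ⟨⟨fun a b => e.symm.injective ?_⟩⟩, fun g hg hc => ?_⟩
  · rw [map_mul, map_mul, k.is_comm.comm]
  · refine scalars_inf (hK hg) (h.centralizer_scalar g hg fun x hx => ?_)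
    rw [hc x hx, mul_inv_cancel_right, mul_inv_cancel]
    exact Subgroup.one_mem _

/-- **the model** -/
theorem Sm.model {Y : Subgroup G7} (h : Sm Y) : ∃ K P : Subgroup G7, K ≤ Om 3 (ZMod 3) ∧ Y ≤ K ∧ AS K P ∧
    (Nonempty (P ≃* alternatingGroup (Fin 9)) ∨ Nonempty (P ≃* G6)) ∧
    ∃ L s φ b, Dat L s ∧ b ≠ 0 ∧ Fm P L φ b := by
  obtain ⟨K, P, hK, hY, hc, hi⟩ := h
  obtain ⟨e⟩ := core_iso hK.1.le hc
  have hA := core_as hK.1.le hc
  have hP : P ≤ Is 3 (ZMod 3) := hc.le.trans (hK.1.le.trans Om_le)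
  refine ⟨K, P, hK.1.le, hY, hA, ?_⟩
  rcases hi with ⟨⟨e'⟩⟩ | ⟨⟨e'⟩⟩
  · obtain ⟨φ, b, h1, h2⟩ := fm9 hP hc.absIrred (e.trans e')
    exact ⟨Or.inl ⟨e.trans e'⟩, _, _, φ, b, dat9, h1, h2⟩
  · obtain ⟨e''⟩ := StandardComponent.SpTwoAut.exists_equiv₀
    obtain ⟨φ, b, h1, h2⟩ := fm6 hP hA.nab hc.absIrred ((e.trans e').trans e'')
    exact ⟨Or.inr ⟨(e.trans e').trans e''⟩, _, _, φ, b, dat6, h1, h2⟩

end Cfsg.Agent.SM.Oo.E
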