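import Cfsg.Agent.SM.Oo.Cnt
import Cfsg.Agent.S2633

/-!
# SM (S3570), family `fO`: reflections and Witt's theorem inside `Ω` (helper96)

* `rf`, `ap_rf`, `rf_rf_mem`; `adjust`, `witt_fam` (families, pointwise), `trans_ts`, `isSquare_of_perp`.
-/

set_option autoImplicit false
set_option linter.unusedSectionVars false

namespace Cfsg.Agent.SM.Oo

open Cfsg Cfsg.Geo Matrix Equiv QuadraticMap Module
open Cfsg.Agent.LieClassical.OrthCore Cfsg.Agent.LieClassical.OrthTrans Cfsg.Agent.LieClassical.OrthFinite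
open Cfsg.Agent.LieClassical.OrthForms (oddForm coe_oddForm nondeg_oddForm)
open Cfsg.Agent.ClassicalGeometry.Reflection (reflGL reflIso reflectionMatrix_mulVec det_reflectionMatrix)
open Cfsg.Agent.H175.OmegaAdjust
open scoped MatrixGroups

variable {m : ℕ} {F : Type} [Field F]

theorem nondegenerate (h2 : (2 : F) ≠ 0) : (polarBilin (oddForm m F)).Nondegenerate :=
  ⟨fun x h => nondeg_oddForm m F h2 x h, fun x h => nondeg_oddForm m F h2 x fun y => by rw [polar_comm]; exact h y⟩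

/-- the reflection -/
def rf (v : W m F) (hv : qf v ≠ 0) : GL (I m) F := reflGL (oddForm m F) v (qf_eq v ▸ hv)

theorem ap_rf {v : W m F} (hv : qf v ≠ 0) (x : W m F) : ap (rf v hv) x = x - ((qf v)⁻¹ * bf v x) • v := by
  rw [qf_eq, bf_eq]
  exact reflectionMatrix_mulVec (oddForm m F) v x

theorem rf_mem {v : W m F} (hv : qf v ≠ 0) : rf v hv ∈ Is m F := by
  rw [Is_eq]
  exact (reflIso (oddForm m F) v (qf_eq v ▸ hv)).2

theorem det_rf {v : W m F} (hv : qf v ≠ 0) : (rf v hv : Matrix (I m) (I m) F).det = -1 :=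
  det_reflectionMatrix (oddForm m F) v (qf_eq v ▸ hv)

theorem ap_rf_self {v : W m F} (hv : qf v ≠ 0) : ap (rf v hv) v = -v := by
  rw [ap_rf, bf_self, show (qf v)⁻¹ * (2 * qf v) = 2 by field_simp, two_smul, sub_add_cancel_left]

theorem ap_rf_perp {v x : W m F} (hv : qf v ≠ 0) (h : bf v x = 0) : ap (rf v hv) x = x := by
  rw [ap_rf, h, mul_zero, zero_smul, sub_zero]

theorem rf_mul_self {v : W m F} (hv : qf v ≠ 0) : rf v hv * rf v hv = 1 :=
  congrArg Subtype.val (ClassicalGeometry.Reflection.reflIso_mul_self (oddForm m F) v (qf_eq v ▸ hv))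

theorem gl_rf {v : W m F} (hv : qf v ≠ 0) : glEquiv (I m) F (rf v hv) = refl (oddForm m F) v (qf_eq v ▸ hv) :=
  LinearEquiv.ext fun x => by rw [← ap_eq, ap_rf, LieClassical.OrthCore.refl_apply, qf_eq, bf_eq]

/-- two reflections in vectors of the same square class -/
theorem rf_rf_mem (hG : Good (oddForm m F)) {u v : W m F} (hu : qf u ≠ 0) (hv : qf v ≠ 0) {c : F}
    (h : qf u = c ^ 2 * qf v) : rf u hu * rf v hv ∈ Om m F := by
  have hc : c ≠ 0 := fun e => hu (by rw [h, e]; ring)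
  have h1 : oddForm m F (c • v) ≠ 0 := by rw [← qf_eq, qf_smul, ← h]; exact hu
  rw [mem_Om hG, map_mul, gl_rf, gl_rf, ← refl_smul (qf_eq v ▸ hv) hc h1]
  exact hG.refl_mul_refl_mem _ _ (by rw [← qf_eq, ← qf_eq, qf_smul, h])

theorem neg_one_mem : (-1 : GL (I m) F) ∈ Is m F := mem_Is.2 fun v => by
  rw [ap, Units.val_neg, Units.val_one, neg_mulVec, one_mulVec, qf_neg]

theorem ap_neg_one (v : W m F) : ap (-1 : GL (I m) F) v = -v := by
  rw [ap, Units.val_neg, Units.val_one, neg_mulVec, one_mulVec]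

theorem det_neg_one : ((-1 : GL (I m) F) : Matrix (I m) (I m) F).det = -1 := by
  rw [Units.val_neg, Units.val_one, det_neg, det_one, mul_one, card_I, pow_succ, pow_mul, neg_one_sq, one_pow, one_mul]

variable [Finite F]

/-- a subgroup of the isometry group which covers `O / Ω` -/
theorem adjust (h2 : (2 : F) ≠ 0) (hm : 1 ≤ m) {K : Subgroup (GL (I m) F)} {a : GL (I m) F} (ha : a ∈ K)
    (ha' : a ∈ Is m F) (hd : (a : Matrix (I m) (I m) F).det = -1) {x y : W m F} (hx : qf x ≠ 0) (hy : qf y ≠ 0)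
    (hxy : ¬ IsSquare (qf x * qf y)) (hK : rf x hx * rf y hy ∈ K) {g : GL (I m) F} (hg : g ∈ Is m F) :
    ∃ s ∈ K, s ∈ Is m F ∧ g * s ∈ Om m F := by
  rw [Is_eq] at ha' hg
  obtain ⟨s, hs, h⟩ := adjust_odd (oddForm m F) h2 (nondegenerate h2) (by rw [card_I]; omega)
    (K.subgroupOf (isometryGroup F ⇑(oddForm m F))) ⟨a, ha'⟩
    (reflIso (oddForm m F) x (qf_eq x ▸ hx) * reflIso (oddForm m F) y (qf_eq y ▸ hy)) ha hK hd
    (det_refl_mul_refl _ x y _ _) (spinorSign_refl_mul_refl h2 _ x y _ _ (by rwa [← qf_eq, ← qf_eq])) ⟨g, hg⟩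
  refine ⟨s, hs, by rw [Is_eq]; exact s.2, ?_⟩
  rw [Om_eq]
  exact ⟨_, h, rfl⟩

/-- **Witt's theorem in `Ω`**, pointwise -/
theorem witt_fam (h2 : (2 : F) ≠ 0) (hm : 1 ≤ m) {k : ℕ} {x y : Fin k → W m F} (hx : LinearIndependent F x)
    (hy : LinearIndependent F y) (hq : ∀ i, qf (x i) = qf (y i)) (hb : ∀ i j, bf (x i) (x j) = bf (y i) (y j))
    {u v : W m F} (hu : qf u ≠ 0) (hv : qf v ≠ 0) (huv : ¬ IsSquare (qf u * qf v)) (hux : ∀ i, bf u (x i) = 0)
    (hvx : ∀ i, bf v (x i) = 0) : ∃ g ∈ Om m F, ∀ i, ap g (x i) = y i := by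
  obtain ⟨k, hk, e⟩ := ClassicalGeometry.WittQuad.extend_family (oddForm m F) (nondegenerate h2) k x y hx hy
    (fun i => by rw [← qf_eq, ← qf_eq, hq]) fun i j => by
      rw [polarBilin_apply_apply, polarBilin_apply_apply, ← bf_eq, ← bf_eq, hb]
  obtain ⟨g, hg, eg⟩ := exists_Is (mem_O.2 hk)
  let K : Subgroup (GL (I m) F) :=
    { carrier := {s | ∀ i, ap s (x i) = x i}
      one_mem' := fun i => ap_one _
      mul_mem' := fun {a b} ha hb i => by rw [ap_mul, hb, ha]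
      inv_mem' := fun {a} ha i => by conv_lhs => rw [← ha i, ap_inv_ap] }
  have h1 : rf u hu ∈ K := fun i => ap_rf_perp hu (hux i)
  have h3 : rf v hv ∈ K := fun i => ap_rf_perp hv (hvx i)
  obtain ⟨s, hs, -, h⟩ := adjust h2 hm h1 (rf_mem hu) (det_rf hu) hu hv huv (K.mul_mem h1 h3) hg
  exact ⟨g * s, h, fun i => by rw [ap_mul, hs i, eg, e]⟩

/-- `Ω` is transitive on the totally singular subspaces of each dimension -/
theorem trans_ts (h2 : (2 : F) ≠ 0) (hm : 1 ≤ m) {U U' : Submodule F (W m F)} (hU : Ts U) (hU' : Ts U')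
    (hd : finrank F U = finrank F U') : ∃ g ∈ Om m F, ∀ u, ap g u ∈ U' ↔ u ∈ U := by
  by_cases h0 : U = ⊥
  · have h1 : U' = ⊥ := by rwa [h0, finrank_bot, eq_comm, Submodule.finrank_eq_zero] at hd
    exact ⟨1, (Om m F).one_mem, fun u => by rw [ap_one, h0, h1]⟩
  let φ : U ≃ₗ[F] U' := LinearEquiv.ofFinrankEq U U' hd
  obtain ⟨k, hk, e⟩ := ClassicalGeometry.WittQuad.extend (oddForm m F) (nondegenerate h2) U U' φ
    fun x => by rw [← qf_eq, ← qf_eq, hU _ x.2, hU' _ (φ x).2]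
  obtain ⟨g, hg, eg⟩ := exists_Is (mem_O.2 hk)
  obtain ⟨c, hc⟩ : ∃ c : F, ¬ IsSquare c := FiniteField.exists_nonsquare fun e =>
    h2 (by exact_mod_cast (ringChar.spec F 2).2 (e ▸ dvd_rfl))
  obtain ⟨u, hu, hu0⟩ := (Submodule.ne_bot_iff U).1 h0
  obtain ⟨x, y, hx, hy, hxy, hs⟩ := S2633.exists_b (oddForm m F) (nondegenerate h2) U (fun u hu => qf_eq u ▸ hU u hu) u hu hu0
    c fun e => hc (e ▸ IsSquare.zero)
  rw [← qf_eq] at hx hy
  have h1 : lin (rf x hx * rf y hy) ∈ St (U : Set (W m F)) := mem_St_of fun u hu => by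
    have h3 : u ∈ U := hu
    rw [← (mem_stab _ _ _).1 hs]
    exact ⟨u, h3, rfl⟩
  have h3 : lin (-1 : GL (I m) F) ∈ St (U : Set (W m F)) := fun u => by
    rw [lin_apply, ap_neg_one]
    exact U.neg_mem_iff
  obtain ⟨s, hs', -, h⟩ := adjust (K := (St (U : Set (W m F))).comap lin) h2 hm h3 neg_one_mem det_neg_one hx hy
    (by rw [qf_eq, qf_eq, hxy]; exact hc) h1 hg
  refine ⟨g * s, h, fun u => Iff.trans ?_ (hs' u)⟩
  rw [ap_mul, lin_apply, eg]
  constructor
  · intro hu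
    have h4 := e (φ.symm ⟨_, hu⟩)
    rw [LinearEquiv.apply_symm_apply] at h4
    rw [← k.injective h4]
    exact (φ.symm _).2
  · intro hu
    rw [e ⟨_, hu⟩]
    exact (φ _).2

/-- the standard maximal totally singular subspace -/
def U0 (m : ℕ) (F : Type) [Field F] : Submodule F (W m F) :=
  LinearMap.range (LinearMap.pi fun i : I m => match i with
    | .inl _ => 0
    | .inr (.inl j) => LinearMap.proj (R := F) (φ := fun _ : Fin m => F) j
    | .inr (.inr _) => 0)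

theorem ts_U0 : Ts (U0 m F) := by
  rintro _ ⟨x, rfl⟩
  simp [qf, quadFormOdd]

theorem finrank_U0 : finrank F (U0 m F) = m := by
  rw [U0, LinearMap.finrank_range_of_inj, Module.finrank_fintype_fun_eq_card, Fintype.card_fin]
  intro x y e
  exact funext fun j => congrFun e (.inr (.inl j))

/-- a vector which is perpendicular to a maximal totally singular subspace has square norm -/
theorem isSquare_of_perp (h2 : (2 : F) ≠ 0) (hm : 1 ≤ m) {U : Submodule F (W m F)} (hU : Ts U) (hd : finrank F U = m)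
    {v : W m F} (hv : ∀ u ∈ U, bf v u = 0) : IsSquare (qf v) := by
  obtain ⟨g, hg, e⟩ := trans_ts h2 hm hU ts_U0 (hd.trans finrank_U0.symm)
  have h1 : ∀ j, ap g v (.inr (.inr j)) = 0 := by
    intro j
    have h3 : (Pi.single (.inr (.inl j)) 1 : W m F) ∈ U0 m F := ⟨Pi.single j 1, funext fun i => by
      rcases i with _ | i | i <;> simp [Pi.single_apply]⟩
    have h4 := hv (ap g⁻¹ (Pi.single (.inr (.inl j)) 1)) ((e _).1 (by rwa [ap_ap_inv]))
    rw [← bf_ap (Om_le hg), ap_ap_inv, bf_eq, LieClassical.OrthForms.polar_oddForm] at h4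
    simpa [Pi.single_apply] using h4
  rw [← mem_Is.1 (Om_le hg) v]
  exact ⟨ap g v (.inl ()), by simp [qf, quadFormOdd, h1, _root_.sq]⟩

end Cfsg.Agent.SM.Oo
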