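import Cfsg.Agent.SM.Oo.Red
import Cfsg.Agent.SM.Oo.Witt
import Cfsg.Agent.H179.G2Main

/-!
# SM (S3570), family `fO`: the cross product and the standard `G₂(q) < Ω₇(q)` (helper96)
-/

set_option autoImplicit false
set_option linter.unusedSectionVars false
set_option linter.unusedSimpArgs false

namespace Cfsg.Agent.SM.Oo

open Cfsg Cfsg.Geo Matrix Equiv Module Cfsg.Lie Cfsg.Agent.H161.Oct
open Cfsg.Agent.H64.SubG2 (inc cor cor_inc tr_inc inc_cor quad_eq rho rhoG rhoG_mulVec rhoG_inj rhoG_mem inc_rho)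
open scoped MatrixGroups

variable {F : Type} [Field F]

/-- the coordinates -/
abbrev j0 : I 3 := .inl ()
/-- the coordinates -/
abbrev ja (i : Fin 3) : I 3 := .inr (.inl i)
/-- the coordinates -/
abbrev jb (i : Fin 3) : I 3 := .inr (.inr i)

omit [Field F] in
theorem ext7 {u v : W 3 F} (h0 : u j0 = v j0) (h1 : u (ja 0) = v (ja 0)) (h2 : u (ja 1) = v (ja 1))
    (h3 : u (ja 2) = v (ja 2)) (h4 : u (jb 0) = v (jb 0)) (h5 : u (jb 1) = v (jb 1)) (h6 : u (jb 2) = v (jb 2)) : u = v := by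
  funext i
  rcases i with ⟨⟩ | j | j
  · exact h0
  · fin_cases j <;> assumption
  · fin_cases j <;> assumption

theorem qf3 (u : W 3 F) : qf u = u j0 ^ 2 + (u (ja 0) * u (jb 0) + u (ja 1) * u (jb 1) + u (ja 2) * u (jb 2)) := by
  simp only [qf, quadFormOdd, Fin.sum_univ_three]

theorem bf3 (u v : W 3 F) : bf u v = 2 * u j0 * v j0 + (u (ja 0) * v (jb 0) + u (ja 1) * v (jb 1) + u (ja 2) * v (jb 2)) +
    (v (ja 0) * u (jb 0) + v (ja 1) * u (jb 1) + v (ja 2) * u (jb 2)) := by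
  have h := qf_add u v
  simp only [qf3, Pi.add_apply] at h
  linear_combination -h

theorem inc0 (u : W 3 F) : inc F u 0 = u j0 := rfl
theorem inc1 (u : W 3 F) : inc F u 1 = u (ja 0) := rfl
theorem inc2 (u : W 3 F) : inc F u 2 = u (ja 1) := rfl
theorem inc3 (u : W 3 F) : inc F u 3 = u (ja 2) := rfl
theorem inc4 (u : W 3 F) : inc F u 4 = u (jb 0) := rfl
theorem inc5 (u : W 3 F) : inc F u 5 = u (jb 1) := rfl
theorem inc6 (u : W 3 F) : inc F u 6 = u (jb 2) := rfl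
theorem inc7 (u : W 3 F) : inc F u 7 = -u j0 := rfl
theorem cor0 (x : V F) : cor F x j0 = x 0 := rfl
theorem cor1 (x : V F) : cor F x (ja 0) = x 1 := rfl
theorem cor2 (x : V F) : cor F x (ja 1) = x 2 := rfl
theorem cor3 (x : V F) : cor F x (ja 2) = x 3 := rfl
theorem cor4 (x : V F) : cor F x (jb 0) = x 4 := rfl
theorem cor5 (x : V F) : cor F x (jb 1) = x 5 := rfl
theorem cor6 (x : V F) : cor F x (jb 2) = x 6 := rfl

theorem cr0 (u v : W 3 F) : cr u v j0 = (u (ja 0) * v (jb 0) + u (ja 1) * v (jb 1) + u (ja 2) * v (jb 2)) -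
    (v (ja 0) * u (jb 0) + v (ja 1) * u (jb 1) + v (ja 2) * u (jb 2)) := by
  rw [cr, cor0, Pi.sub_apply, mul0, mul0]
  simp only [inc0, inc1, inc2, inc3, inc4, inc5, inc6, inc7]
  ring
theorem cr1 (u v : W 3 F) : cr u v (ja 0) =
    2 * (u j0 * v (ja 0) - v j0 * u (ja 0) - (u (jb 1) * v (jb 2) - u (jb 2) * v (jb 1))) := by
  rw [cr, cor1, Pi.sub_apply, mul1, mul1]
  simp only [inc0, inc1, inc2, inc3, inc4, inc5, inc6, inc7]
  ring
theorem cr2 (u v : W 3 F) : cr u v (ja 1) =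
    2 * (u j0 * v (ja 1) - v j0 * u (ja 1) - (u (jb 2) * v (jb 0) - u (jb 0) * v (jb 2))) := by
  rw [cr, cor2, Pi.sub_apply, mul2, mul2]
  simp only [inc0, inc1, inc2, inc3, inc4, inc5, inc6, inc7]
  ring
theorem cr3 (u v : W 3 F) : cr u v (ja 2) =
    2 * (u j0 * v (ja 2) - v j0 * u (ja 2) - (u (jb 0) * v (jb 1) - u (jb 1) * v (jb 0))) := by
  rw [cr, cor3, Pi.sub_apply, mul3, mul3]
  simp only [inc0, inc1, inc2, inc3, inc4, inc5, inc6, inc7]
  ring
theorem cr4 (u v : W 3 F) : cr u v (jb 0) =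
    2 * (v j0 * u (jb 0) - u j0 * v (jb 0) + (u (ja 1) * v (ja 2) - u (ja 2) * v (ja 1))) := by
  rw [cr, cor4, Pi.sub_apply, mul4, mul4]
  simp only [inc0, inc1, inc2, inc3, inc4, inc5, inc6, inc7]
  ring
theorem cr5 (u v : W 3 F) : cr u v (jb 1) =
    2 * (v j0 * u (jb 1) - u j0 * v (jb 1) + (u (ja 2) * v (ja 0) - u (ja 0) * v (ja 2))) := by
  rw [cr, cor5, Pi.sub_apply, mul5, mul5]
  simp only [inc0, inc1, inc2, inc3, inc4, inc5, inc6, inc7]
  ring
theorem cr6 (u v : W 3 F) : cr u v (jb 2) =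
    2 * (v j0 * u (jb 2) - u j0 * v (jb 2) + (u (ja 0) * v (ja 1) - u (ja 1) * v (ja 0))) := by
  rw [cr, cor6, Pi.sub_apply, mul6, mul6]
  simp only [inc0, inc1, inc2, inc3, inc4, inc5, inc6, inc7]
  ring

theorem cr_add (u v w : W 3 F) : cr u (v + w) = cr u v + cr u w := by
  apply ext7 <;> simp only [cr0, cr1, cr2, cr3, cr4, cr5, cr6, Pi.add_apply] <;> ring

theorem cr_smul (c : F) (u v : W 3 F) : cr u (c • v) = c • cr u v := by
  apply ext7 <;> simp only [cr0, cr1, cr2, cr3, cr4, cr5, cr6, Pi.smul_apply, smul_eq_mul] <;> ring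

theorem cr_anti (u v : W 3 F) : cr u v = -cr v u := by
  apply ext7 <;> simp only [cr0, cr1, cr2, cr3, cr4, cr5, cr6, Pi.neg_apply] <;> ring

theorem cr_self (u : W 3 F) : cr u u = 0 := by
  apply ext7 <;> simp only [cr0, cr1, cr2, cr3, cr4, cr5, cr6, Pi.zero_apply] <;> ring

theorem cr_add' (u v w : W 3 F) : cr (u + v) w = cr u w + cr v w := by
  apply ext7 <;> simp only [cr0, cr1, cr2, cr3, cr4, cr5, cr6, Pi.add_apply] <;> ring

theorem cr_smul' (c : F) (u v : W 3 F) : cr (c • u) v = c • cr u v := by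
  apply ext7 <;> simp only [cr0, cr1, cr2, cr3, cr4, cr5, cr6, Pi.smul_apply, smul_eq_mul] <;> ring

theorem cr_neg_neg (u v : W 3 F) : cr (-u) (-v) = cr u v := by
  apply ext7 <;> simp only [cr0, cr1, cr2, cr3, cr4, cr5, cr6, Pi.neg_apply] <;> ring

/-- the cross product as a bilinear map -/
def crL (F : Type) [Field F] : W 3 F →ₗ[F] W 3 F →ₗ[F] W 3 F := LinearMap.mk₂ F cr cr_add' cr_smul' cr_add cr_smul

theorem crL_apply (u v : W 3 F) : crL F u v = cr u v := rfl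

theorem cr_tw (σ : F ≃+* F) (u v : W 3 F) : cr (σ ∘ u) (σ ∘ v) = σ ∘ cr u v := by
  apply ext7 <;> simp only [Function.comp_apply, cr0, cr1, cr2, cr3, cr4, cr5, cr6, map_mul, map_add, map_sub, map_ofNat]

theorem qf_cr (u v : W 3 F) : qf (cr u v) = bf u v ^ 2 - 4 * qf u * qf v := by
  simp only [qf3, bf3, cr0, cr1, cr2, cr3, cr4, cr5, cr6]
  ring

theorem bf_cr_left (u v : W 3 F) : bf (cr u v) u = 0 := by
  simp only [bf3, cr0, cr1, cr2, cr3, cr4, cr5, cr6]
  ring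

theorem bf_cr_right (u v : W 3 F) : bf (cr u v) v = 0 := by
  simp only [bf3, cr0, cr1, cr2, cr3, cr4, cr5, cr6]
  ring

theorem bf_cr_rot (u v w : W 3 F) : bf (cr u v) w = bf (cr v w) u := by
  simp only [bf3, cr0, cr1, cr2, cr3, cr4, cr5, cr6]
  ring

theorem cr_cr (u v : W 3 F) : cr u (cr u v) = (4 * qf u) • v - (2 * bf u v) • u := by
  apply ext7 <;> simp only [qf3, bf3, cr0, cr1, cr2, cr3, cr4, cr5, cr6, Pi.sub_apply, Pi.smul_apply, smul_eq_mul] <;> ring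

theorem inc_cr (u v : W 3 F) : inc F (cr u v) = zornMul (inc F u) (inc F v) - zornMul (inc F v) (inc F u) := by
  refine inc_cor ?_
  rw [tr, Pi.sub_apply, Pi.sub_apply, mul0, mul0, mul7, mul7]
  simp only [inc0, inc1, inc2, inc3, inc4, inc5, inc6, inc7]
  ring

theorem mul_inc (u v : W 3 F) : (2 : F) • zornMul (inc F u) (inc F v) = inc F (cr u v) + bf u v • o := by
  apply ext8 <;> simp only [Pi.smul_apply, Pi.add_apply, smul_eq_mul, mul0, mul1, mul2, mul3, mul4, mul5, mul6, mul7, inc0,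
    inc1, inc2, inc3, inc4, inc5, inc6, inc7, o0, o1, o2, o3, o4, o5, o6, o7, bf3, cr0, cr1, cr2, cr3, cr4, cr5, cr6] <;> ring

theorem mem_CrG {g : Perm (W 3 F)} : g ∈ CrG F ↔ ∀ u v, g (cr u v) = cr (g u) (g v) := Iff.rfl

theorem lin_mem_CrG {a : GL (I 3) F} : lin a ∈ CrG F ↔ ∀ u v, ap a (cr u v) = cr (ap a u) (ap a v) := Iff.rfl

theorem mem_G0 {a : GL (I 3) F} : a ∈ G0 F ↔ (∀ u v, ap a (cr u v) = cr (ap a u) (ap a v)) ∧ a ∈ Om 3 F := Iff.rfl

theorem G0_le : G0 F ≤ Om 3 F := fun _ h => h.2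

theorem tw_CrG (σ : F ≃+* F) {a : GL (I 3) F} (h : lin a ∈ CrG F) : lin (tw σ a) ∈ CrG F := lin_mem_CrG.2 fun u v => by
  obtain ⟨u, rfl⟩ : ∃ u', u = σ ∘ u' := ⟨_, (comp_symm σ u).symm⟩
  obtain ⟨v, rfl⟩ : ∃ v', v = σ ∘ v' := ⟨_, (comp_symm σ v).symm⟩
  rw [cr_tw, ap_tw, ap_tw, ap_tw, cr_tw, lin_mem_CrG.1 h]

theorem tw_G0 (σ : F ≃+* F) {a : GL (I 3) F} (h : a ∈ G0 F) : tw σ a ∈ G0 F := ⟨tw_CrG σ h.1, tw_Om σ h.2⟩

theorem ap_rhoG (f : AutO F) (v : W 3 F) : ap (rhoG f) v = cor F (f.1 (inc F v)) := rhoG_mulVec f v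

theorem inc_ap_rhoG (f : AutO F) (v : W 3 F) : inc F (ap (rhoG f) v) = f.1 (inc F v) := by
  rw [← inc_rho]
  exact congrArg (inc F) (rhoG_mulVec f v)

theorem inc_inj : Function.Injective (inc F) := fun u v h => by rw [← cor_inc u, h, cor_inc]

theorem rhoG_CrG (f : AutO F) : lin (rhoG f) ∈ CrG F := lin_mem_CrG.2 fun u v => inc_inj (by
  rw [inc_ap_rhoG, inc_cr, inc_cr, inc_ap_rhoG, inc_ap_rhoG, map_sub, f.2, f.2])

/-- an isometry which keeps the cross product comes from an automorphism of the octonions -/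
theorem exists_aut (h2 : (2 : F) ≠ 0) {a : GL (I 3) F} (ha : a ∈ Is 3 F) (h : lin a ∈ CrG F) : ∃ f : AutO F, rhoG f = a := by
  have key : ∀ b : GL (I 3) F, ∃ L : V F →ₗ[F] V F, (∀ v, L (inc F v) = inc F (ap b v)) ∧ L o = o := fun b => by
    let π : V F →ₗ[F] V F := LinearMap.id - ((2 : F)⁻¹ • LinearMap.smulRight
      ((LinearMap.proj 0 : V F →ₗ[F] F) + (LinearMap.proj 7 : V F →ₗ[F] F)) o)
    have hπ : ∀ z, π z = z - ((2 : F)⁻¹ * tr z) • o := fun z => by
      simp only [π, LinearMap.sub_apply, LinearMap.id_apply, LinearMap.smul_apply, LinearMap.smulRight_apply,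
        LinearMap.add_apply, LinearMap.proj_apply, smul_smul, tr]
    refine ⟨(inc F).comp ((Matrix.toLin' (b : Matrix (I 3) (I 3) F)).comp ((cor F).comp π)) + (LinearMap.id - π), ?_, ?_⟩
    · intro v
      simp only [LinearMap.add_apply, LinearMap.comp_apply, LinearMap.sub_apply, LinearMap.id_apply, hπ, tr_inc, mul_zero,
        zero_smul, sub_zero, cor_inc, sub_self, add_zero, Matrix.toLin'_apply]
    · simp only [LinearMap.add_apply, LinearMap.comp_apply, LinearMap.sub_apply, LinearMap.id_apply, hπ, tr_o,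
        inv_mul_cancel₀ h2, one_smul, sub_self, map_zero, zero_add, sub_zero]
  have dec : ∀ z : V F, ∃ (v : W 3 F) (c : F), z = inc F v + c • o := fun z => by
    refine ⟨cor F (z - ((2 : F)⁻¹ * tr z) • o), (2 : F)⁻¹ * tr z, ?_⟩
    rw [inc_cor, sub_add_cancel]
    rw [sub_eq_add_neg, ← neg_smul, tr_add, tr_smul, tr_o]
    field_simp
    ring
  obtain ⟨L, L1, L2⟩ := key a
  obtain ⟨L', L1', L2'⟩ := key a⁻¹
  let e : V F ≃ₗ[F] V F := LinearEquiv.ofLinearMap L L'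
    (LinearMap.ext fun z => by
      obtain ⟨v, c, rfl⟩ := dec z
      rw [LinearMap.comp_apply, map_add, map_smul, L1', L2', map_add, map_smul, L1, L2, ap_ap_inv, LinearMap.id_apply])
    (LinearMap.ext fun z => by
      obtain ⟨v, c, rfl⟩ := dec z
      rw [LinearMap.comp_apply, map_add, map_smul, L1, L2, map_add, map_smul, L1', L2', ap_inv_ap, LinearMap.id_apply])
  have he : ∀ z, e z = L z := fun _ => rfl
  have hm : e ∈ AutO F := fun x y => by
    obtain ⟨u, c, rfl⟩ := dec x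
    obtain ⟨v, d, rfl⟩ := dec y
    have h1 : L (zornMul (inc F u) (inc F v)) = zornMul (inc F (ap a u)) (inc F (ap a v)) := by
      refine smul_right_injective (V F) h2 ?_
      show (2 : F) • L _ = (2 : F) • _
      rw [← map_smul, mul_inc, mul_inc, map_add, map_smul, L1, L2, bf_ap ha, lin_mem_CrG.1 h]
    simp only [he, zmul_add, zadd_mul, zmul_smul, zsmul_mul, o_mul, mul_o, map_add, map_smul, L1, L2, h1]
  refine ⟨⟨e, hm⟩, ap_ext fun v => ?_⟩
  rw [ap_rhoG]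
  show cor F (L (inc F v)) = _
  rw [L1, cor_inc]

/-- `Aut(O) ≃ G₂(F)` -/
noncomputable def autG2 (F : Type) [Field F] : Cfsg.Lie.G2 F ≃* AutO F :=
  ((toE F).subgroupMap (Cfsg.Lie.G2 F)).trans (MulEquiv.subgroupCongr (by
    ext f
    constructor
    · rintro ⟨g, hg, rfl⟩
      exact toE_mem.2 hg
    · intro hf
      exact ⟨(toE F).symm f, toE_mem.1 (by rw [MulEquiv.apply_symm_apply]; exact hf), (toE F).apply_symm_apply f⟩))

variable [Fintype F]

theorem rhoG_Om (h2 : (2 : F) ≠ 0) (f : AutO F) : rhoG f ∈ Om 3 F := by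
  have hp : commutator (AutO F) = ⊤ := by
    have h1 : (commutator (Cfsg.Lie.G2 F)).map (autG2 F).toMonoidHom = commutator (AutO F) := by
      rw [commutator_def, Subgroup.map_commutator, commutator_def, ← MonoidHom.range_eq_map,
        MonoidHom.range_eq_top.2 (autG2 F).surjective]
    rw [← h1, H179.G2.g2_perfect h2, ← MonoidHom.range_eq_map, MonoidHom.range_eq_top.2 (autG2 F).surjective]
  have h1 : (commutator (AutO F)).map (H64.SubG2.rhoO (F := F)) ≤ commutator _ := by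
    rw [commutator_def, Subgroup.map_commutator, commutator_def]
    exact Subgroup.commutator_mono le_top le_top
  exact ⟨H64.SubG2.rhoO f, h1 (Subgroup.mem_map_of_mem _ (by rw [hp]; exact Subgroup.mem_top f)), rfl⟩

theorem rhoG_G0 (h2 : (2 : F) ≠ 0) (f : AutO F) : rhoG f ∈ G0 F := ⟨rhoG_CrG f, rhoG_Om h2 f⟩

/-- **an isometry which keeps the cross product is in `Ω`** -/
theorem mem_G0_of (h2 : (2 : F) ≠ 0) {a : GL (I 3) F} (ha : a ∈ Is 3 F) (h : lin a ∈ CrG F) : a ∈ G0 F := by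
  obtain ⟨f, rfl⟩ := exists_aut h2 ha h
  exact rhoG_G0 h2 f

theorem G0_eq (h2 : (2 : F) ≠ 0) : G0 F = (rhoG (F := F)).range := by
  ext a
  constructor
  · exact fun h => exists_aut h2 (Om_le h.2) h.1
  · rintro ⟨f, rfl⟩
    exact rhoG_G0 h2 f

theorem G0_iso (h2 : (2 : F) ≠ 0) : Nonempty (G0 F ≃* Cfsg.Lie.G2 F) :=
  ⟨(MulEquiv.subgroupCongr (G0_eq h2)).trans ((MonoidHom.ofInjective (rhoG_inj h2)).symm.trans (autG2 F).symm)⟩

theorem card_G0 (h2 : (2 : F) ≠ 0) :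
    Nat.card (G0 F) = Fintype.card F ^ 6 * ((Fintype.card F ^ 6 - 1) * (Fintype.card F ^ 2 - 1)) := by
  obtain ⟨e⟩ := G0_iso h2
  rw [Nat.card_congr e.toEquiv, H638.G2Iso.card_G2, Nat.card_eq_fintype_card]
  ring

theorem simple_G0 (h2 : (2 : F) ≠ 0) : IsSimpleGroup (G0 F) := by
  obtain ⟨e⟩ := G0_iso h2
  have := H179.G2.g2_simple h2
  exact e.isSimpleGroup

/-- the vector of norm one -/
def e0 (F : Type) [Field F] : W 3 F := Pi.single j0 1

theorem qf_e0 : qf (e0 F) = 1 := by simp [qf3, e0]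

/-- transitivity on the vectors of norm one -/
theorem trans_one (h2 : (2 : F) ≠ 0) {v : W 3 F} (hv : qf v = 1) : ∃ a ∈ G0 F, ap a v = e0 F := by
  have hq : nm (inc F v) = -1 := by
    have := quad_eq v
    rw [show quadFormOdd 3 F v = 1 from hv] at this
    linear_combination this
  obtain ⟨f, hf, e⟩ := exists_idem (e := (2 : F)⁻¹ • (inc F v + o))
    (by rw [tr_smul, tr_add, tr_inc, tr_o, zero_add, inv_mul_cancel₀ h2])
    (by rw [nm_smul, nm_add, hq, nm_o, bl_o, tr_inc]; ring)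
  refine ⟨_, rhoG_G0 h2 ⟨f, hf⟩, inc_inj ?_⟩
  rw [inc_ap_rhoG]
  rw [map_smul, map_add, map_o hf] at e
  have e' : f (inc F v) = (2 : F) • e1 - o := by
    rw [← e, smul_smul, mul_inv_cancel₀ h2, one_smul, add_sub_cancel_right]
  show f (inc F v) = _
  rw [e']
  apply ext8 <;> simp [e1_0, e1_1, e1_2, e1_3, e1_4, e1_5, e1_6, e1_7, o0, o1, o2, o3, o4, o5, o6, o7, inc0, inc1, inc2, inc3,
    inc4, inc5, inc6, inc7, e0]
  norm_num

theorem top_of_one (h2 : (2 : F) ≠ 0) {U : Submodule F (W 3 F)} (hU : Inv (G0 F) U) {v : W 3 F} (hv : v ∈ U)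
    (h1 : qf v = 1) : U = ⊤ := by
  have h3 : ∀ w, qf w = 1 → w ∈ U := fun w hw => by
    obtain ⟨a, ha, e⟩ := trans_one h2 h1
    obtain ⟨b, hb, e'⟩ := trans_one h2 hw
    have := hU _ ((G0 F).inv_mem hb) _ (hU a ha v hv)
    rwa [e, ← e', ap_inv_ap] at this
  have h4 : Inv (Om 3 F) (Submodule.span F {w : W 3 F | qf w = 1}) := fun x hx u hu => by
    have : (Submodule.span F {w : W 3 F | qf w = 1}).map (Matrix.toLin' (x : Matrix (I 3) (I 3) F)) ≤
        Submodule.span F {w : W 3 F | qf w = 1} := by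
      rw [Submodule.map_span, Submodule.span_le]
      rintro _ ⟨w, hw, rfl⟩
      refine Submodule.subset_span ?_
      rw [Matrix.toLin'_apply]
      exact (mem_Is.1 (Om_le hx) w).trans hw
    exact this ⟨u, hu, Matrix.toLin'_apply _ _⟩
  rcases irr_Om (good h2 (by norm_num)) _ h4 with h5 | h5
  · have : v ∈ Submodule.span F {w : W 3 F | qf w = 1} := Submodule.subset_span h1
    rw [h5, Submodule.mem_bot] at this
    rw [this, qf_zero] at h1
    exact absurd h1 zero_ne_one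
  · rw [eq_top_iff, ← h5, Submodule.span_le]
    exact h3

/-- **`G₂(q)` is irreducible** -/
theorem irr_G0 (hodd : Odd (Fintype.card F)) : Irr (G0 F) := fun U hU => by
  have h2 := two_ne hodd
  have hI : G0 F ≤ Is 3 F := G0_le.trans Om_le
  by_contra hc
  obtain ⟨h0, h1⟩ := not_or.1 hc
  have hP := Geo.inv_pp hI hU
  have hP1 : Geo.pp U ≠ ⊤ := fun e => h0 (by
    have := Geo.finrank_pp h2 U
    rw [e, finrank_top, finrank_W] at this
    exact Submodule.finrank_eq_zero.1 (by omega))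
  have b1 := Geo.rad_big hodd (U := U) (c := 1) fun u hu e => h1 (top_of_one h2 hU hu e)
  have b2 := Geo.rad_big hodd (U := Geo.pp U) (c := 1) fun u hu e => hP1 (top_of_one h2 hP hu e)
  rw [Geo.pp_pp h2, inf_comm] at b2
  have b3 := Geo.finrank_pp h2 U
  set R := U ⊓ Geo.pp U with hR
  have hRt : Ts R := Geo.ts_rad h2 U
  have b4 := Geo.finrank_pp h2 R
  have b5 := Submodule.finrank_mono (Geo.ts_le hRt)
  have b6 : finrank F R = 3 := by omega
  have hRi : Inv (G0 F) R := fun x hx u hu => ⟨hU x hx u hu.1, hP x hx u hu.2⟩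
  obtain ⟨g, hg, e⟩ := trans_ts h2 (by norm_num) hRt (ts_U0 (m := 3) (F := F)) (b6.trans finrank_U0.symm)
  have h5 : ap g⁻¹ (e0 F) ∈ Geo.pp R := Geo.mem_pp.2 fun u hu => by
    rw [← bf_ap (Om_le hg), ap_ap_inv]
    obtain ⟨x, hx⟩ := (e u).2 hu
    rw [← hx]
    simp [bf3, e0]
  have h6 := top_of_one h2 (Geo.inv_pp hI hRi) h5 (by rw [mem_Is.1 (Om_le ((Om 3 F).inv_mem hg)), qf_e0])
  rw [h6, finrank_top, finrank_W] at b4
  omega

end Cfsg.Agent.SM.Oo
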