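import Cfsg.Agent.SM.Oo.E4A

/-!
# SM (S3570), box `E4`: over the field with three elements the representations of `A₉` and of `Sp₆(2)` in `O₇` are conjugate
under the isometry group (helper16)
-/

set_option autoImplicit false
set_option linter.unusedSectionVars false

namespace Cfsg.Agent.SM.Oo.E4

open Equiv QuadraticMap Cfsg.Agent.H856.Sv Cfsg.Agent.H856.SpS Cfsg.Agent.LieClassical.OrthCore

variable {F : Type*} [Field F] {V : Type*} [AddCommGroup V] [Module F V] {Q : QuadraticForm F V}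

theorem inv8_of {G : Type*} [Group G] {τ : G →* (V ≃ₗ[F] V)} {u : Fin 8 → V} (hu : Fr8 F u) (ht : Tr τ u)
    (hO : ∀ g, τ g ∈ O Q) : Inv8 Q u (polar Q (u 0) (u 1)) := by
  refine ⟨hu, fun i j hij => ?_⟩
  obtain ⟨g, h0, h1⟩ := ht i j hij
  rw [← h0, ← h1, polar_map (hO g)]

theorem exists_equiv {u u' : Fin 8 → V} (hu : Fr8 F u) (hu' : Fr8 F u') (h7 : Module.finrank F V = 7) :
    ∃ L : V ≃ₗ[F] V, ∀ i, L (u i) = u' i := by
  obtain ⟨L, hL⟩ := hu.exists_lin h7 u' hu'.sum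
  obtain ⟨L', hL'⟩ := hu'.exists_lin h7 u hu.sum
  refine ⟨LinearEquiv.ofLinearMap L L' (hu'.ext_lin h7 fun i => ?_) (hu.ext_lin h7 fun i => ?_), hL⟩
  · simp [hL, hL']
  · simp [hL, hL']

/-- the discriminant fixes the constant of the frame -/
theorem mem_O_of_inv (h7 : Module.finrank F V = 7) (h2 : (2 : F) ≠ 0) (hQ : Nondeg Q) (hs : ∀ x : F, x ≠ 0 → x * x = 1)
    {u u' : Fin 8 → V} {b b' : F} (hI : Inv8 Q u b) (hI' : Inv8 Q u' b') {L : V ≃ₗ[F] V} (hL : ∀ i, L (u i) = u' i) :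
    L ∈ O Q := by
  classical
  have hb := hI.b_ne h7 hQ
  have hb' := hI'.b_ne h7 hQ
  have h1 : ∀ i j, polar Q (u' i) (u' j) = (b' * b) * polar Q (u i) (u j) := by
    intro i j
    by_cases h : i = j
    · rw [h, hI.pol_self, hI'.pol_self]
      linear_combination (7 * b') * hs b hb
    · rw [hI.pol _ _ h, hI'.pol _ _ h, mul_assoc, hs b hb, mul_one]
  let B : LinearMap.BilinForm F V := polarBilin Q
  have h3 : B.comp (L : V →ₗ[F] V) (L : V →ₗ[F] V) = (b' * b) • B := by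
    apply hI.fr.ext_lin h7
    intro i
    apply hI.fr.ext_lin h7
    intro j
    show polar Q (L (u i)) (L (u j)) = (b' * b) * polar Q (u i) (u j)
    rw [hL, hL, h1]
  have hB : B.Nondegenerate := ⟨fun x hx => hQ x hx, fun x hx => hQ x fun y => by
    rw [polar_comm]
    exact hx y⟩
  let β := hI.fr.basis h7
  have h4 := (LinearMap.BilinForm.nondegenerate_iff_det_ne_zero β).1 hB
  have h5 := congrArg Matrix.det (LinearMap.BilinForm.toMatrix_comp β β B (L : V →ₗ[F] V) (L : V →ₗ[F] V))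
  rw [h3, map_smul, Matrix.det_smul, Matrix.det_mul, Matrix.det_mul, Matrix.det_transpose, Fintype.card_fin,
    LinearMap.det_toMatrix] at h5
  have h6 : LinearMap.det (L : V →ₗ[F] V) ≠ 0 := (LinearEquiv.isUnit_det' L).ne_zero
  have h8 := hs _ h6
  have h9 := hs _ (mul_ne_zero hb' hb)
  have h10 : (b' * b) ^ 7 = 1 := mul_right_cancel₀ h4 (by
    rw [h5]
    linear_combination (LinearMap.BilinForm.toMatrix β B).det * h8)
  have h11 : b' * b = 1 := by
    rw [← h10, show (b' * b) ^ 7 = (b' * b * (b' * b)) ^ 3 * (b' * b) by ring, h9, one_pow, one_mul]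
  refine hI.mem_O_of h7 h2 fun i j => ?_
  rw [hL, hL, h1, h11, one_mul]

/-- **`A₉`**: one class under the isometry group -/
theorem a9_conj (h7 : Module.finrank F V = 7) (h2 : (2 : F) ≠ 0) (hQ : Nondeg Q) (hs : ∀ x : F, x ≠ 0 → x * x = 1)
    (τ τ' : alternatingGroup (Fin 9) →* (V ≃ₗ[F] V)) (hO : ∀ g, τ g ∈ O Q) (hO' : ∀ g, τ' g ∈ O Q)
    (hno : ∀ w : V, (∀ g, τ g w = w) → w = 0) (hno' : ∀ w : V, (∀ g, τ' g w = w) → w = 0) :
    ∃ L ∈ O Q, ∀ g, L * τ g * L⁻¹ = τ' g := by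
  obtain ⟨u, hu, ht, hτ⟩ := a9_frame h7 h2 τ hno
  obtain ⟨u', hu', ht', hτ'⟩ := a9_frame h7 h2 τ' hno'
  obtain ⟨L, hL⟩ := exists_equiv hu hu' h7
  refine ⟨L, mem_O_of_inv h7 h2 hQ hs (inv8_of hu ht hO) (inv8_of hu' ht' hO') hL, fun g => ?_⟩
  rw [mul_inv_eq_iff_eq_mul]
  apply LinearEquiv.toLinearMap_injective
  refine hu.ext_lin h7 fun i => ?_
  show L (τ g (u i)) = τ' g (L (u i))
  rw [hL, hτ, hτ', map_sub, map_w9 hL, map_w9 hL]

/-- two homomorphisms of a perfect group which agree modulo the centre are equal -/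
theorem eq_of_center {G Γ : Type*} [Group G] [Group Γ] (hp : commutator G = ⊤) (f f' : G →* Γ)
    (h : ∀ g, (f g)⁻¹ * f' g ∈ Subgroup.center Γ) (g : G) : f g = f' g := by
  have h1 : commutator G ≤ f.eqLocus f' := by
    rw [commutator_def, Subgroup.commutator_le]
    intro a _ b _
    show f (a * b * a⁻¹ * b⁻¹) = f' (a * b * a⁻¹ * b⁻¹)
    obtain ⟨x, hx, ex⟩ : ∃ x ∈ Subgroup.center Γ, f' a = f a * x := ⟨_, h a, by group⟩
    obtain ⟨y, hy, ey⟩ : ∃ y ∈ Subgroup.center Γ, f' b = f b * y := ⟨_, h b, by group⟩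
    rw [Subgroup.mem_center_iff] at hx hy
    simp only [map_mul, map_inv]
    rw [ex, ey]
    calc f a * f b * (f a)⁻¹ * (f b)⁻¹ = f a * f b * ((f a)⁻¹ * y) * y⁻¹ * (f b)⁻¹ := by group
      _ = f a * (f b * y * x) * x⁻¹ * (f a)⁻¹ * y⁻¹ * (f b)⁻¹ := by rw [hy]; group
      _ = _ := by rw [hx]; group
  have h2 : g ∈ f.eqLocus f' := h1 (hp ▸ Subgroup.mem_top g)
  exact h2

/-- **`Sp₆(2)`**: one class under the isometry group -/
theorem sp6_conj (h7 : Module.finrank F V = 7) (h2 : (2 : F) ≠ 0) (hQ : Nondeg Q) (hs : ∀ x : F, x ≠ 0 → x * x = 1)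
    (hp : commutator G6 = ⊤) (τ τ' : G6 →* (V ≃ₗ[F] V)) (hO : ∀ g, τ g ∈ O Q) (hO' : ∀ g, τ' g ∈ O Q)
    (hne : ¬ ∀ g g', τ g * τ g' = τ g' * τ g) (hcen : ¬ ∀ g, τ g * τ tB = τ tB * τ g)
    (hne' : ¬ ∀ g g', τ' g * τ' g' = τ' g' * τ' g) (hcen' : ¬ ∀ g, τ' g * τ' tB = τ' tB * τ' g) :
    ∃ L ∈ O Q, ∀ g, L * τ g * L⁻¹ = τ' g := by
  obtain ⟨u, hu, ht, hτ, k, hk, hb⟩ := sp6_frame h7 h2 τ hne hcen
  obtain ⟨u', hu', ht', hτ', k', hk', hb'⟩ := sp6_frame h7 h2 τ' hne' hcen'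
  obtain ⟨L, hL⟩ := exists_equiv hu hu' h7
  refine ⟨L, mem_O_of_inv h7 h2 hQ hs (inv8_of hu ht hO) (inv8_of hu' ht' hO') hL, ?_⟩
  let f : G6 →* (V ≃ₗ[F] V) := (MulAut.conj L).toMonoidHom.comp τ
  let π := QuotientGroup.mk' (Subgroup.center (V ≃ₗ[F] V))
  have h1 : (π.comp f).eqLocus (π.comp τ') = ⊤ := by
    apply gen
    · intro g
      show π (L * τ _ * L⁻¹) = π (τ' _)
      congr 1
      rw [mul_inv_eq_iff_eq_mul]
      apply LinearEquiv.toLinearMap_injective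
      refine hu.ext_lin h7 fun i => ?_
      show L (τ _ (u i)) = τ' _ (L (u i))
      rw [hL, hτ, hτ', hL]
    · show π (L * τ tB * L⁻¹) = π (τ' tB)
      have hkk : k * k = 1 := by rcases hk with rfl | rfl <;> simp
      have h3 : ∀ v, τ' tB (L v) = (k' * k) • L (τ tB v) := by
        have h4 : (τ' tB : V →ₗ[F] V) ∘ₗ (L : V →ₗ[F] V) = (k' * k) • ((L : V →ₗ[F] V) ∘ₗ (τ tB : V →ₗ[F] V)) :=
          hu.ext_lin h7 fun i => by
            show τ' tB (L (u i)) = (k' * k) • L (τ tB (u i))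
            rw [hL, hb, hb', map_smul, smul_smul, mul_assoc, hkk, mul_one]
            simp only [map_add, map_smul, hL]
        exact fun v => congrArg (fun M : V →ₗ[F] V => M v) h4
      refine QuotientGroup.eq.2 (Subgroup.mem_center_iff.2 fun y => LinearEquiv.ext fun v => ?_)
      have h5 : ∀ v, ((L * τ tB * L⁻¹)⁻¹ * τ' tB) v = (k' * k) • v := fun v => by
        show (L * τ tB * L⁻¹)⁻¹ (τ' tB v) = _
        have h6 := h3 (L⁻¹ v)
        rw [show L (L⁻¹ v) = v from L.apply_symm_apply v] at h6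
        rw [h6, map_smul]
        congr 1
        exact (L * τ tB * L⁻¹).symm_apply_apply v
      show y (((L * τ tB * L⁻¹)⁻¹ * τ' tB) v) = ((L * τ tB * L⁻¹)⁻¹ * τ' tB) (y v)
      rw [h5, h5, map_smul]
  refine eq_of_center hp f τ' fun g => QuotientGroup.eq.1 ?_
  have h3 : g ∈ (π.comp f).eqLocus (π.comp τ') := h1 ▸ Subgroup.mem_top g
  exact h3

end Cfsg.Agent.SM.Oo.E4
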