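import Cfsg.Agent.SM.Oo.E4B
import Cfsg.Agent.SM.Oo.Api
import Cfsg.Agent.StandardComponent.SpTwoAut
import Cfsg.Agent.H321.Orders
import Cfsg.Agent.S0814
import Cfsg.Agent.S2119

/-!
# SM (S3570), box `E4`: the maximal subgroups of `Ω₇(3)` with socle `A₉` or `Sp₆(2)`; orders and conjugacy (helper16)
-/

set_option autoImplicit false
set_option linter.unusedSectionVars false

namespace Cfsg.Agent.SM.Oo.E4

open Cfsg Cfsg.Geo Matrix Equiv Cfsg.Agent.H856.SpS
open Cfsg.Agent.LieClassical.OrthCore Cfsg.Agent.LieClassical.OrthTrans Cfsg.Agent.LieClassical.OrthFinite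
open Cfsg.Agent.LieClassical.OrthForms (oddForm nondeg_oddForm)
open scoped MatrixGroups

section core

variable {m : ℕ} {F : Type} [Field F] {K P K' P' : Subgroup (GL (I m) F)}

theorem bot_sc (hK : K ≤ Om m F) (h : IsResidualCore K P) : (scalars (I m) F).subgroupOf P = ⊥ :=
  eq_bot_iff.2 fun x hx => Subgroup.mem_bot.2 (Subtype.ext (scalars_inf (hK (h.le x.2)) hx))

/-- the core has no scalars -/
noncomputable def qe (hK : K ≤ Om m F) (h : IsResidualCore K P) : (P ⧸ (scalars (I m) F).subgroupOf P) ≃* P :=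
  (QuotientGroup.quotientMulEquivOfEq (bot_sc hK h)).trans QuotientGroup.quotientBot

theorem core_as (hK : K ≤ Om m F) (h : IsResidualCore K P) : AS K P := by
  have := h.simple
  refine ⟨h.le, h.normal, (qe hK h).symm.isSimpleGroup, fun k => h.nonabelian ⟨⟨fun a b => ?_⟩⟩, fun g hg hc => ?_⟩
  · apply (qe hK h).injective
    rw [map_mul, map_mul]
    exact k.is_comm.comm _ _
  · refine scalars_inf (hK hg) (h.centralizer_scalar g hg fun x hx => ?_)
    rw [hc x hx, mul_inv_cancel_right, mul_inv_cancel]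
    exact Subgroup.one_mem _

theorem card_dvd {G : Type} [Group G] (h : AS K P) (e : P ≃* G) :
    Nat.card G ∣ Nat.card K ∧ Nat.card K ∣ Nat.card (MulAut G) :=
  ⟨Nat.card_congr e.toEquiv ▸ Subgroup.card_dvd_of_le h.le,
    Nat.card_congr (MulAut.congr e).toEquiv ▸ Subgroup.card_dvd_of_injective _ h.aut_injective⟩

theorem card_alt (h : AS K P) (e : P ≃* alternatingGroup (Fin 9)) : Nat.card K = 181440 ∨ Nat.card K = 362880 := by
  obtain ⟨⟨c, hc⟩, d, hd⟩ := card_dvd h e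
  rw [← Nat.card_congr (Equiv.ofBijective _ (S2119.result 9 (by norm_num) (by norm_num))), Nat.card_perm, Nat.card_fin,
    show Nat.factorial 9 = 362880 by decide] at hd
  rw [nat_card_alternatingGroup, Nat.card_fin, show Nat.factorial 9 / 2 = 181440 by decide] at hc
  have h1 : c * d = 2 := by
    rw [hc, mul_assoc] at hd
    omega
  rcases (Nat.dvd_prime Nat.prime_two).1 ⟨d, h1.symm⟩ with rfl | rfl <;> omega

theorem card_sp (h : AS K P) (e : P ≃* PSp 3 (ZMod 2)) : Nat.card K = 1451520 := by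
  obtain ⟨h1, h2⟩ := card_dvd h e
  have := Fact.mk Nat.prime_two
  have h3 := H321.Orders.psp_eq (F := ZMod 2) (m := 3) (by norm_num)
  rw [ZMod.card, show OrdDiv.prB 2 3 = 2835 by decide] at h3
  have h4 : Nat.card (PSp 3 (ZMod 2)) = 1451520 := by
    norm_num at h3
    exact h3
  rw [S0814.result (F := ZMod 2) 2 1 le_rfl (by rw [ZMod.card]; norm_num) 3 (by norm_num) (by norm_num), h4] at h2
  rw [h4] at h1
  exact Nat.dvd_antisymm h2 h1

/-- `K` is the normaliser of its core -/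
theorem mem_of_norm [Finite F] (hs : IsSimpleGroup (Om m F)) (hK : IsMaximalIn (Om m F) K) (h : AS K P) {x : GL (I m) F}
    (hx : x ∈ Om m F) (hn : ∀ y ∈ P, x * y * x⁻¹ ∈ P) : x ∈ K := by
  rcases hK.2 (Om m F ⊓ Subgroup.normalizer (P : Set (GL (I m) F))) (le_inf hK.1.le h.le_normalizer) inf_le_left with k | k
  · exact k ▸ (⟨hx, Subgroup.mem_normalizer_fintype hn⟩ : x ∈ Om m F ⊓ Subgroup.normalizer (P : Set (GL (I m) F)))
  · have h1 : (P.subgroupOf (Om m F)).Normal := ⟨fun y hy g =>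
      (Subgroup.mem_normalizer_iff.1 (inf_eq_left.1 k g.2) y).1 hy⟩
    rcases h1.eq_bot_or_eq_top with k' | k'
    · exact absurd ((Subgroup.subgroupOf_eq_bot.1 k').eq_bot_of_le (h.le.trans hK.1.le)) h.ne_bot
    · exact absurd ((Subgroup.subgroupOf_eq_top.1 k').trans h.le) hK.1.not_ge

/-- the representation -/
noncomputable def rp {G : Type} [Group G] (e : P ≃* G) : G →* (W m F ≃ₗ[F] W m F) :=
  (glEquiv (I m) F).toMonoidHom.comp (P.subtype.comp e.symm.toMonoidHom)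

theorem rp_apply {G : Type} [Group G] (e : P ≃* G) (x : P) : rp e (e x) = glEquiv (I m) F x := by
  show glEquiv (I m) F (e.symm (e x) : P) = _
  rw [e.symm_apply_apply]

theorem rp_mem {G : Type} [Group G] (e : P ≃* G) (hP : P ≤ Om m F) (g : G) : rp e g ∈ O (oddForm m F) :=
  mem_Is_iff.1 (Om_le (hP (e.symm g).2))

theorem rp_inj {G : Type} [Group G] (e : P ≃* G) : Function.Injective (rp e) :=
  (glEquiv (I m) F).injective.comp (P.subtype_injective.comp e.symm.injective)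

theorem rp_fix {G : Type} [Group G] (hm : 1 ≤ m) (e : P ≃* G) (h : Irr P) (w : W m F) (hw : ∀ g, rp e g w = w) : w = 0 := by
  by_contra h0
  rcases h (Submodule.span F {w}) (fun x hx u hu => by
    obtain ⟨c, rfl⟩ := Submodule.mem_span_singleton.1 hu
    rw [ap_smul, ap_eq, ← rp_apply e ⟨x, hx⟩, hw]
    exact hu) with k | k
  · exact h0 (Submodule.span_singleton_eq_bot.1 k)
  · have h1 := finrank_span_singleton (K := F) h0
    rw [k, finrank_top, finrank_W] at h1
    omega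

theorem rp_nab {G : Type} [Group G] (e : P ≃* G) (h : AS K P) : ¬ ∀ g g', rp e g * rp e g' = rp e g' * rp e g := fun k =>
  h.nab ⟨⟨fun a b => e.injective (rp_inj e (by rw [map_mul, map_mul, map_mul, map_mul, k]))⟩⟩

theorem tB_ne : tB ≠ 1 := fun h => by
  have h1 := tv_mulVec (∑ i ∈ H856.Sv.B4, dl i) (dl 0)
  rw [show tv (∑ i ∈ H856.Sv.B4, dl i) = 1 from h, fm, ClassicalGeometry.SympBasic.sympForm_eq_sum] at h1
  have h2 : dl 0 = _ := (Matrix.one_mulVec _).symm.trans h1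
  revert h2
  decide +kernel

theorem rp_cen (e : P ≃* G6) (h : AS K P) : ¬ ∀ g, rp e g * rp e tB = rp e tB * rp e g := fun k => by
  have h1 := h.cen _ (h.le (e.symm tB).2) fun t ht => congrArg Subtype.val
    (show e.symm tB * ⟨t, ht⟩ = ⟨t, ht⟩ * e.symm tB from e.injective (rp_inj e (by
      rw [map_mul, map_mul, map_mul, map_mul, e.apply_symm_apply, k])))
  exact tB_ne (e.symm.injective ((Subtype.ext h1).trans (map_one _).symm))

theorem perfect {G : Type} [Group G] (e : P ≃* G) (h : AS K P) : commutator G = ⊤ := by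
  have := h.simple
  have := e.symm.isSimpleGroup
  refine (inferInstance : (commutator G).Normal).eq_bot_or_eq_top.resolve_left fun k => rp_nab e h fun g g' => ?_
  have h1 : g * g' * g⁻¹ * g'⁻¹ ∈ commutator G :=
    Subgroup.commutator_mem_commutator (Subgroup.mem_top g) (Subgroup.mem_top g')
  rw [k, Subgroup.mem_bot, mul_inv_eq_one, mul_inv_eq_iff_eq_mul] at h1
  rw [← map_mul, h1, map_mul]

/-- from the representations to the maximal subgroups -/
theorem conj_of [Finite F] (hs : IsSimpleGroup (Om m F)) (hK : IsMaximalIn (Om m F) K) (h : AS K P)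
    (hK' : IsMaximalIn (Om m F) K') (h' : AS K' P') {G : Type} [Group G] (e : P ≃* G) (e' : P' ≃* G)
    (hL : ∃ L ∈ O (oddForm m F), ∀ g, L * rp e g * L⁻¹ = rp e' g) : ∃ a ∈ Is m F, ∀ x, x ∈ K ↔ a * x * a⁻¹ ∈ K' := by
  obtain ⟨L, hO, hL⟩ := hL
  obtain ⟨a, rfl⟩ := (glEquiv (I m) F).surjective L
  have ha : a ∈ Is m F := mem_Is_iff.2 hO
  have h1 : ∀ g, a * (e.symm g : P) * a⁻¹ = (e'.symm g : P') := fun g => (glEquiv (I m) F).injective (by
    rw [map_mul, map_mul, map_inv]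
    exact hL g)
  have h2 : ∀ y ∈ P, a * y * a⁻¹ ∈ P' := fun y hy => by
    have h3 := h1 (e ⟨y, hy⟩)
    rw [e.symm_apply_apply] at h3
    exact h3 ▸ (e'.symm _).2
  have h3 : ∀ y ∈ P', a⁻¹ * y * a ∈ P := fun y hy => by
    have h3 := h1 (e' ⟨y, hy⟩)
    rw [e'.symm_apply_apply] at h3
    rw [← show _ = y from h3, show ∀ z : GL (I m) F, a⁻¹ * (a * z * a⁻¹) * a = z from fun z => by group]
    exact (e.symm _).2
  refine ⟨a, ha, fun x => ⟨fun hx => ?_, fun hx => ?_⟩⟩
  · refine mem_of_norm hs hK' h' (conj_Om ha (hK.1.le hx)) fun y hy => ?_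
    have h4 := h2 _ (h.conj x hx _ (h3 y hy))
    rwa [show a * (x * (a⁻¹ * y * a) * x⁻¹) * a⁻¹ = a * x * a⁻¹ * y * (a * x * a⁻¹)⁻¹ by group] at h4
  · have h5 := conj_Om ((Is m F).inv_mem ha) (hK'.1.le hx)
    rw [show a⁻¹ * (a * x * a⁻¹) * a⁻¹⁻¹ = x by group] at h5
    refine mem_of_norm hs hK h h5 fun y hy => ?_
    have h4 := h3 _ (h'.conj _ hx _ (h2 y hy))
    rwa [show a⁻¹ * (a * x * a⁻¹ * (a * y * a⁻¹) * (a * x * a⁻¹)⁻¹) * a = x * y * x⁻¹ by group] at h4

end core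

/-- a maximal subgroup of `Ω₇(3)` with socle `A₉` or `Sp₆(2)` -/
def Kd (K : Subgroup (GL (I 3) (ZMod 3))) : Prop :=
  IsMaximalIn (Om 3 (ZMod 3)) K ∧ ∃ P, IsResidualCore K P ∧
    (Nonempty ((P ⧸ (scalars (I 3) (ZMod 3)).subgroupOf P) ≃* alternatingGroup (Fin 9)) ∨
      Nonempty ((P ⧸ (scalars (I 3) (ZMod 3)).subgroupOf P) ≃* PSp 3 (ZMod 2)))

variable {K K' : Subgroup (GL (I 3) (ZMod 3))}

theorem Kd.card (h : Kd K) : Nat.card K = 1451520 ∨ Nat.card K = 181440 ∨ Nat.card K = 362880 := by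
  obtain ⟨hK, P, hP, ⟨⟨e⟩⟩ | ⟨⟨e⟩⟩⟩ := h
  · exact Or.inr (card_alt (core_as hK.1.le hP) ((qe hK.1.le hP).symm.trans e))
  · exact Or.inl (card_sp (core_as hK.1.le hP) ((qe hK.1.le hP).symm.trans e))

/-- **one class under the isometry group for each order** -/
theorem Kd.conj (hs : IsSimpleGroup (Om 3 (ZMod 3))) (h : Kd K) (h' : Kd K') (hc : Nat.card K = Nat.card K') :
    ∃ a ∈ Is 3 (ZMod 3), ∀ x, x ∈ K ↔ a * x * a⁻¹ ∈ K' := by
  have h2 : (2 : ZMod 3) ≠ 0 := by decide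
  have hq : ∀ x : ZMod 3, x ≠ 0 → x * x = 1 := by decide
  obtain ⟨hK, P, hP, k⟩ := h
  obtain ⟨hK', P', hP', k'⟩ := h'
  have a := core_as hK.1.le hP
  have a' := core_as hK'.1.le hP'
  have l := a.le.trans hK.1.le
  have l' := a'.le.trans hK'.1.le
  rcases k with ⟨⟨e⟩⟩ | ⟨⟨e⟩⟩ <;> rcases k' with ⟨⟨e'⟩⟩ | ⟨⟨e'⟩⟩ <;> replace e := (qe hK.1.le hP).symm.trans e <;>
    replace e' := (qe hK'.1.le hP').symm.trans e'
  · exact conj_of hs hK a hK' a' e e' (a9_conj finrank_W h2 (nondeg_oddForm 3 _ h2) hq _ _ (rp_mem e l) (rp_mem e' l')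
      (rp_fix (by norm_num) e (irr_iff.2 hP.absIrred.1)) (rp_fix (by norm_num) e' (irr_iff.2 hP'.absIrred.1)))
  · have h3 := card_alt a e
    have h4 := card_sp a' e'
    omega
  · have h3 := card_sp a e
    have h4 := card_alt a' e'
    omega
  · obtain ⟨i⟩ := StandardComponent.SpTwoAut.exists_equiv₀
    replace e := e.trans i
    replace e' := e'.trans i
    exact conj_of hs hK a hK' a' e e' (sp6_conj finrank_W h2 (nondeg_oddForm 3 _ h2) hq (perfect e a) _ _ (rp_mem e l)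
      (rp_mem e' l') (rp_nab e a) (rp_cen e a) (rp_nab e' a') (rp_cen e' a'))

end Cfsg.Agent.SM.Oo.E4
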