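import Cfsg.Agent.SM.Oo.E4C
import Cfsg.Agent.ClassicalGeometry.OmegaIndex
import Cfsg.Agent.H55.OutGen
import Cfsg.Agent.H638.G2Iso
import Cfsg.Agent.S0286
import Cfsg.Agent.S2121

/-!
# SM (S3570), box `E4`: the degree and the count (helper16)
-/

set_option autoImplicit false
set_option linter.unusedSectionVars false

namespace Cfsg.Agent.SM.Oo.E4

open Cfsg Cfsg.Geo Matrix Equiv MulAction
open Cfsg.Agent.LieClassical.OrthForms (oddForm coe_oddForm nondeg_oddForm)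
open scoped MatrixGroups

/-! ### orders -/

theorem index_Om : (Omega (ZMod 3) (quadFormOdd 3 (ZMod 3))).index = 4 := by
  have h2 : (2 : ZMod 3) ≠ 0 := by decide
  have h1 := nondeg_oddForm 3 (ZMod 3) h2
  rw [← coe_oddForm]
  exact ClassicalGeometry.OmegaIndex.index_Omega h2 (by rw [card_I]; norm_num) _ ⟨fun x hx => h1 x hx, fun x hx => h1 x fun y => by
    rw [QuadraticMap.polar_comm]
    exact hx y⟩

theorem card_Om : Nat.card (Om 3 (ZMod 3)) = 4585351680 := by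
  have h1 := (Omega (ZMod 3) (quadFormOdd 3 (ZMod 3))).index_mul_card
  rw [index_Om, S0286.result (ZMod.card 3) (by decide) 3] at h1
  have h2 : Nat.card (Om 3 (ZMod 3)) = Nat.card (Omega (ZMod 3) (quadFormOdd 3 (ZMod 3))) :=
    Subgroup.card_map_of_injective (Subgroup.subtype_injective _)
  have h3 : 2 * 3 ^ (3 ^ 2) * ∏ i ∈ Finset.range 3, (3 ^ (2 * (i + 1)) - 1) = 18341406720 := by decide
  omega

/-- the isometries which act as elements of `Ω` -/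
def Nn : Subgroup (Is 3 (ZMod 3)) where
  carrier := {g | ∃ h ∈ Om 3 (ZMod 3), ∀ x : GL (I 3) (ZMod 3), g * x * (g : GL (I 3) (ZMod 3))⁻¹ = h * x * h⁻¹}
  one_mem' := ⟨1, Subgroup.one_mem _, fun _ => rfl⟩
  mul_mem' := by
    rintro g g' ⟨h, hh, e⟩ ⟨h', hh', e'⟩
    refine ⟨h * h', Subgroup.mul_mem _ hh hh', fun x => ?_⟩
    rw [Subgroup.coe_mul, show (g : GL (I 3) (ZMod 3)) * g' * x * ((g : GL (I 3) (ZMod 3)) * g')⁻¹ =
      g * (g' * x * (g' : GL (I 3) (ZMod 3))⁻¹) * (g : GL (I 3) (ZMod 3))⁻¹ by group, e', e]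
    group
  inv_mem' := by
    rintro g ⟨h, hh, e⟩
    refine ⟨h⁻¹, Subgroup.inv_mem _ hh, fun x => ?_⟩
    have h1 := e (h⁻¹ * x * h⁻¹⁻¹)
    rw [show h * (h⁻¹ * x * h⁻¹⁻¹) * h⁻¹ = x by group] at h1
    rw [Subgroup.coe_inv]
    nth_rewrite 1 [← h1]
    group

theorem index_Nn : Nat.card (Is 3 (ZMod 3) ⧸ Nn) ≤ 2 := by
  have h1 : Omega (ZMod 3) (quadFormOdd 3 (ZMod 3)) ≤ Nn := fun g hg => ⟨g, ⟨g, hg, rfl⟩, fun _ => rfl⟩
  have h2 := Subgroup.relIndex_mul_index h1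
  rw [index_Om] at h2
  have h3 : (-1 : GL (I 3) (ZMod 3)) ∈ Is 3 (ZMod 3) := mem_Is.2 fun v => by
    rw [ap, Units.val_neg, Units.val_one, Matrix.neg_mulVec, Matrix.one_mulVec, qf_neg]
  have h4 : (Omega (ZMod 3) (quadFormOdd 3 (ZMod 3))).relIndex Nn ≠ 1 := fun k => by
    have h5 : (⟨-1, h3⟩ : Is 3 (ZMod 3)) ∈ Nn := ⟨1, Subgroup.one_mem _, fun x => by simp⟩
    have h6 := det_Om (x := (-1 : GL (I 3) (ZMod 3))) ⟨_, Subgroup.relIndex_eq_one.1 k h5, rfl⟩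
    rw [Units.val_neg, Units.val_one, Matrix.det_neg, Matrix.det_one, card_I] at h6
    revert h6
    decide
  change Nn.index ≤ 2
  generalize (Omega (ZMod 3) (quadFormOdd 3 (ZMod 3))).relIndex Nn = r at h2 h4
  by_contra k
  rcases r with _ | _ | r
  · omega
  · exact h4 rfl
  · nlinarith

theorem card_out (hG : Nonempty (G0 (ZMod 3) ≃* Lie.G2 (ZMod 3))) : Nat.card (Out (G0 (ZMod 3))) = 2 := by
  obtain ⟨e⟩ := hG
  obtain ⟨e'⟩ := H638.G2Iso.equiv (F := ZMod 3)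
  rw [H55.OutGen.card_out_congr (e.trans e'), S2121.result 3 1 (by rw [ZMod.card]; rfl) (by norm_num)]
  rfl

/-! ### the model -/

theorem exists_iso {m : ℕ} {F : Type} [Field F] {Γ : Type} [Group Γ] {M S : Subgroup Γ} {φ : M →* Perm (W m F)}
    (h : Md M S φ) (hS : S ≤ M) : ∃ e : S ≃* Om m F, ∀ s : S, lin (e s : GL (I m) F) = φ ⟨s, hS s.2⟩ := by
  let ψ : S →* Perm (W m F) := φ.comp (Subgroup.inclusion hS)
  have h1 : Function.Injective ψ := h.inj.comp (Subgroup.inclusion_injective hS)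
  have h2 : ψ.range = (Om m F).map lin := by
    ext k
    constructor
    · rintro ⟨s, rfl⟩
      exact (h.om _).1 s.2
    · rintro ⟨x, hx, rfl⟩
      obtain ⟨g, hg⟩ := h.surj x hx
      exact ⟨⟨g, (h.om g).2 ⟨x, hx, hg.symm⟩⟩, hg⟩
  let i := (Om m F).equivMapOfInjective lin lin_injective
  refine ⟨((MonoidHom.ofInjective h1).trans (MulEquiv.subgroupCongr h2)).trans i.symm, fun s => ?_⟩
  exact congrArg Subtype.val (i.apply_symm_apply ((MulEquiv.subgroupCongr h2) (MonoidHom.ofInjective h1 s)))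

variable {Ω : Type} [Fintype Ω] [DecidableEq Ω] {X H T M S : Subgroup (Perm Ω)} {a : Ω}

/-- the data of one overgroup -/
structure Pk (a : Ω) (u : Up X H T M S) (e : S ≃* Om 3 (ZMod 3)) (j : T ≃* G0 (ZMod 3))
    (K : Subgroup (GL (I 3) (ZMod 3))) : Prop where
  kd : Kd K
  stab : ∀ s : S, (s : Perm Ω) a = a ↔ (e s : GL (I 3) (ZMod 3)) ∈ K
  res : ∀ t : T, (j t : GL (I 3) (ZMod 3)) = e ⟨t, u.le t.2⟩

/-- the elements of determinant one which keep the product lie in `Ω` -/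
def CrOm : Prop := ∀ x ∈ Is 3 (ZMod 3), (x : Matrix (I 3) (I 3) (ZMod 3)).det = 1 → lin x ∈ CrG (ZMod 3) → x ∈ Om 3 (ZMod 3)

theorem exists_pk (hA : CrOm) (hM : M ∈ OvE X H T a) : ∃ (S : Subgroup (Perm Ω)) (u : Up X H T M S) (e : S ≃* Om 3 (ZMod 3))
    (j : T ≃* G0 (ZMod 3)) (K : Subgroup (GL (I 3) (ZMod 3))), Pk a u e j K := by
  obtain ⟨S, φ, u, md, hT, hH, K, P, hK, hle, hP, hk⟩ := hM
  obtain ⟨e, he⟩ := exists_iso md u.socM.le
  have f := u.fac a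
  have h1 : H ≤ S := fun h hh => by
    obtain ⟨σ, x, hx, dx, ex⟩ := md.sem ⟨h, f.HM hh⟩
    have h2 : φ ⟨h, f.HM hh⟩ = lin x := Perm.ext fun v => by
      rw [ex, lin_apply]
      congr 1
      exact funext fun i => RingHom.congr_fun (Subsingleton.elim (σ : ZMod 3 →+* ZMod 3) (RingHom.id _)) (v i)
    exact (md.om ⟨h, f.HM hh⟩).2 ⟨x, hA x hx dx (h2 ▸ hH (md.mem_im.2 hh)), h2.symm⟩
  have h2 : M ≤ S := fun g hg => by
    obtain ⟨h, hh, s, hs, rfl⟩ := f.facH g hg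
    exact S.mul_mem (h1 hh.1) hs
  have h3 : ∀ s : S, (s : Perm Ω) a = a → (e s : GL (I 3) (ZMod 3)) ∈ K := fun s hs =>
    hle ⟨show lin _ ∈ im φ _ from he s ▸ md.mem_im.2 ⟨u.socM.le s.2, hs⟩, (e s).2⟩
  let Y := ((K.subgroupOf (Om 3 (ZMod 3))).comap e.toMonoidHom).map S.subtype
  have h4 : Y = M ⊓ stabilizer (Perm Ω) a := by
    refine (f.bm.eq_or_eq (c := Y) (fun g hg => ⟨⟨g, h2 hg.1⟩, h3 _ hg.2, rfl⟩)
      ((Subgroup.map_subtype_le _).trans u.socM.le)).resolve_right fun k => hK.1.not_ge fun x hx => ?_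
    obtain ⟨s, hs, es⟩ : (e.symm ⟨x, hx⟩ : Perm Ω) ∈ Y := k.ge (u.socM.le (e.symm ⟨x, hx⟩).2)
    have h5 : (e s : GL (I 3) (ZMod 3)) ∈ K := hs
    rwa [show s = e.symm ⟨x, hx⟩ from Subtype.ext es, e.apply_symm_apply] at h5
  let ψ : T →* GL (I 3) (ZMod 3) := (Om 3 (ZMod 3)).subtype.comp (e.toMonoidHom.comp (Subgroup.inclusion u.le))
  have h5 : Function.Injective ψ :=
    (Subgroup.subtype_injective _).comp (e.injective.comp (Subgroup.inclusion_injective u.le))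
  have h6 : ψ.range = G0 (ZMod 3) := by
    rw [← hT]
    ext x
    constructor
    · rintro ⟨t, rfl⟩
      exact ⟨show lin _ ∈ im φ _ from he ⟨t, u.le t.2⟩ ▸ md.mem_im.2 t.2, (e _).2⟩
    · rintro ⟨⟨g, hg, eg⟩, -⟩
      exact ⟨⟨g, hg⟩, lin_injective ((he ⟨g, u.le hg⟩).trans eg)⟩
  exact ⟨S, u, e, (MonoidHom.ofInjective h5).trans (MulEquiv.subgroupCongr h6), K, ⟨hK, P, hP, hk⟩,
    fun s => ⟨h3 s, fun hs => (h4.le ⟨s, hs, rfl⟩).2⟩, fun _ => rfl⟩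

variable {u : Up X H T M S} {e : S ≃* Om 3 (ZMod 3)} {j : T ≃* G0 (ZMod 3)} {K : Subgroup (GL (I 3) (ZMod 3))}

theorem Pk.simple (_ : Pk a u e j K) : IsSimpleGroup (Om 3 (ZMod 3)) := by
  have := u.socM.simple
  exact e.symm.isSimpleGroup

theorem Pk.card (p : Pk a u e j K) : Fintype.card Ω * Nat.card K = 4585351680 := by
  have : IsPretransitive S Ω := ⟨fun x y => by
    obtain ⟨t, ht, k⟩ := u.trans x y
    exact ⟨⟨t, u.le ht⟩, k⟩⟩
  have h1 : (K.subgroupOf (Om 3 (ZMod 3))).comap e.toMonoidHom = stabilizer S a := by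
    ext s
    exact (p.stab s).symm
  have h2 := (K.subgroupOf (Om 3 (ZMod 3))).index_mul_card
  rw [← Subgroup.index_comap_of_surjective _ (f := e.toMonoidHom) e.surjective, h1, index_stabilizer_of_transitive,
    Nat.card_eq_fintype_card, Nat.card_congr (Subgroup.subgroupOfEquivOfLe p.kd.1.1.le).toEquiv, card_Om] at h2
  exact h2

/-- **box `E4`** from two facts on `G₂(3)` -/
theorem boxE4_of (hA : CrOm) (hG : Nonempty (G0 (ZMod 3) ≃* Lie.G2 (ZMod 3))) : BoxE4 := by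
  rintro Ω _ _ X H T a ⟨M₀, h₀⟩
  obtain ⟨S₀, u₀, e₀, j₀, K₀, p₀⟩ := exists_pk hA h₀
  have c₀ := p₀.card
  refine ⟨by rcases p₀.kd.card with k | k | k <;> rw [k] at c₀ <;> omega, ?_⟩
  have ho := card_out hG
  have : Finite (Out (G0 (ZMod 3))) := Nat.finite_of_card_ne_zero (by omega)
  refine (ncard_le_of_col (C := (Set.univ : Set (Out (G0 (ZMod 3)) × (Is 3 (ZMod 3) ⧸ Nn)))) Set.finite_univ
    (fun M c => ∃ (S : Subgroup (Perm Ω)) (u : Up X H T M S) (e : S ≃* Om 3 (ZMod 3)) (j : T ≃* G0 (ZMod 3))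
      (K : Subgroup (GL (I 3) (ZMod 3))) (g : Is 3 (ZMod 3)), Pk a u e j K ∧
      (∀ x, x ∈ K₀ ↔ g * x * (g : GL (I 3) (ZMod 3))⁻¹ ∈ K) ∧
      c = (QuotientGroup.mk (j₀.symm.trans j : MulAut (G0 (ZMod 3))), QuotientGroup.mk g⁻¹)) (fun M hM => ?_) ?_).trans ?_
  · obtain ⟨S, u, e, j, K, p⟩ := exists_pk hA hM
    obtain ⟨g, hg, k⟩ := p₀.kd.conj p₀.simple p.kd
      (Nat.eq_of_mul_eq_mul_left (lt_of_lt_of_le (by norm_num) u.two) (c₀.trans p.card.symm))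
    exact ⟨_, Set.mem_univ _, S, u, e, j, K, ⟨g, hg⟩, p, k, rfl⟩
  · rintro M₁ - M₂ - c - ⟨S₁, u₁, e₁, j₁, K₁, g₁, p₁, k₁, rfl⟩ ⟨S₂, u₂, e₂, j₂, K₂, g₂, p₂, k₂, ec⟩
    obtain ⟨y, hy⟩ := QuotientGroup.eq.1 (congrArg Prod.fst ec)
    obtain ⟨h, hh, eh⟩ := QuotientGroup.eq.1 (congrArg Prod.snd ec).symm
    have h1 : ∀ t : T, j₂ t = j₁ (j₀.symm y) * j₁ t * (j₁ (j₀.symm y))⁻¹ := fun t => by
      have h2 : y * j₀ t * y⁻¹ = j₀ (j₁.symm (j₂ (j₀.symm (j₀ t)))) := congrArg (fun α : MulAut (G0 (ZMod 3)) => α (j₀ t)) hy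
      rw [j₀.symm_apply_apply] at h2
      have h3 := congrArg (fun z => j₁ (j₀.symm z)) h2
      simp only [map_mul, map_inv, MulEquiv.symm_apply_apply, MulEquiv.apply_symm_apply] at h3
      exact h3.symm
    let y' : Om 3 (ZMod 3) := ⟨j₁ (j₀.symm y), (j₁ (j₀.symm y)).2.2⟩
    let z : S₂ := e₂.symm (y' * (⟨h, hh⟩ : Om 3 (ZMod 3))⁻¹)
    refine u₁.rig_model u₂ e₁ e₂ (MulAut.conj y') (fun t ht => Subtype.ext ?_) (a := a) (b := (z : Perm Ω) a)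
      fun s s' hs es => ?_
    · have h2 := congrArg Subtype.val (h1 ⟨t, ht⟩)
      rw [p₂.res, Subgroup.coe_mul, Subgroup.coe_mul, p₁.res ⟨t, ht⟩] at h2
      exact h2.symm
    · have h2 : h * (e₁ s : GL (I 3) (ZMod 3)) * h⁻¹ ∈ K₂ := by
        have h3 := (k₂ _).1 ((k₁ ((g₁ : GL (I 3) (ZMod 3))⁻¹ * e₁ s * g₁)).2 (by
          rw [show (g₁ : GL (I 3) (ZMod 3)) * ((g₁ : GL (I 3) (ZMod 3))⁻¹ * e₁ s * g₁) * (g₁ : GL (I 3) (ZMod 3))⁻¹ = e₁ s by group]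
          exact (p₁.stab s).1 hs))
        rw [← eh, Subgroup.coe_mul, inv_inv, Subgroup.coe_inv]
        rwa [show (g₂ : GL (I 3) (ZMod 3)) * ((g₁ : GL (I 3) (ZMod 3))⁻¹ * e₁ s * g₁) * (g₂ : GL (I 3) (ZMod 3))⁻¹ =
          g₂ * (g₁ : GL (I 3) (ZMod 3))⁻¹ * e₁ s * ((g₂ : GL (I 3) (ZMod 3)) * (g₁ : GL (I 3) (ZMod 3))⁻¹)⁻¹ by group] at h3
      have h3 : e₂ (z⁻¹ * s' * z) = ⟨h, hh⟩ * e₁ s * (⟨h, hh⟩ : Om 3 (ZMod 3))⁻¹ := by
        rw [map_mul, map_mul, map_inv, e₂.apply_symm_apply, ← es, MulAut.conj_apply]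
        group
      have h4 := (p₂.stab (z⁻¹ * s' * z)).2 (by rw [h3]; exact h2)
      exact Perm.inv_eq_iff_eq.1 h4
  · rw [Set.ncard_univ, Nat.card_prod, ho]
    have := index_Nn
    omega

end Cfsg.Agent.SM.Oo.E4
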