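import Cfsg.Agent.SM.Oo.GeoA
import Cfsg.Agent.H906.Cov.EKill

/-!
# SM (S3570), family `fO`: extension fields, subfields, `boxGeo` (helper43)
-/

set_option autoImplicit false
set_option linter.unusedSectionVars false
set_option maxHeartbeats 400000

namespace Cfsg.Agent.SM.Oo.Geo

open Cfsg Cfsg.Geo Matrix Module
open Cfsg.Agent.LieClassical.OrthCore Cfsg.Agent.LieClassical.OrthTrans Cfsg.Agent.LieClassical.OrthFinite
open scoped MatrixGroups

variable {m : ℕ} {F : Type} [Field F] [Fintype F]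

theorem bf_neg (u v : W m F) : bf u (-v) = -bf u v := by rw [← neg_one_smul F v, bf_smul, neg_one_mul]

theorem bf_neg' (u v : W m F) : bf (-u) v = -bf u v := by rw [← neg_one_smul F u, bf_smul', neg_one_mul]

/-! ### extension fields -/

section ext

variable {E : Type} [Field E] [Algebra F E]

/-- the orbit map of a vector -/
def ev (ρ : E →ₐ[F] Matrix (I m) (I m) F) (v : W m F) : E →ₗ[F] W m F where
  toFun k := ρ k *ᵥ v
  map_add' a b := by rw [map_add, add_mulVec]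
  map_smul' a b := by rw [map_smul, smul_mulVec, RingHom.id_apply]

theorem ev_apply (ρ : E →ₐ[F] Matrix (I m) (I m) F) (v : W m F) (k : E) : ev ρ v k = ρ k *ᵥ v := rfl

/-- the functional of a vector -/
def fn (ρ : E →ₐ[F] Matrix (I m) (I m) F) (v : W m F) : E →ₗ[F] F := (BB m F v).comp (ev ρ v)

theorem fn_apply (ρ : E →ₐ[F] Matrix (I m) (I m) F) (v : W m F) (k : E) : fn ρ v k = bf v (ρ k *ᵥ v) := BB_apply _ _

theorem fn_one (ρ : E →ₐ[F] Matrix (I m) (I m) F) (v : W m F) : fn ρ v 1 = 2 * qf v := by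
  rw [fn_apply, map_one, one_mulVec, bf_self]

theorem dual_inj {l : E →ₗ[F] F} (h : l 1 ≠ 0) {a : E} (ha : ∀ k, l (a * k) = 0) : a = 0 := by_contra fun e =>
  h (by rw [← mul_inv_cancel₀ e, ha])

theorem dual_surj [Finite E] {l : E →ₗ[F] F} (h : l 1 ≠ 0) (φ : E →ₗ[F] F) : ∃ b, ∀ k, l (b * k) = φ k := by
  have hB : LinearMap.BilinForm.Nondegenerate ((LinearMap.mul F E).compr₂ l) :=
    ⟨fun a ha => dual_inj h fun k => by simpa using ha k, fun a ha => dual_inj h fun k => by simpa [mul_comm] using ha k⟩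
  refine ⟨(LinearMap.BilinForm.toDual _ hB).symm φ, fun k => ?_⟩
  have h1 := LinearMap.BilinForm.apply_toDual_symm_apply (hB := hB) φ k
  rwa [LinearMap.compr₂_apply, LinearMap.mul_apply'] at h1

theorem dual_count [Finite E] (hq : 3 ≤ Fintype.card F) (hr : 2 ≤ finrank F E) {l : E →ₗ[F] F} (h : l 1 ≠ 0)
    (key : ∀ a, l a = 0 → ∃ σ : E →ₐ[F] E, ∀ k, l ((1 + a) * σ k) = l k) : False := by
  choose f hf using fun a : LinearMap.ker l => key a a.2
  have h5 : Function.Injective f := fun a a' e => Subtype.ext (sub_eq_zero.1 (dual_inj h fun k => by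
    obtain ⟨c, rfl⟩ := Finite.surjective_of_injective (f := f a) (f a).toRingHom.injective k
    have h6 := hf a' c
    rw [← e, ← hf a c] at h6
    rw [show ((a : E) - a') * f a c = (1 + a) * f a c - (1 + a') * f a c by ring, map_sub, h6, sub_self]))
  have h6 := (Nat.card_le_card_of_injective f h5).trans (card_algHom_le_finrank F E E)
  rw [Module.natCard_eq_pow_finrank (K := F), Nat.card_eq_fintype_card] at h6
  have h7 := LinearMap.finrank_range_add_finrank_ker l
  have h8 := Submodule.finrank_le (LinearMap.range l)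
  rw [Module.finrank_self] at h8
  obtain ⟨n, hn'⟩ : ∃ n, finrank F E = n + 2 := ⟨_, (Nat.sub_add_cancel hr).symm⟩
  have h9 : 3 ^ (n + 1) ≤ Fintype.card F ^ finrank F (LinearMap.ker l) :=
    (Nat.pow_le_pow_left hq _).trans (Nat.pow_le_pow_right Fintype.card_pos (by omega))
  have h10 : n < 3 ^ n := Nat.lt_pow_self (by norm_num)
  rw [pow_succ] at h9
  omega

theorem kill3a (hodd : Odd (Fintype.card F)) (hm : 3 ≤ m) {K : Subgroup (GL (I m) F)} (hI : K ≤ Is m F) (h : TrM K)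
    [Finite E] (ρ : E →ₐ[F] Matrix (I m) (I m) F) (hr : 2 ≤ finrank F E) (hne : 2 * m + 1 ≠ finrank F E)
    (hs : ∀ k u v, bf (ρ k *ᵥ u) v = bf u (ρ k *ᵥ v))
    (hK : ∀ g ∈ K, ∃ σ : E →ₐ[F] E, ∀ k v, ap g (ρ k *ᵥ v) = ρ (σ k) *ᵥ ap g v) : False := by
  have h2 := two_ne hodd
  have := Fintype.ofFinite E
  have hE : Odd (Fintype.card E) := by
    rw [Module.card_eq_pow_finrank (K := F)]
    exact hodd.pow
  obtain ⟨v, hv⟩ := exists_minus (F := F) (m := m) hodd (by omega)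
  have hv1 : fn ρ v 1 ≠ 0 := fn_one ρ v ▸ mul_ne_zero h2 (ne_zero_of_not_isSquare hv)
  have hb : ∀ (u : W m F) (x y : E), bf (ρ x *ᵥ u) (ρ y *ᵥ u) = fn ρ u (x * y) := fun u x y => by
    rw [hs, mulVec_mulVec, ← map_mul, fn_apply]
  have hn : ∀ a : E, (∀ k, fn ρ v (a * k) = 0) → a = 0 := fun a ha => dual_inj hv1 ha
  have hinj : Function.Injective (ev ρ v) := (injective_iff_map_eq_zero _).2 fun a ha => hn a fun k => by
    rw [mul_comm, ← hb, show ρ a *ᵥ v = 0 from ha, bf_zero]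
  -- a second non-singular line
  obtain ⟨w, hw, hw0⟩ : ∃ w ∈ pp (LinearMap.range (ev ρ v)), qf w ≠ 0 := by
    by_contra hc
    have h3 : Ts (pp (LinearMap.range (ev ρ v))) := fun u hu => by_contra fun e => hc ⟨u, hu, e⟩
    have h4 := ts_le h3
    rw [pp_pp h2] at h4
    have h5 : pp (LinearMap.range (ev ρ v)) = ⊥ := (Submodule.eq_bot_iff _).2 fun u hu => by
      obtain ⟨a, rfl⟩ := h4 hu
      rw [hn a fun k => by rw [mul_comm, ← hb]; exact mem_pp.1 hu _ ⟨k, rfl⟩, map_zero]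
    have h6 := finrank_pp h2 (LinearMap.range (ev ρ v))
    rw [h5, finrank_bot, LinearMap.finrank_range_of_inj hinj, zero_add] at h6
    exact hne h6.symm
  have hvw : ∀ x y : E, bf (ρ x *ᵥ v) (ρ y *ᵥ w) = 0 := fun x y => by
    rw [← hs, mulVec_mulVec, ← map_mul]
    exact mem_pp.1 hw _ ⟨_, rfl⟩
  obtain ⟨b, hb'⟩ := dual_surj hv1 (fn ρ w)
  have hb0 : b ≠ 0 := fun e => mul_ne_zero h2 hw0 (by rw [← fn_one ρ w, ← hb', e, zero_mul, map_zero])
  refine dual_count (three_le hodd) hr hv1 fun a ha => ?_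
  obtain ⟨x, y, e⟩ := two_repr hE one_ne_zero hb0 (1 + a)
  have h3 : ∀ k, fn ρ (ρ x *ᵥ v + ρ y *ᵥ w) k = fn ρ v ((1 + a) * k) := fun k => by
    rw [fn_apply, mulVec_add, mulVec_mulVec, mulVec_mulVec, ← map_mul, ← map_mul, bf_add, bf_add', bf_add', hb, hb, hvw,
      bf_comm (ρ y *ᵥ w), hvw, add_zero, zero_add, ← hb', ← map_add, ← e]
    exact congrArg _ (by ring)
  have h4 : qf (ρ x *ᵥ v + ρ y *ᵥ w) = qf v := mul_left_cancel₀ h2 (by
    rw [← fn_one ρ, h3, mul_one, map_add, ha, add_zero, fn_one])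
  obtain ⟨g, hg, eg⟩ := h v _ hv h4
  obtain ⟨σ, hσ⟩ := hK g hg
  refine ⟨σ, fun k => ?_⟩
  rw [← h3, fn_apply ρ v, ← bf_ap (hI hg), hσ, fn_apply]
  rcases eg with eg | eg
  · rw [eg]
  · rw [eg, mulVec_neg, bf_neg, bf_neg', neg_neg]

end ext

theorem kill3 (hodd : Odd (Fintype.card F)) (hm : 3 ≤ m) {K : Subgroup (GL (I m) F)} (hI : K ≤ Is m F) (h : TrM K) {r : ℕ}
    {A : Subalgebra F (Matrix (I m) (I m) F)} (hr : 2 ≤ r) (hne : 2 * m + 1 ≠ r) (hA : IsFieldSubalgebra r A)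
    (hs : IsSelfAdjointFor bf A) (hK : K ≤ subalgebraNormalizer A) : False := by
  let _ := (H906.Cov.isField_of hA).toField
  refine kill3a hodd hm hI h A.val (hA.finrank_eq ▸ hr) (hA.finrank_eq ▸ hne) (fun k => hs k k.2) fun g hg =>
    ⟨H906.Cov.conjE (hK hg), fun k v => ?_⟩
  change _ = ((g : Matrix (I m) (I m) F) * (k : Matrix (I m) (I m) F) * ((g⁻¹ : GL (I m) F) : Matrix (I m) (I m) F)) *ᵥ ap g v
  rw [← mulVec_mulVec, ← mulVec_mulVec]
  exact congrArg (fun u => ap g ((k : Matrix (I m) (I m) F) *ᵥ u)) (ap_inv_ap g v).symm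

/-! ### subfields -/

section sub

variable {F₀ : Subfield F} {P : GL (I m) F}

/-- the rational vectors -/
def up (P : GL (I m) F) (u : I m → F₀) : W m F := ap P fun i => (u i : F)

theorem up_add (u v : I m → F₀) : up P (u + v) = up P u + up P v := ap_add _ _ _

theorem up_smul (c : F₀) (u : I m → F₀) : up P (c • u) = (c : F) • up P u := ap_smul _ _ _

/-- the form on the rational vectors -/
def Q0 (hR : IsQuadFormRationalStructure qf F₀ P) : QuadraticForm F₀ (I m → F₀) :=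
  QuadraticMap.ofPolar (fun u => ⟨qf (up P u), hR _ fun i => (u i).2⟩)
    (fun a x => Subtype.ext (by
      change qf (up P (a • x)) = (a : F) * a * qf (up P x)
      rw [up_smul, qf_smul, _root_.sq]))
    (fun x x' y => Subtype.ext (by
      have h := bf_add' (up P x) (up P x') (up P y)
      simp only [QuadraticMap.polar, ← up_add] at h
      exact h))
    (fun a x y => Subtype.ext (by
      have h := bf_smul' (a : F) (up P x) (up P y)
      simp only [QuadraticMap.polar, ← up_add, ← up_smul] at h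
      exact h))

theorem Q0_val (hR : IsQuadFormRationalStructure qf F₀ P) (u : I m → F₀) : (Q0 hR u : F) = qf (up P u) := rfl

theorem Q0_polar (hR : IsQuadFormRationalStructure qf F₀ P) (u v : I m → F₀) :
    ((QuadraticMap.polar (Q0 hR) u v : F₀) : F) = bf (up P u) (up P v) := by
  change qf (up P (u + v)) - qf (up P u) - qf (up P v) = _
  rw [up_add]
  rfl

theorem Q0_nondeg (h2 : (2 : F) ≠ 0) (hR : IsQuadFormRationalStructure qf F₀ P) : Nondeg (Q0 hR) := by
  intro u hu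
  have h1 : up P u = 0 := bf_nondeg h2 fun w => by
    rw [← ap_ap_inv P w, pi_eq_sum_univ' (ap P⁻¹ w), ap, mulVec_sum, ← BB_apply, map_sum]
    refine Finset.sum_eq_zero fun i _ => ?_
    have h3 : (Pi.single i 1 : W m F) = fun j => ((Pi.single i 1 : I m → F₀) j : F) := funext fun j => by
      by_cases e : j = i <;> simp [e]
    rw [mulVec_smul, BB_apply, bf_smul, h3]
    exact mul_eq_zero_of_right _ ((Q0_polar hR u _).symm.trans (by rw [hu, ZeroMemClass.coe_zero]))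
  have h4 := congrArg (ap P⁻¹) h1
  rw [up, ap_inv_ap, ap_zero] at h4
  exact funext fun i => Subtype.ext (congrFun h4 i)

/-- conjugation of vectors -/
def bar (P : GL (I m) F) (σ : F ≃+* F) (v : W m F) : W m F := ap P (σ ∘ ap P⁻¹ v)

theorem bar_add (σ : F ≃+* F) (u v : W m F) : bar P σ (u + v) = bar P σ u + bar P σ v := by
  rw [bar, bar, bar, ap_add P⁻¹, ← ap_add P]
  exact congrArg _ (funext fun i => map_add σ _ _)

theorem bar_smul (σ : F ≃+* F) (c : F) (v : W m F) : bar P σ (c • v) = σ c • bar P σ v := by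
  rw [bar, bar, ap_smul P⁻¹, ← ap_smul P]
  exact congrArg _ (funext fun i => map_mul σ _ _)

theorem bar_up {σ : F ≃+* F} (hσ : ∀ a : F₀, σ a = a) (u : I m → F₀) : bar P σ (up P u) = up P u := by
  rw [bar, up, ap_inv_ap]
  exact congrArg _ (funext fun i => hσ _)

theorem kill5 (hodd : Odd (Fintype.card F)) (hm : 3 ≤ m) {K : Subgroup (GL (I m) F)} (hI : K ≤ Is m F) (h : TrM K)
    (h0 : F₀ ≠ ⊤) (hR : IsQuadFormRationalStructure qf F₀ P) (hK : K ≤ subfieldSubgroup F₀ P) : False := by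
  have h2 := two_ne hodd
  obtain ⟨θ, hθ⟩ : ∃ θ, θ ∉ F₀ := by
    by_contra hc
    exact h0 (eq_top_iff.2 fun x _ => by_contra fun e => hc ⟨x, e⟩)
  obtain ⟨τ, hτ⟩ : ∃ τ : F ≃ₐ[F₀] F, τ θ ≠ θ := by
    by_contra hc
    obtain ⟨a, ha⟩ := IntermediateField.mem_bot.1
      ((IsGalois.mem_bot_iff_fixed (F := F₀) θ).2 fun τ => by_contra fun e => hc ⟨τ, e⟩)
    exact hθ (ha ▸ a.2)
  obtain ⟨σ, hσ, hσθ⟩ : ∃ σ : F ≃+* F, (∀ a : F₀, σ a = a) ∧ σ θ ≠ θ := ⟨τ.toRingEquiv, τ.commutes, hτ⟩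
  have hG : Good (Q0 hR) := good_of_finite (Q0_nondeg h2 hR) (by rw [Module.finrank_fintype_fun_eq_card, card_I]; omega)
  obtain ⟨e, f, hef⟩ := hG.exists_hyp
  obtain ⟨e', f', hef', h3, h4, h5, h6⟩ := hG.exists_hyp2 hef
  have p0 : ∀ {a b : I m → F₀}, QuadraticMap.polar (Q0 hR) a b = 0 → bf (up P a) (up P b) = 0 := fun {a b} k => by
    rw [← Q0_polar hR, k, ZeroMemClass.coe_zero]
  have p1 : ∀ {a b : I m → F₀}, QuadraticMap.polar (Q0 hR) a b = 1 → bf (up P a) (up P b) = 1 := fun {a b} k => by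
    rw [← Q0_polar hR, k, OneMemClass.coe_one]
  -- the invariant
  have inv : ∀ g ∈ K, ∀ v, bf (ap g v) (bar P σ (ap g v)) = bf v (bar P σ v) ∨
      bf (ap g v) (bar P σ (ap g v)) = -bf v (bar P σ v) := by
    intro g hg v
    have hg' := hI hg
    obtain ⟨x, c, rfl⟩ := (H922.mem_subfieldSubgroup_iff F₀ P g).1 (hK hg)
    generalize hX : Matrix.GeneralLinearGroup.map (F₀.subtype : F₀ →+* F) x = X at hg' ⊢
    have hX1 : tw σ X = X := Units.ext (Matrix.ext fun i j => by rw [← hX]; exact hσ _)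
    have hX2 : ∀ u : I m → F₀, ap X (fun i => (u i : F)) = fun i => (((x : Matrix (I m) (I m) F₀) *ᵥ u) i : F) :=
      fun u => funext fun i => by rw [← hX]; exact (RingHom.map_mulVec F₀.subtype _ u i).symm
    have h7 : ∀ w, ap (P * (X * H922.scal (I m) c) * P⁻¹) w = (c : F) • ap P (ap X (ap P⁻¹ w)) := fun w => by
      rw [← H922.scal_comm, ap_mul, ap_mul, ← ap_smul]
      exact congrArg _ (H922.scal_mul_mulVec c X _)
    have h8 : (c : F) • bar P σ (ap (P * (X * H922.scal (I m) c) * P⁻¹) v) =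
        σ c • ap (P * (X * H922.scal (I m) c) * P⁻¹) (bar P σ v) := by
      rw [h7, h7, bar_smul, bar, bar, ap_inv_ap, ap_inv_ap, ← ap_tw, hX1, smul_comm]
    have h9 := mem_Is.1 hg' (up P (e + f))
    rw [h7, qf_smul, up, ap_inv_ap, hX2] at h9
    change (c : F) ^ 2 * (Q0 hR _ : F) = (Q0 hR (e + f) : F) at h9
    rw [Q_add, hef.left, hef.right, hef.pair, zero_add, zero_add, OneMemClass.coe_one] at h9
    have h10 := congrArg σ h9
    rw [map_mul, map_pow, hσ, map_one] at h10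
    have h11 : σ c ^ 2 = (c : F) ^ 2 := mul_right_cancel₀ (right_ne_zero_of_mul_eq_one h9) (h10.trans h9.symm)
    have h12 := congrArg (bf (ap (P * (X * H922.scal (I m) c) * P⁻¹) v)) h8
    rw [bf_smul, bf_smul, bf_ap hg'] at h12
    rcases sq_eq_sq_iff_eq_or_eq_neg.1 h11 with k | k
    · exact Or.inl (mul_left_cancel₀ c.ne_zero (by rw [h12, k]))
    · exact Or.inr (mul_left_cancel₀ c.ne_zero (by rw [h12, k]; ring))
  obtain ⟨v₀, hv₀⟩ := exists_minus (F := F) (m := m) hodd (by omega)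
  let v : F → W m F := fun j => up P e + (qf v₀ - j * θ ^ 2) • up P f + θ • up P e' + (j * θ) • up P f'
  have hbf : ∀ a b c d a' b' c' d' : F, bf (a • up P e + b • up P f + c • up P e' + d • up P f')
      (a' • up P e + b' • up P f + c' • up P e' + d' • up P f') = a * b' + b * a' + c * d' + d * c' := by
    intro a b c d a' b' c' d'
    simp only [bf_add, bf_add', bf_smul, bf_smul', p0 hef.polar_left, p0 hef.polar_right, p0 hef'.polar_left,
      p0 hef'.polar_right, p1 hef.pair, p1 hef.pair', p1 hef'.pair, p1 hef'.pair', p0 h3, p0 h4, p0 h5, p0 h6,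
      p0 (polar_zero_of_comm h3), p0 (polar_zero_of_comm h4), p0 (polar_zero_of_comm h5), p0 (polar_zero_of_comm h6)]
    ring
  have hq : ∀ j, qf (v j) = qf v₀ := fun j => mul_left_cancel₀ h2 (by
    rw [← bf_self]
    have := hbf 1 (qf v₀ - j * θ ^ 2) θ (j * θ) 1 (qf v₀ - j * θ ^ 2) θ (j * θ)
    rw [one_smul] at this
    exact this.trans (by ring))
  have hh : ∀ j, σ j = j → bf (v j) (bar P σ (v j)) = qf v₀ + σ (qf v₀) - j * (θ - σ θ) ^ 2 := fun j hj => by
    have := hbf 1 (qf v₀ - j * θ ^ 2) θ (j * θ) 1 (σ (qf v₀) - j * σ θ ^ 2) (σ θ) (j * σ θ)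
    rw [one_smul] at this
    simp only [v, bar_add, bar_smul, bar_up hσ, map_sub, map_mul, map_pow, hj]
    exact this.trans (by ring)
  have key : ∀ j, σ j = j → j * (θ - σ θ) ^ 2 = 0 ∨ j * (θ - σ θ) ^ 2 = 2 * (qf v₀ + σ (qf v₀)) := fun j hj => by
    obtain ⟨g, hg, eg⟩ := h (v 0) (v j) (hq 0 ▸ hv₀) ((hq j).trans (hq 0).symm)
    have h7 := inv g hg (v 0)
    have h8 : bf (ap g (v 0)) (bar P σ (ap g (v 0))) = bf (v j) (bar P σ (v j)) := by
      rcases eg with eg | eg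
      · rw [eg]
      · rw [eg, ← neg_one_smul F (v j), bar_smul, bf_smul, bf_smul', map_neg, map_one]
        ring
    rw [h8, hh j hj, hh 0 (map_zero σ)] at h7
    rcases h7 with k | k
    · exact Or.inl (by linear_combination -k)
    · exact Or.inr (by linear_combination -k)
  have hδ : (θ - σ θ) ^ 2 ≠ 0 := pow_ne_zero 2 (sub_ne_zero.2 hσθ.symm)
  have k1 := (key 1 (map_one σ)).resolve_left (mul_ne_zero one_ne_zero hδ)
  have k2 := (key (-1) (by rw [map_neg, map_one])).resolve_left (mul_ne_zero (neg_ne_zero.2 one_ne_zero) hδ)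
  exact mul_ne_zero h2 hδ (by linear_combination k1 - k2)

end sub

theorem boxGeo : BoxGeo := by
  intro F _ _ m hodd hm K L hL hK h hI
  have c1 : ∀ U : Submodule F (W m F), U ≠ ⊥ → U ≠ ⊤ → K ≤ subspaceStabilizer U → False := fun U h0 h1 hU =>
    (hI U fun x hx u hu => (hU hx u).1 hu).elim h0 h1
  rcases hL with ⟨U, h0, hs, rfl⟩ | ⟨U, h0, h1, -, rfl⟩ | ⟨t, k, D, -, hD, rfl⟩ | ⟨t, D, -, hD, rfl⟩ |
    ⟨r, A, hr, hne, hA, hs, rfl⟩ | ⟨n₁, n₂, e, P, f₁, f₂, h1, h2, hf₁, hf₂, hT, rfl⟩ | ⟨F₀, r, P, hr, hc, hR, rfl⟩ |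
    ⟨k, t, e, P, f₁, h1, h2, -, hf₁, hT, rfl⟩
  · exact c1 U h0 (Ts.ne_top hs) (hK.trans inf_le_left)
  · exact c1 U h0 h1 (hK.trans inf_le_left)
  · exact kill2 hodd hm h hD.decomp (hK.trans inf_le_left)
  · exact kill2 hodd hm h hD.decomp (hK.trans inf_le_left)
  · exact kill3 hodd hm (hK.trans inf_le_right) h hr.two_le hne hA hs (hK.trans inf_le_left)
  · exact kill4 hodd hm h h1 (by omega) hf₁ hf₂ hT (hK.trans inf_le_left)
  · refine kill5 hodd hm (hK.trans inf_le_right) h ?_ hR (hK.trans inf_le_left)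
    rintro rfl
    rw [Nat.card_congr Subfield.topEquiv.toEquiv, Nat.card_eq_fintype_card] at hc
    exact hr.one_lt.ne (Nat.pow_right_injective Fintype.one_lt_card ((pow_one _).trans hc))
  · exact kill7 hodd hm h h1 h2 hf₁ hT (hK.trans inf_le_left)

end Cfsg.Agent.SM.Oo.Geo
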