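import Cfsg.Agent.SM.Oo.Cnt
import Cfsg.Agent.H900.SU4.Base
import Cfsg.Agent.ClassicalGeometry.PSL2Basic
import Cfsg.Agent.S0813
import Cfsg.Agent.S2119
import Cfsg.Agent.S5836
import Cfsg.Agent.S5860

/-!
# SM (S3570), family `fO`: `boxS`, the residual class in the dimensions 9 and 11 (helper79)
-/

set_option autoImplicit false
set_option linter.unusedSectionVars false
set_option maxHeartbeats 400000

namespace Cfsg.Agent.SM.Oo.S

open Cfsg Cfsg.Geo Matrix Equiv
open scoped MatrixGroups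

/-! ### orders of automorphism groups -/

theorem aut_l2 {K : Type} [Field K] [Fintype K] {p f : ℕ} (hp : p.Prime) (hf : 1 ≤ f) (hK : Fintype.card K = p ^ f)
    (h4 : 4 ≤ p ^ f) : Nat.card (MulAut (Matrix.ProjectiveSpecialLinearGroup (Fin 2) K)) = f * (p ^ f * ((p ^ f) ^ 2 - 1)) := by
  have := Fact.mk hp
  rw [S0813.result p f hf hK 2 le_rfl (fun _ => h4), if_pos rfl, one_mul, ClassicalGeometry.PSL2Basic.card_PGL2, hK]

theorem aut_alt {m : ℕ} (hm : 4 ≤ m) (h6 : m ≠ 6) : Nat.card (MulAut (alternatingGroup (Fin m))) = m.factorial := by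
  rw [← Nat.card_congr (Equiv.ofBijective _ (S2119.result m hm h6)), Nat.card_perm, Nat.card_fin]

theorem aut_l33 : Nat.card (MulAut (Matrix.ProjectiveSpecialLinearGroup (Fin 3) (ZMod 3))) ∣ 22464 := by
  rw [S0813.result 3 1 le_rfl (by rw [ZMod.card, pow_one]) 3 (by norm_num) (fun h => absurd h (by norm_num)),
    if_neg (by norm_num), mul_one]
  have h1 : Nat.card (Matrix.ProjGenLinGroup (Fin 3) (ZMod 3)) ∣ 11232 := by
    have h2 : Nat.card (GL (Fin 3) (ZMod 3)) = 11232 := by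
      rw [Matrix.card_GL_field]
      simp [Fin.prod_univ_three, ZMod.card]
    rw [← h2]
    exact Subgroup.card_quotient_dvd_card _
  exact mul_dvd_mul_left 2 h1

/-! ### no subgroup of order 560 or 1120 in `S₁₀` -/

theorem no35 (g : Perm (Fin 10)) : orderOf g ≠ 35 := fun h => by
  have h1 : 35 ∣ g.cycleType.prod := by
    rw [← h, ← Perm.lcm_cycleType]
    exact Multiset.lcm_dvd.2 fun b hb => Multiset.dvd_prod hb
  obtain ⟨a, ha, h5⟩ := (Nat.prime_iff.1 (by norm_num : Nat.Prime 5)).exists_mem_multiset_dvd (dvd_trans (by norm_num) h1)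
  obtain ⟨b, hb, h7⟩ := (Nat.prime_iff.1 (by norm_num : Nat.Prime 7)).exists_mem_multiset_dvd (dvd_trans (by norm_num) h1)
  have h2 : g.cycleType.sum ≤ 10 := by simpa using Perm.sum_cycleType_le g
  have a2 := Perm.two_le_of_mem_cycleType ha
  have b2 := Perm.two_le_of_mem_cycleType hb
  obtain ⟨t, ht⟩ := Multiset.exists_cons_of_mem ha
  rw [ht, Multiset.sum_cons] at h2
  rw [ht, Multiset.mem_cons] at hb
  rcases hb with rfl | hb
  · omega
  · have := Multiset.le_sum_of_mem hb
    omega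

theorem exists35 {A : Type} [Group A] [Finite A] (h : Nat.card A = 560 ∨ Nat.card A = 1120) : ∃ x : A, orderOf x = 35 := by
  have : Fact (Nat.Prime 7) := ⟨by norm_num⟩
  have : Fact (Nat.Prime 5) := ⟨by norm_num⟩
  obtain ⟨P⟩ : Nonempty (Sylow 7 A) := inferInstance
  have c7 : Nat.card P = 7 := by
    rw [P.card_eq_multiplicity]
    rcases h with h | h <;> rw [h] <;> decide +kernel
  have h1 := card_sylow_modEq_one 7 A
  rw [P.card_eq_index_normalizer] at h1
  have h2 := (Subgroup.normalizer (P : Set A)).index_mul_card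
  have h5 : 5 ∣ Nat.card (Subgroup.normalizer (P : Set A)) := by
    by_contra k
    have h3 : 5 ∣ (Subgroup.normalizer (P : Set A)).index :=
      ((Nat.Prime.dvd_mul (by norm_num)).1 (by rw [h2]; rcases h with h | h <;> rw [h] <;> norm_num)).resolve_right k
    have h4 : (Subgroup.normalizer (P : Set A)).index ∣ 1120 := by
      refine (Subgroup.index_dvd_card _).trans ?_
      rcases h with h | h <;> rw [h] <;> norm_num
    have h7 : ∀ n ∈ Nat.divisors 1120, n % 7 = 1 % 7 → ¬ 5 ∣ n := by decide +kernel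
    exact h7 _ (Nat.mem_divisors.2 ⟨h4, by norm_num⟩) h1 h3
  obtain ⟨x, hx⟩ := exists_prime_orderOf_dvd_card' 5 h5
  obtain ⟨g, hg⟩ := exists_prime_orderOf_dvd_card' (G := P) 7 (dvd_of_eq c7.symm)
  have : IsCyclic P := isCyclic_of_prime_card c7
  have h6 : (P : Subgroup A).normalizerMonoidHom x = 1 := by
    rw [← orderOf_eq_one_iff]
    refine Nat.eq_one_of_dvd_coprimes (by norm_num : Nat.Coprime 5 6) (hx ▸ orderOf_map_dvd _ x) ?_
    have := orderOf_dvd_natCard ((P : Subgroup A).normalizerMonoidHom x)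
    rwa [IsCyclic.card_mulAut, c7] at this
  have h7 : Commute (x : A) (g : A) := by
    have : (x : A) * g * (x : A)⁻¹ = g := congrArg (fun φ : MulAut P => (φ g : A)) h6
    exact mul_inv_eq_iff_eq_mul.1 this
  refine ⟨x * g, ?_⟩
  rw [h7.orderOf_mul_eq_mul_orderOf_of_coprime] <;> rw [Subgroup.orderOf_coe, Subgroup.orderOf_coe, hx, hg]
  norm_num

/-! ### the stabiliser of a minus point -/

variable {m : ℕ} {F : Type} [Field F] [Fintype F]

theorem exists_stab (hodd : Odd (Fintype.card F)) (hm : 1 ≤ m) {K : Subgroup (GL (I m) F)} (hK : K ≤ Is m F) (h : TrM K) :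
    ∃ A : Subgroup (ℤˣ × K), A.index = Fintype.card F ^ m * (Fintype.card F ^ m - 1) := by
  obtain ⟨v, hv⟩ := exists_minus hodd hm
  let act : MulAction (ℤˣ × K) (W m F) :=
    { smul := fun g w => (g.1 : ℤ) • ap g.2.1 w
      one_smul := fun w => by
        change ((1 : ℤˣ) : ℤ) • ap 1 w = w
        rw [ap_one, Units.val_one, one_smul]
      mul_smul := fun g k w => by
        change ((g.1 * k.1 : ℤˣ) : ℤ) • ap (g.2.1 * k.2.1) w = (g.1 : ℤ) • ap g.2.1 ((k.1 : ℤ) • ap k.2.1 w)
        rw [ap_mul, Units.val_mul, mul_smul]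
        rcases Int.units_eq_one_or k.1 with e | e <;> simp [e, ap_neg] }
  have h1 : MulAction.orbit (ℤˣ × K) v = {w | qf w = qf v} := by
    ext w
    constructor
    · rintro ⟨g, rfl⟩
      change qf ((g.1 : ℤ) • ap g.2.1 v) = qf v
      rcases Int.units_eq_one_or g.1 with e | e <;> simp [e, qf_neg, mem_Is.1 (hK g.2.2)]
    · intro hw
      obtain ⟨y, hy, e | e⟩ := h v w hv hw
      · exact ⟨(1, ⟨y, hy⟩), show ((1 : ℤˣ) : ℤ) • ap y v = w by simp [e]⟩
      · exact ⟨(-1, ⟨y, hy⟩), show ((-1 : ℤˣ) : ℤ) • ap y v = w by simp [e]⟩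
  refine ⟨MulAction.stabilizer (ℤˣ × K) v, ?_⟩
  rw [MulAction.index_stabilizer, h1, ← (boxCnt F m hodd (qf v)).2.2 hv]
  rfl

theorem exists_inj {K P : Subgroup (GL (I m) F)} (hK : K ≤ Om m F) (h : IsResidualCore K P) {G : Type} [Group G]
    (e : (P ⧸ (scalars (I m) F).subgroupOf P) ≃* G) : ∃ φ : K →* MulAut G, Function.Injective φ := by
  obtain ⟨φ, hφ⟩ := H900.SU4.exists_core_inj h
  refine ⟨(MulAut.congr e).toMonoidHom.comp (φ.comp (QuotientGroup.mk' _)), (MulAut.congr e).injective.comp (hφ.comp ?_)⟩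
  rw [injective_iff_map_eq_one]
  exact fun b hb => Subtype.ext (scalars_inf (hK b.2) ((QuotientGroup.eq_one_iff b).1 hb))

theorem dvd_aut (hodd : Odd (Fintype.card F)) (hm : 1 ≤ m) {K P : Subgroup (GL (I m) F)} (hK : K ≤ Om m F) (ht : TrM K)
    (h : IsResidualCore K P) {G : Type} [Group G] (e : (P ⧸ (scalars (I m) F).subgroupOf P) ≃* G) :
    Fintype.card F ^ m * (Fintype.card F ^ m - 1) ∣ 2 * Nat.card (MulAut G) := by
  obtain ⟨φ, hφ⟩ := exists_inj hK h e
  exact (ht.dvd hodd hm (hK.trans Om_le)).trans (mul_dvd_mul_left 2 (Subgroup.card_dvd_of_injective φ hφ))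

theorem alt10 (hF : Fintype.card F = 3) {K P : Subgroup (GL (I 4) F)} (hK : K ≤ Om 4 F) (ht : TrM K)
    (h : IsResidualCore K P) (e : (P ⧸ (scalars (I 4) F).subgroupOf P) ≃* alternatingGroup (Fin 10)) : False := by
  obtain ⟨φ, hφ⟩ := exists_inj hK h e
  obtain ⟨A, hA⟩ := exists_stab (by rw [hF]; decide) (by norm_num) (hK.trans Om_le) ht
  have h1 := A.index_mul_card
  rw [hA, hF, Nat.card_prod, show Nat.card ℤˣ = 2 by rw [Nat.card_eq_fintype_card]; rfl] at h1
  obtain ⟨c, hc⟩ := Subgroup.card_dvd_of_injective φ hφ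
  rw [aut_alt (by norm_num) (by norm_num), show Nat.factorial 10 = 3628800 by decide] at hc
  have h2 : 1814400 ≤ Nat.card K := by
    have h3 : Nat.card (alternatingGroup (Fin 10)) = 1814400 := by
      rw [nat_card_alternatingGroup, Nat.card_fin]
      decide
    rw [← h3, ← Nat.card_congr e.toEquiv]
    exact (Nat.le_of_dvd Nat.card_pos (Subgroup.card_quotient_dvd_card _)).trans (Subgroup.card_le_of_le h.le)
  have h3 : c ≤ 2 := by
    by_contra k
    have := Nat.mul_le_mul h2 (show 3 ≤ c by omega)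
    omega
  obtain ⟨x, hx⟩ := exists35 (A := A) (by interval_cases c <;> omega)
  let ψ := MulEquiv.ofBijective _ (S2119.result 10 (by norm_num) (by norm_num))
  refine no35 (ψ.symm (φ x.1.2)) ?_
  rw [ψ.symm.orderOf_eq, orderOf_injective φ hφ]
  rw [← Subgroup.orderOf_coe, Prod.orderOf] at hx
  have h4 : orderOf x.1.1 = 1 := by
    refine Nat.eq_one_of_dvd_coprimes (by norm_num : Nat.Coprime 2 35) ?_ (hx ▸ Nat.dvd_lcm_left _ _)
    exact orderOf_dvd_of_pow_eq_one (Int.units_sq _)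
  rwa [h4, Nat.lcm_one_left] at hx

/-! ### numbers -/

theorem le_of_dvd {q k N b : ℕ} (h : q ^ k * (q ^ k - 1) ∣ N) (hN : 0 < N) (hb : N < b ^ k * (b ^ k - 1)) :
    q < b := by
  by_contra k'
  have h1 : b ^ k ≤ q ^ k := Nat.pow_le_pow_left (by omega) k
  have := (Nat.mul_le_mul h1 (Nat.sub_le_sub_right h1 1)).trans (Nat.le_of_dvd hN h)
  omega

theorem not_l2 {q f k : ℕ} (hf : 1 ≤ f) (hq : f < q) (hk : 4 ≤ k) : ¬ q ^ k * (q ^ k - 1) ∣ 2 * (f * (q * (q ^ 2 - 1))) := by
  intro h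
  have q2 : 2 ≤ q := by omega
  have h1 : 4 ≤ q ^ 2 := Nat.pow_le_pow_left q2 2
  have h2 := Nat.le_of_dvd (by
    have : 0 < q ^ 2 - 1 := by omega
    positivity) h
  have h3 : q ^ 4 ≤ q ^ k := Nat.pow_le_pow_right (by omega) hk
  have h4 : 16 ≤ q ^ 4 := Nat.pow_le_pow_left q2 4
  have h5 : q ^ 4 * 15 ≤ q ^ k * (q ^ k - 1) := Nat.mul_le_mul h3 (by omega)
  have h6 : f * (q * (q ^ 2 - 1)) ≤ q * (q * q ^ 2) := Nat.mul_le_mul hq.le (Nat.mul_le_mul_left _ (Nat.sub_le _ _))
  have h7 : q * (q * q ^ 2) = q ^ 4 := by ring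
  omega

theorem not_l2sq {q f : ℕ} (hf : 1 ≤ f) (hq : f < q) (h3 : 3 ≤ q) (h4 : q = 3 → f = 1) :
    ¬ q ^ 4 * (q ^ 4 - 1) ∣ 2 * ((2 * f) * (q ^ 2 * ((q ^ 2) ^ 2 - 1))) := by
  intro h
  have h1 : 81 ≤ q ^ 4 := Nat.pow_le_pow_left h3 4
  rw [← pow_mul, show 2 * (2 * f * (q ^ 2 * (q ^ (2 * 2) - 1))) = 4 * f * q ^ 2 * (q ^ 4 - 1) by ring] at h
  have h2 := Nat.le_of_dvd (by positivity) (Nat.dvd_of_mul_dvd_mul_right (by omega) h)
  rw [show q ^ 4 = q * q * q ^ 2 by ring] at h2
  have h5 := Nat.le_of_mul_le_mul_right h2 (by positivity)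
  rcases h3.eq_or_lt with e | e
  · have := h4 e.symm
    subst e
    omega
  · nlinarith

theorem boxS : BoxS := by
  intro F _ _ m hodd hm K hK hS ht
  obtain ⟨p, hc⟩ := CharP.exists F
  obtain ⟨⟨f, hf⟩, hp, hq⟩ := FiniteField.card F p
  have hq' : Fintype.card F = p ^ f := hq
  have q1 : 1 < Fintype.card F := Fintype.one_lt_card
  have q3 : 3 ≤ Fintype.card F := by
    obtain ⟨k, hk⟩ := hodd
    omega
  have fq : f < Fintype.card F := hq' ▸ Nat.lt_pow_self hp.one_lt
  rcases hm with rfl | rfl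
  · obtain ⟨P, p', hP, hp', hc', hcase⟩ := S5836.result hodd K hK hS
    have key := fun {G : Type} [Group G] => dvd_aut (G := G) hodd (by norm_num) hK.1.le ht hP
    rcases hcase with ⟨⟨L, _, _, hL, ⟨e⟩⟩, -⟩ | ⟨⟨e⟩, -⟩ | ⟨⟨e⟩, -⟩ | ⟨⟨e⟩, h⟩ | ⟨⟨e⟩, h⟩ | ⟨⟨L, _, _, hL, ⟨e⟩⟩, h⟩
    · have k := key e
      rw [aut_l2 (p := 2) (f := 3) Nat.prime_two (by norm_num) (by rw [hL]; rfl) (by norm_num)] at k
      have := le_of_dvd (b := 3) k (by norm_num) (by norm_num)
      omega
    · have : Fact (Nat.Prime 17) := ⟨by norm_num⟩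
      have k := key e
      rw [aut_l2 (p := 17) (f := 1) (by norm_num) (by norm_num) (by rw [ZMod.card]; rfl) (by norm_num)] at k
      have := le_of_dvd (b := 4) k (by norm_num) (by norm_num)
      rw [show Fintype.card F = 3 by omega] at k
      norm_num at k
    · have k := key e
      rw [aut_alt (by norm_num) (by norm_num), show Nat.factorial 10 = 3628800 by decide] at k
      have := le_of_dvd (b := 8) k (by norm_num) (by norm_num)
      by_cases h3 : Fintype.card F = 3
      · exact alt10 h3 hK.1.le ht hP e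
      · obtain ⟨j, hj⟩ := hodd
        have h5 : Fintype.card F = 5 ∨ Fintype.card F = 7 := by omega
        rcases h5 with h5 | h5 <;> rw [h5] at k <;> norm_num at k
    · have k := key e
      rw [aut_alt (by norm_num) (by norm_num), show Nat.factorial 11 = 39916800 by decide, h] at k
      norm_num at k
    · have k := key e
      have : p' ≤ Fintype.card F := by
        rw [CharP.eq F hc' hc, hq']
        exact Nat.le_self_pow (by omega) p
      rw [aut_l2 hp hf hq' (by omega), ← hq'] at k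
      exact not_l2 hf fq le_rfl k
    · have k := key e
      have e1 : p ^ (2 * f) = Fintype.card F ^ 2 := by rw [hq', ← pow_mul, mul_comm]
      rw [aut_l2 hp (f := 2 * f) (by omega) (hL.trans e1.symm) (by rw [e1]; nlinarith), e1] at k
      exact not_l2sq hf fq q3 (fun e => absurd e h) k
  · obtain ⟨P, p', hP, hp', hc', hcase⟩ := S5860.result hodd K hK hS
    have key := fun {G : Type} [Group G] => dvd_aut (G := G) hodd (by norm_num) hK.1.le ht hP
    rcases hcase with ⟨⟨e⟩, h⟩ | ⟨⟨e⟩, h, h5, -⟩ | ⟨⟨e⟩, h⟩ | ⟨⟨e⟩, h, -⟩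
    · have k := (key e).trans (mul_dvd_mul_left 2 aut_l33)
      rw [h] at k
      norm_num at k
    · have k := key e
      rw [aut_alt (by norm_num) (by norm_num), show Nat.factorial 12 = 479001600 by decide] at k
      have := le_of_dvd (b := 8) k (by norm_num) (by norm_num)
      obtain ⟨j, hj⟩ := hodd
      have h5 : Fintype.card F = 5 ∨ Fintype.card F = 7 := by omega
      rcases h5 with h5 | h5 <;> rw [h5] at k <;> norm_num at k
    · have k := key e
      rw [aut_alt (by norm_num) (by norm_num), show Nat.factorial 13 = 6227020800 by decide, h] at k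
      norm_num at k
    · have k := key e
      have : p' ≤ Fintype.card F := by
        rw [CharP.eq F hc' hc, hq']
        exact Nat.le_self_pow (by omega) p
      rw [aut_l2 hp hf hq' (by omega), ← hq'] at k
      exact not_l2 hf fq (by norm_num) k

end Cfsg.Agent.SM.Oo.S
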