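import Cfsg.Agent.SM.Oo.SpinK

/-!
# SM/Oo: `boxSpin` (helper76)
-/

set_option autoImplicit false
set_option linter.unusedSectionVars false
set_option linter.unusedSimpArgs false

namespace Cfsg.Agent.SM.Oo.Spin

open Cfsg Cfsg.Geo Cfsg.Lie Matrix Equiv
open Cfsg.Agent.H161.Oct
open Cfsg.Agent.H64.SubG2 (inc cor cor_inc tr_inc inc_cor quad_eq)
open Cfsg.Agent.H870.GE (C C_apply CF CF0 CF1 CF2 CF3 CF4 CF5 CF6 CF7 nm_CF CF_o)
open Cfsg.Agent.ClassicalGeometry.OmegaIndex (abelianization_of_reflIso_eq abelianization_cases)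
open scoped MatrixGroups

variable {F : Type} [Field F]

theorem L_cor {a : V F} (ha : tr a = 0) (w : V F) : L (cor F a) w = zornMul a w := by rw [L, inc_cor ha]

theorem qf_cor {a : V F} (ha : tr a = 0) : qf (cor F a) = - nm a := by rw [qf_eq, inc_cor ha]

theorem mem_comm {x y : Is 3 F} (h : Abelianization.of x = Abelianization.of y) : x * y⁻¹ ∈ commutator (Is 3 F) := by
  rw [← Abelianization.ker_of, MonoidHom.mem_ker, map_mul, map_inv, h, mul_inv_cancel]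

theorem LL.lf {l : F} {x : Is 3 F} {y : Perm (V F)} (h : LL l x y) (hx : x ∈ commutator (Is 3 F)) :
    Lf (RingEquiv.refl F) 1 l (lin x.1) y := Lf.of_eq h rfl (dt_om hx) rfl rfl

/-! ### the cosets of `G₂(q)` -/

theorem nuc (h2 : (2 : F) ≠ 0) {v : V F} (h : ∀ a b, L a (L b v) - L b (L a v) = L (cr a b) v) : v = v 0 • o := by
  have key : ∀ a b : V F, tr a = 0 → tr b = 0 →
      zornMul a (zornMul b v) - zornMul b (zornMul a v) = zornMul (zornMul a b - zornMul b a) v := by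
    intro a b ha hb
    have h1 := h (cor F a) (cor F b)
    rwa [L_cor ha, L_cor hb, L_cor ha, L_cor hb, L, inc_cr, L_cor ha, L_cor hb, inc_cor ha, inc_cor hb] at h1
  have k12 := key ![0, 1, 0, 0, 0, 0, 0, 0] ![0, 0, 1, 0, 0, 0, 0, 0] (by simp [tr]) (by simp [tr])
  have k23 := key ![0, 0, 1, 0, 0, 0, 0, 0] ![0, 0, 0, 1, 0, 0, 0, 0] (by simp [tr]) (by simp [tr])
  have k31 := key ![0, 0, 0, 1, 0, 0, 0, 0] ![0, 1, 0, 0, 0, 0, 0, 0] (by simp [tr]) (by simp [tr])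
  have a0 := congrFun k12 0
  have a1 := congrFun k12 1
  have a2 := congrFun k12 2
  have a6 := congrFun k12 6
  have b0 := congrFun k23 0
  have b2 := congrFun k23 2
  have c0 := congrFun k31 0
  simp only [mul0, mul1, mul2, mul3, mul4, mul5, mul6, mul7, Pi.sub_apply, Matrix.cons_val] at a0 a1 a2 a6 b0 b2 c0
  apply ext8 <;> simp only [Pi.smul_apply, smul_eq_mul, o0, o1, o2, o3, o4, o5, o6, o7, mul_one, mul_zero] <;>
    apply mul_left_cancel₀ h2 <;>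
    first | linear_combination a0 | linear_combination a1 | linear_combination a2 | linear_combination a6 | linear_combination b0 | linear_combination b2 | linear_combination c0 | linear_combination -a1 | linear_combination -a2 | linear_combination -a6 | linear_combination -b2

theorem Lf.cr_iff (h2 : (2 : F) ≠ 0) {σ : F ≃+* F} {l : F} {g : Perm (W 3 F)} {y : Perm (V F)} (a : Lf σ 1 l g y) :
    g ∈ CrG F ↔ ∃ c : F, y o = c • o := by
  have h1 : ∀ z w, y (L z w) = L (g z) (y w) := fun z w => by rw [a.rel, one_smul]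
  have h3 : ∀ z, y (inc F z) = L (g z) (y o) := fun z => by rw [← L_o, h1]
  have h4 : ∀ z u, L (g z) (L (g u) (y o)) - L (g u) (L (g z) (y o)) = L (g (cr z u)) (y o) := fun z u => by
    rw [← h3, ← h3, ← h3, ← h1, ← h1, ← a.sub, inc_cr]
  constructor
  · intro h
    refine ⟨_, nuc h2 fun z u => ?_⟩
    obtain ⟨z, rfl⟩ := g.surjective z
    obtain ⟨u, rfl⟩ := g.surjective u
    rw [h4, h]
  · rintro ⟨c, hc⟩ z u
    have h0 : c ≠ 0 := by
      rintro rfl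
      exact a.ne_zero o_ne (by rw [hc, zero_smul])
    have h5 := h4 z u
    simp only [hc, L_smul, L_o] at h5
    rw [← smul_sub, ← inc_cr] at h5
    exact (inc_inj (smul_right_injective _ h0 h5)).symm

theorem exists_beta (h2 : (2 : F) ≠ 0) (w : V F) : ∃ b : V F, tr b = 0 ∧ nm b ≠ 0 ∧ bl w b = 0 := by
  have key : ∀ x y z : F, x ^ 2 + y ^ 2 + z ^ 2 ≠ 0 → x * (w 1 - w 4) + y * (w 2 - w 5) + z * (w 3 - w 6) = 0 →
      ∃ b : V F, tr b = 0 ∧ nm b ≠ 0 ∧ bl w b = 0 := fun x y z h1 h3 =>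
    ⟨![0, x, y, z, -x, -y, -z, 0], by simp [tr], fun k => h1 (by
      simp only [nm, Matrix.cons_val] at k
      linear_combination k), by
      simp only [bl, Matrix.cons_val]
      linear_combination h3⟩
  by_cases h1 : w 1 - w 4 = 0
  · exact key 1 0 0 (by simp) (by rw [h1]; ring)
  by_cases h3 : (w 2 - w 5) ^ 2 + (w 1 - w 4) ^ 2 = 0
  · by_cases h4 : (w 3 - w 6) ^ 2 + (w 1 - w 4) ^ 2 = 0
    · refine key 0 (w 3 - w 6) (-(w 2 - w 5)) (fun k => h1 (pow_eq_zero_iff (two_ne_zero) |>.1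
        (mul_left_cancel₀ h2 (?_ : 2 * (w 1 - w 4) ^ 2 = 2 * 0)))) (by ring)
      linear_combination h3 + h4 - k
    · exact key (w 3 - w 6) 0 (-(w 1 - w 4)) (fun k => h4 (by linear_combination k)) (by ring)
  · exact key (w 2 - w 5) (-(w 1 - w 4)) 0 (fun k => h3 (by linear_combination k)) (by ring)

theorem tra_one (h2 : (2 : F) ≠ 0) {w : V F} (h0 : nm w ≠ 0) (hs : IsSquare (nm w)) :
    ∃ x ∈ commutator (Is 3 F), ∃ l y, IsSquare l ∧ LL l x y ∧ ∃ c : F, y o = c • w := by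
  obtain ⟨b, h1, h3, h4⟩ := exists_beta h2 w
  have h5 : tr (zornMul w b) = 0 := by rw [tr_mul, h1, h4, mul_zero, sub_zero]
  have hb : qf (cor F b) ≠ 0 := by
    rw [qf_cor h1]
    exact neg_ne_zero.2 h3
  have ha : qf (cor F (zornMul w b)) ≠ 0 := by
    rw [qf_cor h5, nm_mul]
    exact neg_ne_zero.2 (mul_ne_zero h0 h3)
  have hsq : IsSquare (qf (cor F (zornMul w b)) * qf (cor F b)) := by
    obtain ⟨s, hs⟩ := hs
    exact ⟨s * nm b, by rw [qf_cor h5, qf_cor h1, nm_mul, hs]; ring⟩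
  refine ⟨rf _ ha * rf _ hb, ?_, _, _, ?_, (ll_rf _ ha).mul (ll_rf _ hb), - nm b, ?_⟩
  · have h6 := mem_comm (x := rf _ ha) (y := rf _ hb) (abelianization_of_reflIso_eq h2 (Q7 F) ha hb hsq)
    rwa [show (rf _ hb)⁻¹ = rf _ hb from ClassicalGeometry.Reflection.reflIso_inv (Q7 F) _ hb] at h6
  · rwa [neg_mul_neg]
  · rw [Perm.mul_apply, Lp_apply, Lp_apply, L_cor h5, L_cor h1, mul_o, zr_alt, h1, zero_smul, zero_sub, neg_smul]

theorem final_one {σ : F ≃+* F} {l : F} {g : Perm (W 3 F)} {y : Perm (V F)} (a : Lf σ 1 l g y)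
    (h : ∀ w, nm w ≠ 0 ∧ IsSquare (nm w) → ∃ c : F, y w = c • C 1 w) : False := by
  have h1 : ∀ w, nm w = 1 → ∃ c : F, c ≠ 0 ∧ y w = c • CF 1 w := fun w hw => by
    obtain ⟨c, hc⟩ := h w (by rw [hw]; exact ⟨one_ne_zero, IsSquare.one⟩)
    refine ⟨c, ?_, hc⟩
    rintro rfl
    have h3 := a.nrm w
    rw [hc, zero_smul, hw, map_one, mul_one] at h3
    exact a.ne (by rw [← h3]; simp [nm])
  obtain ⟨c, hc, e0⟩ := h1 o nm_o
  obtain ⟨c₁, -, e1⟩ := h1 ![0, 1, 0, 0, -1, 0, 0, 0] (by simp [nm])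
  obtain ⟨c₂, -, e2⟩ := h1 ![0, 0, 0, 1, 0, 0, -1, 0] (by simp [nm])
  obtain ⟨c₃, hc₃, e3⟩ := h1 (zornMul ![0, 1, 0, 0, -1, 0, 0, 0] ![0, 0, 0, 1, 0, 0, -1, 0]) (by rw [nm_mul]; simp [nm])
  have t1 : tr (![0, 1, 0, 0, -1, 0, 0, 0] : V F) = 0 := by simp [tr]
  have h3 := a.rel (cor F ![0, 1, 0, 0, -1, 0, 0, 0]) o
  rw [L_cor t1, mul_o, e0, CF_o, one_smul, L_smul, L_o] at h3
  have h4 := a.rel (cor F ![0, 1, 0, 0, -1, 0, 0, 0]) ![0, 0, 0, 1, 0, 0, -1, 0]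
  rw [L_cor t1, one_smul, L] at h4
  have h5 := congrArg (fun w => c • w) h4
  rw [← zsmul_mul, ← h3, e1, e2, e3] at h5
  have h6 := congrFun h5 1
  simp only [mul0, mul1, mul2, mul3, mul4, mul5, mul6, mul7, Pi.smul_apply, smul_eq_mul, CF0, CF1, CF2, CF3, CF4, CF5, CF6, CF7,
    Matrix.cons_val] at h6
  exact mul_ne_zero hc hc₃ (by linear_combination -h6)

/-! ### the totally singular planes -/

/-- the standard basis of the standard plane -/
def ea (i : Fin 3) : W 3 F := Pi.single (.inr (.inl i)) 1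

theorem L_ea (i : Fin 3) : L (ea i) (e1 : V F) = 0 := by
  fin_cases i <;> apply ext8 <;>
    simp [L, inc, ea, mul0, mul1, mul2, mul3, mul4, mul5, mul6, mul7, e1_0, e1_1, e1_2, e1_3, e1_4, e1_5, e1_6, e1_7]

theorem of_L_e1 {z : W 3 F} (h : L z e1 = 0) : z = ∑ i, z (.inr (.inl i)) • ea i := by
  have a0 := congrFun h 0
  have a4 := congrFun h 4
  have a5 := congrFun h 5
  have a6 := congrFun h 6
  simp [L, inc, mul0, mul4, mul5, mul6, e1_0, e1_1, e1_2, e1_3, e1_4, e1_5, e1_6, e1_7] at a0 a4 a5 a6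
  funext j
  rcases j with ⟨⟩ | j | j
  · simp [ea, a0]
  · simp [ea, Finset.sum_apply, Pi.single_apply]
  · fin_cases j <;> simp [ea, a4, a5, a6]

theorem of_ea {w : V F} (h : ∀ i, L (ea i) w = 0) : w = w 0 • e1 := by
  have a0 := congrFun (h 0) 0
  have a1 := congrFun (h 0) 1
  have a5 := congrFun (h 0) 5
  have a6 := congrFun (h 0) 6
  have b0 := congrFun (h 1) 0
  have b6 := congrFun (h 1) 6
  have c0 := congrFun (h 2) 0
  simp [L, inc, ea, mul0, mul1, mul5, mul6] at a0 a1 a5 a6 b0 b6 c0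
  apply ext8 <;> simp [e1_0, e1_1, e1_2, e1_3, e1_4, e1_5, e1_6, e1_7, a0, a1, a5, a6, b0, b6, c0]

theorem e1_ne : (e1 : V F) ≠ 0 := fun h => one_ne_zero (α := F) (congrFun h 0)

theorem witt3 (h2 : (2 : F) ≠ 0) {U : Submodule F (W 3 F)} (hU : Ts U) {b : Fin 3 → U} (hb : LinearIndependent F b) :
    ∃ x : Is 3 F, ∀ i, ap x.1 (ea i) = b i := by
  have h0 : ∀ u w : W 3 F, L u e1 = 0 → L w e1 = 0 → bf u w = 0 := fun u w hu hw => by
    have := L_lin u w e1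
    rw [hu, hw, L_zero, L_zero, add_zero] at this
    exact (smul_eq_zero.1 this.symm).resolve_right e1_ne
  have h1 : ∀ u : W 3 F, L u e1 = 0 → qf u = 0 := fun u hu => by
    have := L_L u e1
    rw [hu, L_zero] at this
    exact (smul_eq_zero.1 this.symm).resolve_right e1_ne
  obtain ⟨g, hg, k⟩ := ClassicalGeometry.WittQuad.extend_family (Q7 F) (Q7_nd h2) 3 ea (fun i => b i)
    ((Pi.linearIndependent_single_one (I 3) F).comp (fun i : Fin 3 => .inr (.inl i))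
      (Sum.inr_injective.comp Sum.inl_injective))
    (hb.map' U.subtype (Submodule.ker_subtype U)) (fun i => (h1 _ (L_ea i)).trans (hU _ (b i).2).symm) fun i j => by
      refine (h0 _ _ (L_ea i) (L_ea j)).trans ?_
      show 0 = qf (b i + b j : W 3 F) - qf (b i : W 3 F) - qf (b j : W 3 F)
      rw [hU _ (U.add_mem (b i).2 (b j).2), hU _ (b i).2, hU _ (b j).2, sub_zero, sub_zero]
  let x : GL (I 3) F := ⟨LinearMap.toMatrix' g.toLinearMap, LinearMap.toMatrix' g.symm.toLinearMap,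
    by rw [← LinearMap.toMatrix'_comp, LinearEquiv.comp_symm, LinearMap.toMatrix'_id],
    by rw [← LinearMap.toMatrix'_comp, LinearEquiv.symm_comp, LinearMap.toMatrix'_id]⟩
  have hx : ∀ v, ap x v = g v := LinearMap.toMatrix'_mulVec g.toLinearMap
  exact ⟨⟨x, mem_Is.2 fun v => by rw [hx]; exact hg v⟩, fun i => (hx _).trans (k i)⟩

theorem LL.ker {l : F} {x : Is 3 F} {y : Perm (V F)} (h : LL l x y) (z : W 3 F) (w : V F) :
    L (ap x.1 z) (y w) = 0 ↔ L z w = 0 := by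
  have h1 := Lf.rel h z w
  constructor
  · intro k
    rw [lin_apply, k, smul_zero] at h1
    exact y.injective (h1.trans (Lf.zero h).symm)
  · intro k
    rw [k, Lf.zero h] at h1
    exact (smul_eq_zero.1 h1.symm).resolve_left (Lf.ne' h)

theorem LL.line {l : F} {x : Is 3 F} {y : Perm (V F)} (h : LL l x y) {w : V F} (hw : ∀ i, L (ap x.1 (ea i)) w = 0) :
    ∃ c : F, w = c • y e1 := by
  obtain ⟨w, rfl⟩ := y.surjective w
  exact ⟨w 0, by rw [of_ea fun i => (h.ker _ _).1 (hw i), Lf.smul h]; simp [e1_0]⟩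

/-- the plane killed by a singular octonion -/
theorem exists_three {e : V F} (h0 : e ≠ 0) (he : nm e = 0) :
    ∃ U : Submodule F (W 3 F), Ts U ∧ 3 ≤ Module.finrank F U ∧ ∀ u ∈ U, L u e = 0 := by
  let f : W 3 F →ₗ[F] V F := ⟨⟨fun z => L z e, fun z u => add_L z u e⟩, fun c z => smul_L c z e⟩
  let B : LinearMap.BilinForm F (V F) := LinearMap.mk₂ F bl bl_add' bl_smul' bl_add bl_smul
  have hn : ∀ z, nm (L z e) = 0 := fun z => by rw [nm_L, he, mul_zero]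
  have h1 : LinearMap.range f ≤ B.orthogonal (LinearMap.range f) := by
    rintro _ ⟨z, rfl⟩ _ ⟨u, rfl⟩
    have h3 := hn (u + z)
    rw [add_L, nm_add, hn, hn, zero_add, zero_add] at h3
    exact h3
  have h3 : LinearMap.ker B = ⊥ := LinearMap.ker_eq_bot'.2 fun w hw => by
    have k : ∀ i, bl w (Pi.single i 1) = 0 := fun i => LinearMap.congr_fun hw _
    have k0 := k 0
    have k1 := k 1
    have k2 := k 2
    have k3 := k 3
    have k4 := k 4
    have k5 := k 5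
    have k6 := k 6
    have k7 := k 7
    simp [bl] at k0 k1 k2 k3 k4 k5 k6 k7
    exact ext8 k7 k4 k5 k6 k1 k2 k3 k0
  have h4 := LinearMap.BilinForm.finrank_add_finrank_orthogonal' (B := B) (LinearMap.range f)
  rw [h3, inf_bot_eq, finrank_bot, Module.finrank_fin_fun] at h4
  have h5 := Submodule.finrank_mono h1
  have h6 := f.finrank_range_add_finrank_ker
  rw [Module.finrank_fintype_fun_eq_card, show Fintype.card (I 3) = 7 from rfl] at h6
  refine ⟨LinearMap.ker f, fun u hu => ?_, by omega, fun u hu => hu⟩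
  have h7 := L_L u e
  rw [show L u e = 0 from hu, L_zero] at h7
  exact (smul_eq_zero.1 h7.symm).resolve_right h0

theorem tra_two [Finite F] (h2 : (2 : F) ≠ 0) {e : V F} (h0 : e ≠ 0) (he : nm e = 0) :
    ∃ x ∈ commutator (Is 3 F), ∃ l y, LL l x y ∧ ∃ c : F, y e1 = c • e := by
  obtain ⟨U, hU, h3, hk⟩ := exists_three h0 he
  obtain ⟨b, hb⟩ := exists_linearIndependent_of_le_finrank h3
  obtain ⟨x, hx⟩ := witt3 h2 hU hb
  obtain ⟨l, y, h⟩ := lift_is h2 x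
  have h1 := pr_symm h0 (h.line fun i => by rw [hx]; exact hk _ (b i).2)
  have key : ∀ (k : Is 3 F) (l' : F) (y' : Perm (V F)), LL l' k y' → (∃ c : F, y' e1 = c • e1) →
      Abelianization.of x = Abelianization.of k →
      ∃ x ∈ commutator (Is 3 F), ∃ l y, LL l x y ∧ ∃ c : F, y e1 = c • e := by
    intro k l' y' h' hc k1
    refine ⟨_, mem_comm k1, _, _, h.mul h'.inv, ?_⟩
    obtain ⟨c, hc⟩ := pr_symm (Lf.ne_zero h' e1_ne) hc
    refine pr_trans h1 ⟨c, ?_⟩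
    rw [Perm.mul_apply]
    conv_lhs => rw [hc, Lf.smul h'.inv, inv_ap, Lf.smul h]
    rfl
  obtain ⟨t, ht⟩ := FiniteField.exists_nonsquare (F := F) fun k => h2 (by
    have := ringChar.Nat.cast_ringChar (R := F)
    rw [k] at this
    exact_mod_cast this)
  have ht0 : t ≠ 0 := by
    rintro rfl
    exact ht IsSquare.zero
  have t0 : tr (![1, 0, 0, 0, 0, 0, 0, -1] : V F) = 0 := by simp [tr]
  have t1 : tr (![0, 1, 0, 0, 1, 0, 0, 0] : V F) = 0 := by simp [tr]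
  have t2 : tr (![0, 1, 0, 0, t, 0, 0, 0] : V F) = 0 := by simp [tr]
  have q0 : qf (cor F ![1, 0, 0, 0, 0, 0, 0, -1]) = 1 := by rw [qf_cor t0]; simp [nm]
  have q1 : qf (cor F ![0, 1, 0, 0, 1, 0, 0, 0]) = 1 := by rw [qf_cor t1]; simp [nm]
  have q2 : qf (cor F ![0, 1, 0, 0, t, 0, 0, 0]) = t := by rw [qf_cor t2]; simp [nm]
  have n0 : qf (cor F ![1, 0, 0, 0, 0, 0, 0, -1]) ≠ 0 := q0.symm ▸ one_ne_zero
  have n1 : qf (cor F ![0, 1, 0, 0, 1, 0, 0, 0]) ≠ 0 := q1.symm ▸ one_ne_zero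
  have n2 : qf (cor F ![0, 1, 0, 0, t, 0, 0, 0]) ≠ 0 := q2.symm ▸ ht0
  have f0 : Lp _ n0 e1 = e1 := by
    rw [Lp_apply, L_cor t0]
    apply ext8 <;> simp [mul0, mul1, mul2, mul3, mul4, mul5, mul6, mul7, e1_0, e1_1, e1_2, e1_3, e1_4, e1_5, e1_6, e1_7]
  have f1 : (Lp _ n1 * Lp _ n2) e1 = t • e1 := by
    rw [Perm.mul_apply, Lp_apply, Lp_apply, L_cor t1, L_cor t2]
    apply ext8 <;> simp [mul0, mul1, mul2, mul3, mul4, mul5, mul6, mul7, e1_0, e1_1, e1_2, e1_3, e1_4, e1_5, e1_6, e1_7]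
  have a01 : Abelianization.of (rf _ n0) = Abelianization.of (rf _ n1) :=
    abelianization_of_reflIso_eq h2 (Q7 F) n0 n1 ⟨1, congrArg₂ (· * ·) q0 q1⟩
  have a00 : rf _ n0 * rf _ n0 = 1 := ClassicalGeometry.Reflection.reflIso_mul_self (Q7 F) _ n0
  rcases abelianization_cases h2 (Q7 F) (Q7_nd h2) one_ne_zero _ _ n0 n2 ⟨1, congrArg (1 * ·) q0⟩
    (fun k => ht ((congrArg IsSquare ((one_mul _).trans q2)).mp k)) (Abelianization.of x) with k | k | k | k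
  · exact key 1 _ _ ll_one ⟨1, (one_smul F _).symm⟩ (k.trans (map_one _).symm)
  · exact key _ _ _ (ll_rf _ n0) ⟨1, by rw [f0, one_smul]⟩ k
  · refine key _ _ _ ((ll_rf _ n0).mul ((ll_rf _ n1).mul (ll_rf _ n2))) ⟨t, ?_⟩ (k.trans ?_)
    · rw [Perm.mul_apply, f1, Lp_apply, L_smul, ← Lp_apply _ n0, f0]
    · rw [map_mul, map_mul, ← a01, ← mul_assoc, ← map_mul, a00, map_one, one_mul]
      rfl
  · refine key _ _ _ ((ll_rf _ n1).mul (ll_rf _ n2)) ⟨t, f1⟩ (k.trans ?_)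
    rw [map_mul, ← a01]
    rfl

theorem exists_base (h2 : (2 : F) ≠ 0) {U : Submodule F (W 3 F)} (hU : Ts U) (h3 : Module.finrank F U = 3) :
    ∃ e : V F, e ≠ 0 ∧ nm e = 0 ∧ (∀ z, z ∈ U ↔ L z e = 0) ∧ ∀ w, (∀ u ∈ U, L u w = 0) → ∃ c : F, w = c • e := by
  let b := Module.finBasisOfFinrankEq F U h3
  obtain ⟨x, hx⟩ := witt3 h2 hU b.linearIndependent
  obtain ⟨l, y, h⟩ := lift_is h2 x
  refine ⟨y e1, Lf.ne_zero h e1_ne, by rw [Lf.nrm h]; simp [nm, e1_0, e1_1, e1_2, e1_3, e1_7], fun z => ⟨fun hz => ?_, fun hz => ?_⟩,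
    fun w hw => h.line fun i => by rw [hx]; exact hw _ (b i).2⟩
  · have h1 := congrArg Subtype.val (b.sum_repr ⟨z, hz⟩)
    have h4 : ∀ i, L (b i : W 3 F) (y e1) = 0 := fun i => by rw [← hx, h.ker, L_ea]
    simp only [Fin.sum_univ_three, Submodule.coe_add, Submodule.coe_smul] at h1
    rw [← h1, add_L, add_L, smul_L, smul_L, smul_L, h4, h4, h4, smul_zero, smul_zero, smul_zero, add_zero, add_zero]
  · rw [← ap_ap_inv x.1 z, h.ker] at hz
    rw [← ap_ap_inv x.1 z, of_L_e1 hz, Fin.sum_univ_three, ap, mulVec_add, mulVec_add, mulVec_smul, mulVec_smul, mulVec_smul]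
    exact U.add_mem (U.add_mem (U.smul_mem _ ((hx 0).symm ▸ (b 0).2 : ap x.1 (ea 0) ∈ U))
      (U.smul_mem _ ((hx 1).symm ▸ (b 1).2 : ap x.1 (ea 1) ∈ U))) (U.smul_mem _ ((hx 2).symm ▸ (b 2).2 : ap x.1 (ea 2) ∈ U))

theorem final_two {σ : F ≃+* F} {l : F} {g : Perm (W 3 F)} {y : Perm (V F)} (a : Lf σ 1 l g y)
    (h : ∀ w, w ≠ 0 ∧ nm w = 0 → ∃ c : F, y w = c • C 1 w) : False := by
  have t4 : tr (![0, 0, 0, 0, 1, 0, 0, 0] : V F) = 0 := by simp [tr]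
  have n4 : (![0, 0, 0, 0, 1, 0, 0, 0] : V F) ≠ 0 := fun k => one_ne_zero (α := F) (congrFun k 4)
  obtain ⟨c, hc⟩ := h e1 ⟨e1_ne, by simp [nm, e1_0, e1_1, e1_2, e1_3, e1_7]⟩
  obtain ⟨d, hd⟩ := h ![0, 0, 0, 0, 1, 0, 0, 0] ⟨n4, by simp [nm]⟩
  have h1 := a.rel (cor F ![0, 0, 0, 0, 1, 0, 0, 0]) e1
  have h3 : zornMul (![0, 0, 0, 0, 1, 0, 0, 0] : V F) e1 = ![0, 0, 0, 0, 1, 0, 0, 0] := by
    apply ext8 <;> simp [mul0, mul1, mul2, mul3, mul4, mul5, mul6, mul7, e1_0, e1_1, e1_2, e1_3, e1_4, e1_5, e1_6, e1_7]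
  rw [L_cor t4, h3, hc, hd, one_smul, L] at h1
  have h4 := congrFun h1 2
  simp only [mul2, Pi.smul_apply, smul_eq_mul, C_apply, CF0, CF1, CF2, CF3, CF4, CF5, CF6, CF7, Matrix.cons_val,
    e1_0, e1_1, e1_2, e1_3, e1_4, e1_5, e1_6, e1_7] at h4
  have h5 : d = 0 := by linear_combination -h4
  exact a.ne_zero n4 (by rw [hd, h5, zero_smul])

theorem boxSpin : BoxSpin := by
  intro F _ _ hF Ω _ _ X H T M S φ a u md
  have h2 : (2 : F) ≠ 0 := fun k => by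
    have h1 : ringChar F = 2 := CharP.ringChar_of_prime_eq_zero Nat.prime_two (by exact_mod_cast k)
    have h3 := FiniteField.even_card_iff_char_two.1 h1
    have h4 := Nat.odd_iff.1 hF
    omega
  have hom : ∀ x ∈ commutator (Is 3 F), ∃ g : M, φ g = lin x.1 := fun x hx => md.surj _ ⟨x, hx, rfl⟩
  refine ⟨fun hst => ?_, fun U hU h3 hst => ?_⟩
  · have d : Dat M a (fun w => nm w ≠ 0 ∧ IsSquare (nm w)) (fun g y => ∃ σ l, IsSquare l ∧ Lf σ 1 l (φ g) y) o := by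
      have hmul : ∀ (g : M) y (g' : M) y', (∃ σ l, IsSquare l ∧ Lf σ 1 l (φ g) y) → (∃ σ l, IsSquare l ∧ Lf σ 1 l (φ g') y') →
          ∃ σ l, IsSquare l ∧ Lf σ 1 l (φ (g * g')) (y * y') := fun g y g' y' ⟨σ, _, h, k⟩ ⟨_, _, h', k'⟩ =>
        ⟨_, _, h.mul (h'.map σ), (k.mul k').of_eq rfl (by rw [map_one, mul_one]) rfl (map_mul φ _ _).symm⟩
      refine ⟨by rw [nm_o]; exact ⟨one_ne_zero, IsSquare.one⟩, fun w hw k => hw.1 (by rw [k]; simp [nm]), fun g => ?_, hmul,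
        fun g y ⟨σ, _, h, k⟩ => ⟨_, _, h.inv.map σ.symm, k.inv.of_eq rfl (by rw [inv_one, map_one]) rfl (map_inv φ _).symm⟩,
        fun g y ⟨σ, _, _, k⟩ c w => ⟨_, k.smul c w⟩, fun g y ⟨σ, _, h, k⟩ w hw => ?_,
        fun g y ⟨σ, _, _, k⟩ w w' h => by rw [k.bl, h, map_zero, mul_zero],
        fun g y ⟨σ, _, _, k⟩ => (hst g).trans (k.cr_iff h2), fun w hw => ?_, fun t w hw => by rwa [C_apply, nm_CF]⟩
      · obtain ⟨t, ht, k⟩ := u.trans a ((g : Perm Ω) a)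
        let s : M := ⟨t, u.socM.le (u.le ht)⟩
        obtain ⟨_, ⟨x, hx, rfl⟩, e⟩ := (md.om s).1 (u.le ht)
        obtain ⟨y, hy⟩ := lift_om h2 hx
        obtain ⟨σ, l, y', hy'⟩ := lift_sem h2 (md.sem (s⁻¹ * g))
        obtain ⟨c, hc⟩ := (hy'.cr_iff h2).1 ((hst _).1 (Perm.inv_eq_iff_eq.2 k.symm))
        have h1 := hy'.nrm o
        rw [hc, nm_smul, nm_o, map_one, mul_one, mul_one] at h1
        have h4 := hmul s y (s⁻¹ * g) y' ⟨_, _, IsSquare.one, (hy.lf hx).of_eq rfl rfl rfl e⟩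
          ⟨σ, l, ⟨c, by rw [← h1, sq]⟩, hy'⟩
        rw [mul_inv_cancel_left] at h4
        exact ⟨_, h4⟩
      · rw [k.nrm]
        exact ⟨mul_ne_zero k.ne ((map_ne_zero σ).2 hw.1), h.mul (hw.2.map σ)⟩
      · obtain ⟨x, hx, l, y, h1, h4, h5⟩ := tra_one h2 hw.1 hw.2
        obtain ⟨g, hg⟩ := hom x hx
        exact ⟨g, y, ⟨_, l, h1, (h4.lf hx).of_eq rfl rfl rfl hg.symm⟩, h5⟩
    have p : ∀ w : V F, nm w = 1 → nm w ≠ 0 ∧ IsSquare (nm w) := fun w hw => by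
      rw [hw]
      exact ⟨one_ne_zero, IsSquare.one⟩
    obtain ⟨g, y, ⟨σ, l, -, k⟩, h⟩ := d.kill u h2 (u₀ := o) (w₁ := ![0, 1, 0, 0, -1, 0, 0, 0]) (w₂ := ![1, 1, 0, 0, 0, 0, 0, 1])
      (p _ nm_o) (p _ (by simp [nm])) (p _ (by simp [nm])) (fun ⟨c, hc⟩ => by simpa [o1] using congrFun hc 1)
      (fun ⟨c, hc⟩ => by simpa [o1] using congrFun hc 1) (by rw [bl_comm, bl_o]; simp [tr])
      (by rw [bl_comm, bl_o]; simpa [tr, one_add_one_eq_two] using h2)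
    exact final_one k h
  · obtain ⟨e, e0, en, eU, eK⟩ := exists_base h2 hU h3
    have d : Dat M a (fun w => w ≠ 0 ∧ nm w = 0) (fun g y => ∃ σ l, Lf σ 1 l (φ g) y) e := by
      refine ⟨⟨e0, en⟩, fun w hw => hw.1, fun g => ?_,
        fun g y g' y' ⟨_, _, k⟩ ⟨_, _, k'⟩ => ⟨_, _, (k.mul k').of_eq rfl (by rw [map_one, mul_one]) rfl (map_mul φ _ _).symm⟩,
        fun g y ⟨σ, _, k⟩ => ⟨_, _, k.inv.of_eq rfl (by rw [inv_one, map_one]) rfl (map_inv φ _).symm⟩,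
        fun g y ⟨σ, _, k⟩ c w => ⟨_, k.smul c w⟩,
        fun g y ⟨σ, _, k⟩ w hw => ⟨k.ne_zero hw.1, by rw [k.nrm, hw.2, map_zero, mul_zero]⟩,
        fun g y ⟨σ, _, k⟩ w w' h => by rw [k.bl, h, map_zero, mul_zero], fun g y ⟨σ, _, k⟩ => ⟨fun h => eK _ fun z hz => ?_, ?_⟩,
        fun w hw => ?_, fun t w hw => ⟨fun k => hw.1 ((C t).injective (k.trans (map_zero _).symm)), by
          rw [C_apply, nm_CF, hw.2]⟩⟩
      · obtain ⟨σ, l, y, h⟩ := lift_sem h2 (md.sem g)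
        exact ⟨y, σ, l, h⟩
      · have h1 := (hst g⁻¹).1 (Perm.inv_eq_iff_eq.2 h.symm) z hz
        have h4 := k.rel (φ g⁻¹ z) e
        rw [(eU _).1 h1, k.zero, one_smul, map_inv, ap_inv] at h4
        exact h4.symm
      · rintro ⟨c, hc⟩
        refine (hst g).2 fun z hz => (eU _).2 ?_
        have h4 := k.rel z e
        rw [(eU _).1 hz, k.zero, one_smul, hc, L_smul] at h4
        refine (smul_eq_zero.1 h4.symm).resolve_left ?_
        rintro rfl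
        exact k.ne_zero e0 (by rw [hc, zero_smul])
      · obtain ⟨x, hx, l, y, h1, h4⟩ := tra_two h2 hw.1 hw.2
        obtain ⟨x', hx', l', y', h1', h4'⟩ := tra_two h2 e0 en
        have hm := (commutator (Is 3 F)).mul_mem hx ((commutator (Is 3 F)).inv_mem hx')
        obtain ⟨g, hg⟩ := hom _ hm
        refine ⟨g, _, ⟨_, _, ((h1.mul h1'.inv).lf hm).of_eq rfl rfl rfl hg.symm⟩, ?_⟩
        obtain ⟨c, hc⟩ := pr_symm (Lf.ne_zero h1' e1_ne) h4'
        refine pr_trans h4 ⟨c, ?_⟩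
        rw [Perm.mul_apply, hc, Lf.smul h1'.inv, inv_ap, Lf.smul h1]
        rfl
    obtain ⟨g, y, ⟨σ, l, k⟩, h⟩ := d.kill u h2 (u₀ := e1) (w₁ := ![0, 0, 0, 0, 1, 0, 0, 0]) (w₂ := ![0, 0, 0, 0, 0, 0, 0, 1])
      ⟨e1_ne, by simp [nm, e1_0, e1_1, e1_2, e1_3, e1_7]⟩ ⟨fun k => one_ne_zero (α := F) (congrFun k 4), by simp [nm]⟩
      ⟨fun k => one_ne_zero (α := F) (congrFun k 7), by simp [nm]⟩ (fun ⟨c, hc⟩ => by simpa [e1_4] using congrFun hc 4)
      (fun ⟨c, hc⟩ => by simpa [e1_7] using congrFun hc 7) (by simp [bl, e1_0, e1_1, e1_2, e1_3, e1_4, e1_5, e1_6, e1_7])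
      (by simp [bl, e1_0, e1_1, e1_2, e1_3, e1_4, e1_5, e1_6, e1_7])
    exact final_two k h

end Cfsg.Agent.SM.Oo.Spin
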