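import Cfsg.Agent.SM.Oo.Main
import Cfsg.Agent.SM.Oo.AFin
import Cfsg.Agent.SM.Oo.Geo
import Cfsg.Agent.SM.Oo.S
import Cfsg.Agent.SM.Oo.Sev
import Cfsg.Agent.SM.Oo.Spin
import Cfsg.Agent.SM.Oo.E4

/-!
# SM (S3570), family `fO` (`S = Ω_{2m+1}(q)`, `q` odd): what remains (helper96)
-/

set_option autoImplicit false

namespace Cfsg.Agent.SM.Oo

/-- **the family `Ω_{2m+1}(q)`** from the box `CS` and the two boxes for `Ω₇(3)` -/
theorem bndO_of (c1 : CS.CS1) (c2 : CS.CS2) (h1 : BoxE1) (h3 : BoxE3) : Bnd fO RO :=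
  bnd_of A.boxA Geo.boxRed Geo.boxGeo S.boxS (boxCS_of c1 c2) (Sev.box7 boxRep Geo.boxRed Geo.boxGeo) Spin.boxSpin h1 h3
    E4.boxE4

end Cfsg.Agent.SM.Oo
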