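import Cfsg.Agent.H870.GE.RepMain

/-!
# SM (S3570), family `fO`: the representations of `G₂(F)` of small dimension, with the map
(helper96; the proofs are those of `H870.GE.exists_x1` and `H870.GE.rep`)
-/

set_option autoImplicit false
set_option linter.unusedSectionVars false
set_option linter.style.haveILetI false

namespace Cfsg.Agent.SM.OoR

open Cfsg Cfsg.Lie Cfsg.Geo Matrix Cfsg.Agent.H161.Oct Cfsg.Agent.H927.G2 Cfsg.Agent.H638 Cfsg.Agent.H905.Md
  Cfsg.Agent.H911 Module Cfsg.Agent.H870.GE Cfsg.Agent.H927.LD Cfsg.Agent.H151.Six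
open Cfsg.Agent.Tits.Roots Cfsg.Agent.Tits.Core Cfsg.Agent.Tits.Exchange Cfsg.Agent.Nodes.Reps Cfsg.Agent.Nodes.BNOf
  Cfsg.Agent.Nodes.StabComb Cfsg.Agent.Nodes.Bruhat Cfsg.Agent.Nodes.OppDec Cfsg.Agent.Nodes.LeviDec Cfsg.Agent.KFacts.RgdOpp
  Cfsg.Agent.Omega.CR Cfsg.Agent.Omega.FOne.Lift.Sd Cfsg.Agent.Nodes.RGDLib Cfsg.Agent.H64.CrossChev Cfsg.Agent.Nodes.RGDChev

variable {F : Type} [Field F] [Finite F] {ι : Type} [Fintype ι] [DecidableEq ι] {P : Subgroup (GL ι F)}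

theorem exists_x1 (p : ℕ) [hp : Fact p.Prime] [CharP F p] (habs : ActsAbsolutelyIrreducibly (matrixSet P))
    (h3 : 3 ≤ Nat.card F) (f : P ≃* GK F) (h2 : 2 ≤ Fintype.card ι) (hn : Fintype.card ι ≤ 12) :
    ∃ f' : P ≃* GK F, (f' = f ∨ ∃ α : GK F ≃* GK F, α (xg 7 1) = xg 6 1 ∧ α (xg 4 1) = xg 5 1 ∧ f' = f.trans α.symm) ∧
      ∃ v : ι → AlgebraicClosure F, v ≠ 0 ∧ ∃ φ : Module.Dual (AlgebraicClosure F) (ι → AlgebraicClosure F),
      φ ≠ 0 ∧ ∃ j : F →+* AlgebraicClosure F, ∀ g, φ (lin (acRep (repf f')) g v) = j (x1 g) := by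
  haveI : Nonempty ι := Fintype.card_pos_iff.1 (by omega)
  have hchar : CharP (AlgebraicClosure F) p := charP_of_injective_algebraMap (algebraMap F _).injective p
  have hirr : ∀ f : P ≃* GK F, ∀ L : Submodule (AlgebraicClosure F) (ι → AlgebraicClosure F),
      Ivt (lin (acRep (repf f))) (GG cs2 hc2 (T2 F) (X2 F)) L → L = ⊥ ∨ L = ⊤ :=
    fun f L hL => acRep_irr (repf_range f) (H920.span_eq_top habs) GG2 L hL
  have hfin : Module.finrank (AlgebraicClosure F) (ι → AlgebraicClosure F) = Fintype.card ι :=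
    Module.finrank_fintype_fun_eq_card _
  have hne : ∀ {v : ι → AlgebraicClosure F} {φ : Module.Dual (AlgebraicClosure F) (ι → AlgebraicClosure F)},
      φ v = 1 → v ≠ 0 ∧ φ ≠ 0 := by
    intro v φ h
    constructor
    · rintro rfl
      rw [map_zero] at h
      exact zero_ne_one h
    · rintro rfl
      exact zero_ne_one h
  obtain ⟨v, hv, φ, hφ, hφv, hT, j, hj⟩ := cases p h3 (hirr f) (by rw [hfin]; exact h2) (by rw [hfin]; exact hn)
  rcases hj with ⟨hj, -⟩ | ⟨hj, rfl, -⟩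
  · exact ⟨f, .inl rfl, v, (hne hφv).1, φ, (hne hφv).2, j, hj⟩
  · obtain ⟨α, hα⟩ := exists_graph (K := F)
    obtain ⟨v', hv', φ', hφ', hφv', hT', j', hj'⟩ := cases 3 h3 (hirr (f.trans α.symm)) (by rw [hfin]; exact h2)
      (by rw [hfin]; exact hn)
    rcases hj' with ⟨hj', -⟩ | ⟨hj', -, -⟩
    · refine ⟨f.trans α.symm, .inr ⟨α, ?_, ?_, rfl⟩, v', (hne hφv').1, φ', (hne hφv').2, j', hj'⟩
      · rw [hα 7 1 (by norm_num), one_pow]; rfl
      · rw [hα 4 1 (by norm_num), one_pow]; rfl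
    · exfalso
      exact not_both h3 (hirr f) hα hv (hne hφv).1 hT hj hv' (hne hφv').1 hT' hj'

/-- **The identification of the representation, with the map.** -/
theorem rep (p : ℕ) [hp : Fact p.Prime] [CharP F p] (habs : ActsAbsolutelyIrreducibly (matrixSet P))
    (h3 : 3 ≤ Nat.card F) (f : P ≃* GK F) (h2 : 2 ≤ Fintype.card ι) (hn : Fintype.card ι ≤ 12) (M : Md ι F) :
    ∃ f' : P ≃* GK F, (f' = f ∨ ∃ α : GK F ≃* GK F, α (xg 7 1) = xg 6 1 ∧ α (xg 4 1) = xg 5 1 ∧ f' = f.trans α.symm) ∧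
      ∃ (θ : GL ι F) (τ : F ≃+* F), ∀ g, (θ : Matrix ι ι F) * (nat M g : Matrix ι ι F).map τ =
        ((f'.symm g : GL ι F) : Matrix ι ι F) * θ := by
  haveI : Nonempty ι := Fintype.card_pos_iff.1 (by omega)
  obtain ⟨f', hf', v, hv, φ, hφ, j, hj⟩ := exists_x1 p habs h3 f h2 hn
  refine ⟨f', hf', ?_⟩
  obtain ⟨τ, hτ⟩ := exists_aut j
  have hirr : ∀ L : Submodule (AlgebraicClosure F) (ι → AlgebraicClosure F),
      (∀ g, ∀ w ∈ L, lin (acRep (repf f')) g w ∈ L) → L = ⊥ ∨ L = ⊤ :=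
    fun L hL => acRep_irr (repf_range f') (H920.span_eq_top habs) (H := ⊤) rfl L fun g _ w hw => hL g w hw
  obtain ⟨T, hT0, hT⟩ := exists_intertwiner (ρ' := lin (natj M j)) hirr hφ hv
    (fun g => (hj g).trans (psj_coef M j g).symm) le_rfl
  set X : Matrix ι ι (AlgebraicClosure F) := LinearMap.toMatrix' T with hX
  have hX0 : X ≠ 0 := by
    intro h0
    apply hT0
    exact LinearMap.toMatrix'.injective (by rw [← hX, h0, map_zero])
  have hXT : ∀ u, X *ᵥ u = T u := fun u => by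
    rw [hX, ← Matrix.toLin'_apply, Matrix.toLin'_toMatrix']
  have hXg : ∀ g, X * ((nat M g : Matrix ι ι F).map τ).map (algebraMap F (AlgebraicClosure F)) =
      (repf f' g : Matrix ι ι F).map (algebraMap F (AlgebraicClosure F)) * X := by
    intro g
    have h1 : ((nat M g : Matrix ι ι F).map τ).map (algebraMap F (AlgebraicClosure F)) = natj M j g := by
      rw [natj_apply]
      ext a b
      rw [Matrix.map_apply, Matrix.map_apply, Matrix.map_apply, hτ]
    rw [h1]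
    refine (Matrix.toLin' : Matrix ι ι (AlgebraicClosure F) ≃ₗ[AlgebraicClosure F] _).injective
      (LinearMap.ext fun u => ?_)
    rw [Matrix.toLin'_apply, Matrix.toLin'_apply, ← Matrix.mulVec_mulVec, ← Matrix.mulVec_mulVec, hXT, hXT]
    have h2 := hT g u
    rw [lin_apply, lin_apply] at h2
    exact h2
  obtain ⟨X0, hX00, hX0g⟩ := descend (fun g => (repf f' g : Matrix ι ι F)) (fun g => (nat M g : Matrix ι ι F).map τ) hX0 hXg
  have htop : LinearMap.range (Matrix.toLin' X0) = ⊤ := by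
    refine (habs.1 _ ?_).resolve_left ?_
    · rintro _ ⟨x, hx, rfl⟩
      rw [SetLike.mem_coe, ← repf_range f'] at hx
      obtain ⟨g, rfl⟩ := hx
      rintro _ ⟨_, ⟨u, rfl⟩, rfl⟩
      refine ⟨((nat M g : Matrix ι ι F).map τ) *ᵥ u, ?_⟩
      rw [Matrix.toLin'_apply, Matrix.toLin'_apply, Matrix.toLin'_apply, Matrix.mulVec_mulVec, Matrix.mulVec_mulVec, hX0g]
    · intro h0
      apply hX00
      rw [LinearMap.range_eq_bot] at h0
      exact (Matrix.toLin' : Matrix ι ι F ≃ₗ[F] _).injective (by rw [h0, map_zero])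
  have hunit : IsUnit X0 := by
    rw [Matrix.isUnit_iff_isUnit_det, isUnit_iff_ne_zero]
    intro hdet
    have h1 : Function.Injective (Matrix.toLin' X0) :=
      LinearMap.injective_iff_surjective.2 (LinearMap.range_eq_top.1 htop)
    obtain ⟨w, hw0, hw⟩ := (Matrix.exists_mulVec_eq_zero_iff (M := X0)).2 hdet
    apply hw0
    apply h1
    rw [Matrix.toLin'_apply, hw, map_zero]
  obtain ⟨θ, hθ⟩ := hunit
  exact ⟨θ, τ, fun g => by rw [hθ]; exact hX0g g⟩

end Cfsg.Agent.SM.OoR
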