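import Cfsg.Agent.H179.G2Uniq

/-!
# SM (S3570), family `fO`: uniqueness of the invariant 3-form for absolutely irreducible groups of determinant one
(helper96; the proofs are those of `H179.G2.PHyp`, with `det = 1` instead of perfect)
-/

set_option autoImplicit false

namespace Cfsg.Agent.SM.Oo.Uq

open QuadraticMap Module Cfsg.Agent.H179.G2

variable {F V : Type*} [Field F] [AddCommGroup V] [Module F V]

/-- an absolutely irreducible group of linear maps of determinant one -/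
structure DHyp (P : Subgroup (V ≃ₗ[F] V)) : Prop where
  det : ∀ g ∈ P, LinearMap.det (g : V →ₗ[F] V) = 1
  irr : ∀ W : Submodule F V, (∀ g ∈ P, ∀ w ∈ W, g w ∈ W) → W = ⊥ ∨ W = ⊤
  schur : ∀ L : V →ₗ[F] V, (∀ g ∈ P, ∀ v, L (g v) = g (L v)) → ∃ c : F, ∀ v, L v = c • v

variable {e : Basis (Fin 7) F V} {f : V →ₗ[F] V →ₗ[F] V →ₗ[F] F} {P : Subgroup (V ≃ₗ[F] V)}

namespace DHyp

theorem rad_zero (hP : DHyp P) (_h : IsAltForm f) (hf0 : f ≠ 0) (hinv : ∀ g ∈ P, InvBy f g) (x : V)
    (hx : f x = 0) : x = 0 := by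
  have hW : ∀ g ∈ P, ∀ w ∈ LinearMap.ker f, g w ∈ LinearMap.ker f := by
    intro g hg w hw
    rw [LinearMap.mem_ker] at hw ⊢
    ext y z
    have := hinv g hg w (g.symm y) (g.symm z)
    rw [g.apply_symm_apply, g.apply_symm_apply, hw] at this
    exact this
  rcases hP.irr _ hW with h1 | h1
  · have : x ∈ LinearMap.ker f := hx
    rw [h1] at this
    exact (Submodule.mem_bot F).1 this
  · exact absurd (LinearMap.ker_eq_top.1 h1) hf0

theorem nice [Finite F] (hP : DHyp P) (h2 : (2 : F) ≠ 0) (h : IsAltForm f) (hf0 : f ≠ 0)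
    (hinv : ∀ g ∈ P, InvBy f g) : Nice e f := by
  refine ⟨h, h2, ?_⟩
  obtain ⟨x0, hx0⟩ := qf_ne (e := e) h h2 (hP.rad_zero h hf0 hinv)
  have hW : ∀ g ∈ P, ∀ w ∈ LinearMap.ker (bb e f), g w ∈ LinearMap.ker (bb e f) := by
    intro g hg w hw
    rw [LinearMap.mem_ker] at hw ⊢
    ext y
    have := bb_inv (e := e) h (hinv g hg) (hP.det g hg) w (g.symm y)
    rw [g.apply_symm_apply, hw] at this
    exact this
  rcases hP.irr _ hW with h1 | h1
  · intro x hx
    have : x ∈ LinearMap.ker (bb e f) := by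
      rw [LinearMap.mem_ker]; ext y; exact hx y
    rw [h1] at this
    exact (Submodule.mem_bot F).1 this
  · exfalso
    have h3 : bb e f = 0 := LinearMap.ker_eq_top.1 h1
    have h4 := bb_self (e := e) (f := f) x0
    rw [h3] at h4
    exact mul_ne_zero h2 hx0 h4.symm

/-- an invariant symmetric form is a multiple of `bb e f` -/
theorem form_eq (hP : DHyp P) (N : Nice e f) (hinv : ∀ g ∈ P, InvBy f g)
    (b : V →ₗ[F] V →ₗ[F] F) (hb : ∀ g ∈ P, ∀ x y, b (g x) (g y) = b x y) :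
    ∃ c : F, ∀ x y, b x y = c * bb e f x y := by
  have : FiniteDimensional F V := e.finiteDimensional_of_finite
  let L : V →ₗ[F] V := (LinearMap.BilinForm.toDual (bb e f) N.nondeg).symm.toLinearMap ∘ₗ b
  have hL : ∀ x y, bb e f (L x) y = b x y := fun x y =>
    LinearMap.BilinForm.apply_toDual_symm_apply (B := bb e f) (hB := N.nondeg) (b x) y
  obtain ⟨c, hc⟩ := hP.schur L (by
    intro g hg v
    apply N.ext
    intro z
    have h1 := bb_inv (e := e) N.alt (hinv g hg) (hP.det g hg) (L v) (g.symm z)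
    have h2 := hb g hg v (g.symm z)
    rw [g.apply_symm_apply] at h1 h2
    rw [hL, h1, hL, h2])
  exact ⟨c, fun x y => by rw [← hL, hc, map_smul]; rfl⟩

/-- the composition identity for every invariant form, relative to one of them -/
theorem comp [Finite F] (hP : DHyp P) (N : Nice e f) (hinv : ∀ g ∈ P, InvBy f g)
    {h : V →ₗ[F] V →ₗ[F] V →ₗ[F] F} (hh : IsAltForm h) (hh0 : h ≠ 0)
    (hhinv : ∀ g ∈ P, InvBy h g) :
    ∃ k : F, k ≠ 0 ∧ ∀ u v y, N.T h u (N.T h v y) + N.T h v (N.T h u y) = k • RR e f u v y := by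
  have Nh : Nice e h := hP.nice N.two hh hh0 hhinv
  obtain ⟨k, hk, hid⟩ := Nh.exists_comp (PHyp.null e h)
  obtain ⟨c, hc⟩ := hP.form_eq N hinv (bb e h) (fun g hg x y => bb_inv hh (hhinv g hg) (hP.det g hg) x y)
  have hc0 : c ≠ 0 := by
    rintro rfl
    have h1 := Nh.nd (e 0) (fun y => by
      have := hc (e 0) y
      rw [zero_mul] at this
      exact this)
    exact e.ne_zero 0 h1
  have hT : ∀ x y, N.T h x y = c • Nh.cr x y := by
    intro x y
    apply N.ext
    intro z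
    rw [N.bb_T, map_smul, LinearMap.smul_apply, smul_eq_mul, ← hc, Nh.bb_cr]
  refine ⟨c ^ 3 * k, mul_ne_zero (pow_ne_zero 3 hc0) hk, fun u v y => ?_⟩
  have h1 := hid u v y
  simp only [hc] at h1
  simp only [hT, map_smul, RR]
  linear_combination (norm := module) (c ^ 2) • h1

/-- **uniqueness of the invariant 3-form** -/
theorem uniq [Finite F] (hP : DHyp P) (h2 : (2 : F) ≠ 0) (e : Basis (Fin 7) F V)
    {f g : V →ₗ[F] V →ₗ[F] V →ₗ[F] F} (hf : IsAltForm f)
    (hf0 : f ≠ 0) (hinv : ∀ a ∈ P, InvBy f a) (hg : IsAltForm g) (hginv : ∀ a ∈ P, InvBy g a) :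
    ∃ c : F, g = c • f := by
  by_contra hc
  push Not at hc
  have N : Nice e f := hP.nice h2 hf hf0 hinv
  obtain ⟨k, n, C⟩ := N.exists_Comp (PHyp.null e f)
  have hg0 : g ≠ 0 := fun h => hc 0 (by rw [h, zero_smul])
  have hinvadd : ∀ (s t : F), ∀ a ∈ P, InvBy (s • f + t • g) a := by
    intro s t a ha x y z
    simp only [LinearMap.add_apply, LinearMap.smul_apply, hinv a ha x y z, hginv a ha x y z]
  have hne : ∀ (s t : F), t ≠ 0 → s • f + t • g ≠ 0 := by
    intro s t ht h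
    apply hc (-(t⁻¹ * s))
    ext x y z
    have h1 := congrArg (fun w : V →ₗ[F] V →ₗ[F] V →ₗ[F] F => w x y z) h
    simp only [LinearMap.add_apply, LinearMap.smul_apply, smul_eq_mul, LinearMap.zero_apply] at h1 ⊢
    field_simp
    linear_combination h1
  have hid : ∀ (s t : F), t ≠ 0 → ∃ k : F, k ≠ 0 ∧ ∀ u v y, N.T (s • f + t • g) u (N.T (s • f + t • g) v y) +
      N.T (s • f + t • g) v (N.T (s • f + t • g) u y) = k • RR e f u v y := fun s t ht =>
    hP.comp N hinv ((hf.smul s).add (hg.smul t)) (hne s t ht) (hinvadd s t)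
  obtain ⟨k1, -, hk1⟩ := hid 1 1 one_ne_zero
  obtain ⟨kg, -, hkg⟩ := hid 0 1 one_ne_zero
  -- the mixed term
  obtain ⟨m, hm⟩ : ∃ m : F, ∀ u v y, N.cr u (N.T g v y) + N.T g u (N.cr v y) + N.cr v (N.T g u y) +
      N.T g v (N.cr u y) = m • RR e f u v y := by
    refine ⟨k1 - k - kg, fun u v y => ?_⟩
    have e1 := hk1 u v y
    have e2 := hkg u v y
    have e3 := C.id u v y
    simp only [N.T_add, N.T_self, zero_smul, zero_add, one_smul, map_add] at e1 e2
    have e3' : N.cr u (N.cr v y) + N.cr v (N.cr u y) = k • RR e f u v y := e3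
    linear_combination (norm := module) e1 - e2 - e3'
  set s : F := -(m / (2 * k)) with hs
  obtain ⟨kh, hkh0, hkh⟩ := hid s 1 one_ne_zero
  refine no_anti C ((hf.smul s).add (hg.smul 1)) hkh0 hkh ?_
  intro y
  have e1 := hm n n y
  have e3 := C.id n n y
  have e3' : N.cr n (N.cr n y) + N.cr n (N.cr n y) = k • RR e f n n y := e3
  have h2k : (2 : F) * k ≠ 0 := mul_ne_zero h2 C.k0
  have hsk : s * (2 * k) = -m := by rw [hs, neg_mul, div_mul_cancel₀ _ h2k]
  apply N.smul_two
  simp only [N.T_add, N.T_smul, N.T_self, one_smul, map_add, map_smul]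
  have e4 : (2 * s) • (N.cr n (N.cr n y) + N.cr n (N.cr n y)) = (-m) • RR e f n n y := by
    rw [e3', smul_smul, ← hsk]; congr 1; ring
  linear_combination (norm := module) e1 + e4

end DHyp

end Cfsg.Agent.SM.Oo.Uq
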