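import Cfsg.Agent.SM.Oo.Witt
import Cfsg.Agent.AutOrth.Final
import Cfsg.Agent.S0785

/-!
# SM (S3570), family `fO`: the model (helper96)

* `det_Is`, `exists_scale` (a similarity is a scalar multiple of an isometry of determinant one), `exists_sem`;
* `eps : Om ≃* POmega`, `exists_md`, `Md.conj`.
-/

set_option autoImplicit false
set_option linter.unusedSectionVars false

namespace Cfsg.Agent.SM.Oo

open Cfsg Cfsg.Geo Matrix Equiv QuadraticMap Module
open Cfsg.Agent.LieClassical.OrthCore Cfsg.Agent.LieClassical.OrthTrans Cfsg.Agent.LieClassical.OrthFinite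
open Cfsg.Agent.LieClassical.OrthForms (oddForm coe_oddForm nondeg_oddForm)
open Cfsg.Agent.ClassicalGeometry.OrthSemi
open Cfsg.Agent.AutOrth.Main (oe pe oe_apply pe_mk)
open scoped MatrixGroups

variable {m : ℕ} {F : Type} [Field F] [Fintype F]

theorem det_Is (h2 : (2 : F) ≠ 0) {g : GL (I m) F} (hg : g ∈ Is m F) :
    (g : Matrix (I m) (I m) F).det = 1 ∨ (g : Matrix (I m) (I m) F).det = -1 :=
  mul_self_eq_one_iff.1 (S0785.det_mul_self_of_isometry (oddForm m F) (nondegenerate h2) _ fun v => by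
    rw [← qf_eq, ← qf_eq]
    exact mem_Is.1 hg v)

/-- the multiplier of a similarity is a square -/
theorem isSquare_mult (hodd : Odd (Fintype.card F)) {g : Perm (W m F)} {c : F} (h : ∀ v, qf v = 1 ↔ qf (g v) = c) :
    IsSquare c := by
  by_contra hc
  have h1 := (boxCnt F m hodd 1).2.1 one_ne_zero IsSquare.one
  have h3 := (boxCnt F m hodd c).2.2 hc
  rw [← Nat.card_congr (g.subtypeEquiv h), h1] at h3
  have h4 : 1 ≤ Fintype.card F ^ m := Nat.one_le_pow _ _ Fintype.card_pos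
  have := Nat.eq_of_mul_eq_mul_left h4 h3
  omega

/-- a similarity is a scalar multiple of an isometry of determinant one -/
theorem exists_scale (hodd : Odd (Fintype.card F)) {a : GL (I m) F} {c : F} (hc : c ≠ 0) (h : ∀ v, qf (ap a v) = c * qf v) :
    ∃ b ∈ Is m F, (b : Matrix (I m) (I m) F).det = 1 ∧ ∃ d : F, d ≠ 0 ∧ ∀ v, ap a v = d • ap b v := by
  obtain ⟨d, hd⟩ := isSquare_mult hodd (g := lin a) (c := c) fun v => by
    rw [lin_apply, h]
    exact ⟨fun e => by rw [e, mul_one], fun e => mul_left_cancel₀ hc (e.trans (mul_one c).symm)⟩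
  have hd0 : d ≠ 0 := fun e => hc (by rw [hd, e, mul_zero])
  let s : GL (I m) F := Units.map (Matrix.scalar (I m) : F →+* Matrix (I m) (I m) F).toMonoidHom (Units.mk0 d⁻¹ (inv_ne_zero hd0))
  have hs : ∀ v, ap s v = d⁻¹ • v := fun v => by
    change (Matrix.scalar (I m) d⁻¹) *ᵥ v = _
    rw [Matrix.scalar_apply, ← Matrix.smul_one_eq_diagonal, Matrix.smul_mulVec, Matrix.one_mulVec]
  have h1 : s * a ∈ Is m F := mem_Is.2 fun v => by
    rw [ap_mul, hs, qf_smul, h, hd]
    field_simp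
  rcases det_Is (two_ne hodd) h1 with e | e
  · exact ⟨s * a, h1, e, d, hd0, fun v => by rw [ap_mul, hs, smul_smul, mul_inv_cancel₀ hd0, one_smul]⟩
  · refine ⟨-1 * (s * a), (Is m F).mul_mem neg_one_mem h1, ?_, -d, neg_ne_zero.2 hd0, fun v => ?_⟩
    · rw [Units.val_mul, det_mul, det_neg_one, e, neg_mul_neg, one_mul]
    · rw [ap_mul, ap_neg_one, ap_mul, hs, smul_neg, neg_smul, neg_neg, smul_smul, mul_inv_cancel₀ hd0, one_smul]

/-- a semisimilarity is a scalar multiple of an element of `Sem` -/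
theorem exists_sem (hodd : Odd (Fintype.card F)) {k : Perm (W m F)} (hk : k ∈ Gam (oddForm m F)) :
    ∃ g ∈ Sem m F, ∃ d : F, d ≠ 0 ∧ ∀ v, k v = d • g v := by
  obtain ⟨σ, c, h⟩ := hk
  let A : W m F ≃ₗ[F] W m F :=
    { toFun := fun v => k (σ.symm ∘ v)
      map_add' := fun u v => by
        rw [← h.add]
        exact congrArg _ (funext fun i => map_add σ.symm _ _)
      map_smul' := fun a v => by
        have : σ.symm ∘ (a • v) = σ.symm a • (σ.symm ∘ v) := funext fun i => map_mul σ.symm _ _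
        rw [this, h.smul, RingEquiv.apply_symm_apply]
        rfl
      invFun := fun v => σ ∘ k.symm v
      left_inv := fun v => by simp only [Equiv.symm_apply_apply, comp_symm]
      right_inv := fun v => by simp only [symm_comp, Equiv.apply_symm_apply] }
  have hA : ∀ v, ap ((glEquiv (I m) F).symm A) v = k (σ.symm ∘ v) := fun v => by
    rw [ap_eq, MulEquiv.apply_symm_apply]
    rfl
  obtain ⟨b, hb, hd, d, hd0, e⟩ := exists_scale hodd h.ne (a := (glEquiv (I m) F).symm A) fun v => by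
    rw [hA, qf_eq, h.form, ← qf_eq, qf_tw, RingEquiv.apply_symm_apply]
  let τ : Perm (W m F) := ⟨fun v => σ ∘ v, fun v => σ.symm ∘ v, symm_comp σ, comp_symm σ⟩
  exact ⟨lin b * τ, ⟨σ, b, hb, hd, fun v => rfl⟩, d, hd0, fun v => by
    rw [← symm_comp σ v, ← hA, e, symm_comp]
    rfl⟩

theorem Sem_le_Gam : Sem m F ≤ Gam (oddForm m F) := fun g hg => by
  obtain ⟨σ, h1, h3, -⟩ := Sem.ex hg
  exact ⟨σ, 1, one_ne_zero, Sem.add hg, h1, fun v => by rw [← qf_eq, ← qf_eq, h3, one_mul]⟩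

theorem Sem.eq_one_of_scalar {g : Perm (W m F)} (hg : g ∈ Sem m F) {c : F} (h : ∀ v, g v = c • v) : g = 1 := by
  obtain ⟨σ, a, ha, hd, e⟩ := id hg
  have h0 : (Pi.single (.inl ()) 1 : W m F) ≠ 0 := fun k => by simpa using congrFun k (.inl ())
  have h1 : ∀ x, σ x = x := fun x => by
    have h3 := h (x • Pi.single (.inl ()) 1)
    have h4 : σ ∘ (x • Pi.single (.inl ()) 1 : W m F) = σ x • (σ ∘ (Pi.single (.inl ()) 1 : W m F)) :=
      funext fun i => map_mul σ _ _
    rw [e, h4, ap_smul, ← e, smul_comm, ← h] at h3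
    exact smul_left_injective F (Sem.ne hg h0) h3
  have h3 : ∀ v : W m F, σ ∘ v = v := fun v => funext fun i => h1 _
  have h4 : a = 1 := Oo.eq_one_of_scalar ha hd fun v => by rw [← h, e, h3]
  exact Perm.ext fun v => by rw [e, h3, h4, ap_one]; rfl

/-- the centraliser of `Ω` in `Sem` is trivial -/
theorem Sem.cen (hG : Good (oddForm m F)) {g : Perm (W m F)} (hg : g ∈ Sem m F)
    (h : ∀ x ∈ Om m F, g * lin x = lin x * g) : g = 1 := by
  obtain ⟨a, -, ha⟩ := exists_scalar_of_conjE hG ⟨g, Sem_le_Gam hg⟩ (MulEquiv.ext fun k => Subtype.ext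
    (LinearEquiv.ext fun v => by
      obtain ⟨x, hx, e⟩ := exists_Om hG k.2
      rw [coe_conjE, conjLin_apply, ← e]
      have h1 := congrArg (fun z : Perm (W m F) => z (g⁻¹ v)) (h x hx)
      simp only [Perm.mul_apply, lin_apply] at h1
      rw [h1, show g (g⁻¹ v) = v from Perm.eq_inv_iff_eq.1 rfl, e]
      rfl))
  exact Sem.eq_one_of_scalar hg ha

/-- `Ω` as a group of linear maps -/
noncomputable def omE (hG : Good (oddForm m F)) : Om m F ≃* E (oddForm m F) :=
  { toFun := fun x => ⟨glEquiv (I m) F x, (mem_Om hG).1 x.2⟩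
    invFun := fun k => ⟨(glEquiv (I m) F).symm k, (mem_Om hG).2 (by rw [MulEquiv.apply_symm_apply]; exact k.2)⟩
    left_inv := fun x => Subtype.ext (MulEquiv.symm_apply_apply _ _)
    right_inv := fun x => Subtype.ext (MulEquiv.apply_symm_apply _ _)
    map_mul' := fun x y => Subtype.ext (map_mul _ _ _) }

theorem center_E (hG : Good (oddForm m F)) : Subgroup.center (E (oddForm m F)) = ⊥ := by
  rw [eq_bot_iff]
  intro z hz
  obtain ⟨x, rfl⟩ := (omE hG).surjective z
  have h1 : lin (x : GL (I m) F) = 1 := Sem.cen hG (Om_le_Sem ⟨x, x.2, rfl⟩) fun y hy => by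
    have h3 := Subgroup.mem_center_iff.1 hz (omE hG ⟨y, hy⟩)
    rw [← map_mul, ← map_mul] at h3
    rw [← map_mul, ← map_mul]
    exact congrArg (fun t : Om m F => lin (t : GL (I m) F)) ((omE hG).injective h3).symm
  rw [show x = 1 from Subtype.ext (lin_injective (h1.trans (map_one _).symm)), map_one]
  exact Subgroup.one_mem _

/-- `Ω` on the vectors and the projective group -/
noncomputable def omP (hG : Good (oddForm m F)) :
    (Om m F).map lin ≃* (E (oddForm m F) ⧸ Subgroup.center (E (oddForm m F))) :=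
  ((Om m F).equivMapOfInjective lin lin_injective).symm.trans ((omE hG).trans
    (MulEquiv.ofBijective (QuotientGroup.mk' _) ⟨by
      rw [← MonoidHom.ker_eq_bot_iff, QuotientGroup.ker_mk', center_E hG], QuotientGroup.mk'_surjective _⟩))

theorem omP_apply (hG : Good (oddForm m F)) {x : GL (I m) F} (hx : x ∈ Om m F) :
    omP hG ⟨lin x, x, hx, rfl⟩ = QuotientGroup.mk (omE hG ⟨x, hx⟩) := by
  have : (⟨lin x, x, hx, rfl⟩ : (Om m F).map lin) = (Om m F).equivMapOfInjective lin lin_injective ⟨x, hx⟩ := rfl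
  rw [this, omP, MulEquiv.trans_apply, MulEquiv.symm_apply_apply]
  rfl

theorem iso_Om (hG : Good (oddForm m F)) : Nonempty (POmega F (quadFormOdd m F) ≃* (Om m F).map lin) := by
  have h1 : Nonempty (POmega F (quadFormOdd m F) ≃* POmega F ⇑(oddForm m F)) := by
    rw [coe_oddForm]
    exact ⟨MulEquiv.refl _⟩
  exact ⟨(h1.some.trans (pe hG)).trans (omP hG).symm⟩

/-- **every automorphism of `Ω` is induced by `Sem`** -/
theorem exists_ind (hodd : Odd (Fintype.card F)) (hm : 3 ≤ m) (α : MulAut ((Om m F).map lin)) :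
    ∃ g ∈ Sem m F, ∀ s : (Om m F).map lin, (α s : Perm (W m F)) = g * s * g⁻¹ := by
  have h2 := two_ne hodd
  have hG : Good (oddForm m F) := good h2 (by omega)
  obtain ⟨k, hk⟩ := AutOrth.Final.surjective_odd hm h2 (MulAut.congr (omP hG) α)
  obtain ⟨g, hg, d, hd, e⟩ := exists_sem hodd k.2
  refine ⟨g, hg, ?_⟩
  rintro ⟨_, x, hx, rfl⟩
  obtain ⟨x', e', hx'⟩ := Sem.conj hg x
  have h1 : conjE (oddForm m F) k (omE hG ⟨x, hx⟩) = omE hG ⟨x', hx' hx⟩ := Subtype.ext (LinearEquiv.ext fun v => by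
    obtain ⟨w, rfl⟩ := k.1.surjective v
    rw [coe_conjE, conjLin_apply', e, e]
    change d • g (glEquiv (I m) F x w) = glEquiv (I m) F x' (d • g w)
    rw [map_smul, ← ap_eq, ← ap_eq, ← lin_apply x', e', Perm.mul_apply, Perm.mul_apply,
      show g⁻¹ (g w) = w from Perm.inv_eq_iff_eq.2 rfl]
    rfl)
  have h3 : omP hG (α ⟨lin x, x, hx, rfl⟩) = omP hG ⟨lin x', x', hx' hx, rfl⟩ := by
    rw [omP_apply hG (hx' hx), ← h1, ← Psi_mk, hk, ← omP_apply hG hx]
    change _ = omP hG (α ((omP hG).symm (omP hG _)))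
    rw [MulEquiv.symm_apply_apply]
  rw [(omP hG).injective h3]
  exact e'

/-- **the model** -/
theorem exists_md (hodd : Odd (Fintype.card F)) (hm : 3 ≤ m) {Γ : Type} [Group Γ] {M S : Subgroup Γ} (h : AS M S)
    (e : S ≃* POmega F (quadFormOdd m F)) : ∃ φ : M →* Perm (W m F), Md M S φ := by
  have hG : Good (oddForm m F) := good (two_ne hodd) (by omega)
  let ε : S ≃* (Om m F).map lin := e.trans (iso_Om hG).some
  have := h.simple
  have hs : AS (Sem m F) ((Om m F).map lin) := ⟨Om_le_Sem, by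
      rintro g hg _ ⟨x, hx, rfl⟩
      obtain ⟨x', e', hx'⟩ := Sem.conj hg x
      exact ⟨x', hx' hx, e'⟩, ε.symm.isSimpleGroup, fun k => h.nab ⟨⟨fun a b => ε.injective (by
        rw [map_mul, map_mul, k.is_comm.comm])⟩⟩, fun g hg k => Sem.cen hG hg fun x hx => k _ ⟨x, hx, rfl⟩⟩
  let A : Sem m F ≃* MulAut ((Om m F).map lin) := MulEquiv.ofBijective hs.aut ⟨hs.aut_injective, fun α => by
    obtain ⟨g, hg, e'⟩ := exists_ind hodd hm α
    exact ⟨⟨g, hg⟩, MulEquiv.ext fun s => Subtype.ext (e' s).symm⟩⟩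
  let φ : M →* Perm (W m F) := (Sem m F).subtype.comp (A.symm.toMonoidHom.comp ((MulAut.congr ε).toMonoidHom.comp h.aut))
  have hinj : Function.Injective φ :=
    Subtype.val_injective.comp (A.symm.injective.comp ((MulAut.congr ε).injective.comp h.aut_injective))
  have hS : ∀ s : S, φ ⟨s, h.le s.2⟩ = ε s := fun s => by
    have h1 : A ⟨ε s, Om_le_Sem (ε s).2⟩ = MulAut.congr ε (h.aut ⟨s, h.le s.2⟩) := MulEquiv.ext fun t => by
      obtain ⟨t, rfl⟩ := ε.surjective t
      change _ = ε (h.aut _ (ε.symm (ε t)))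
      rw [MulEquiv.symm_apply_apply, show h.aut ⟨s, h.le s.2⟩ t = s * t * s⁻¹ from Subtype.ext rfl, map_mul, map_mul,
        map_inv]
      rfl
    change ((A.symm (MulAut.congr ε (h.aut _)) : Sem m F) : Perm (W m F)) = _
    rw [← h1, MulEquiv.symm_apply_apply]
  refine ⟨φ, hinj, fun g => (A.symm _).2, fun g => ⟨fun hg => ?_, fun hg => ?_⟩, fun x hx => ?_⟩
  · rw [show g = ⟨(⟨g, hg⟩ : S), h.le hg⟩ from rfl, hS]
    exact (ε _).2
  · have h1 := hS (ε.symm ⟨_, hg⟩)
    rw [MulEquiv.apply_symm_apply] at h1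
    rw [← hinj h1]
    exact (ε.symm _).2
  · exact ⟨_, (hS (ε.symm ⟨lin x, x, hx, rfl⟩)).trans (by rw [MulEquiv.apply_symm_apply])⟩

/-- the model conjugated by an element of `Sem` -/
def cj {Γ : Type} [Group Γ] {M : Subgroup Γ} (g : Perm (W m F)) (φ : M →* Perm (W m F)) : M →* Perm (W m F) :=
  (MulAut.conj g).toMonoidHom.comp φ

theorem cj_apply {Γ : Type} [Group Γ] {M : Subgroup Γ} (g : Perm (W m F)) (φ : M →* Perm (W m F)) (x : M) :
    cj g φ x = g * φ x * g⁻¹ := rfl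

theorem conj_mem_Om {g s : Perm (W m F)} (hg : g ∈ Sem m F) (hs : s ∈ (Om m F).map lin) :
    g * s * g⁻¹ ∈ (Om m F).map lin := by
  obtain ⟨x, hx, rfl⟩ := hs
  obtain ⟨x', e', hx'⟩ := Sem.conj hg x
  exact ⟨x', hx' hx, e'⟩

theorem Md.conj {Γ : Type} [Group Γ] {M S : Subgroup Γ} {φ : M →* Perm (W m F)} (h : Md M S φ) {g : Perm (W m F)}
    (hg : g ∈ Sem m F) : Md M S (cj g φ) := by
  refine ⟨(MulAut.conj g).injective.comp h.inj, fun x => (Sem m F).mul_mem ((Sem m F).mul_mem hg (h.sem x))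
    ((Sem m F).inv_mem hg), fun x => (h.om x).trans ⟨conj_mem_Om hg, fun k => ?_⟩, fun x hx => ?_⟩
  · have := conj_mem_Om ((Sem m F).inv_mem hg) k
    rwa [cj_apply, show g⁻¹ * (g * φ x * g⁻¹) * g⁻¹⁻¹ = φ x by group] at this
  · obtain ⟨x', e', hx'⟩ := Sem.conj ((Sem m F).inv_mem hg) x
    obtain ⟨y, hy⟩ := h.surj x' (hx' hx)
    exact ⟨y, by rw [cj_apply, hy, e']; group⟩

end Cfsg.Agent.SM.Oo
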