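import Cfsg.Agent.SM.Oo.G2A
import Cfsg.Agent.SM.Oo.G2U
import Cfsg.Agent.SM.Oo.G2R
import Cfsg.Agent.SM.Oo.Mod
import Cfsg.Agent.H870.GE.Seven
import Cfsg.Agent.H179.G2Sym
import Cfsg.Agent.H907.Schur

/-!
# SM (S3570), family `fO`: the normaliser of an irreducible subgroup of `G₂(q)`, `boxRep`, automorphisms of `G₂(q)` (helper96)
-/

set_option autoImplicit false
set_option linter.unusedSectionVars false
set_option linter.unusedSimpArgs false

namespace Cfsg.Agent.SM.Oo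

open Cfsg Cfsg.Geo Matrix Equiv Module Cfsg.Lie Cfsg.Agent.H161.Oct
open Cfsg.Agent.H64.SubG2 (inc cor cor_inc tr_inc inc_cor rhoG)
open Cfsg.Agent.H179.G2 (IsAltForm InvBy tri_pull tri_pull_isAlt)
open Cfsg.Agent.LieClassical.OrthCount (glEquiv)
open Cfsg.Agent.H927.G2 (GK xg a8 a8_4 a8_5 a8_6 a8_7)
open Cfsg.Agent.H870.GE (M7 nat nat_range nat_mulVec B7 B7_eq B7_self B7_iso G7_unit form_scal')
open scoped MatrixGroups

variable {F : Type} [Field F]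

/-- the 3-form -/
def f3 (F : Type) [Field F] : W 3 F →ₗ[F] W 3 F →ₗ[F] W 3 F →ₗ[F] F := (crL F).compr₂ (Geo.BB 3 F)

theorem f3_apply (x y z : W 3 F) : f3 F x y z = bf (cr x y) z := Geo.BB_apply _ _

theorem f3_alt : IsAltForm (f3 F) :=
  ⟨fun x y => by rw [f3_apply, cr_self, bf_comm, bf_zero], fun x y => by rw [f3_apply, bf_cr_right]⟩

theorem f3_ne (h2 : (2 : F) ≠ 0) : f3 F ≠ 0 := fun h => by
  have h1 : f3 F (e0 F) (Pi.single (ja 0) 1) (Pi.single (jb 0) 1) = 0 := by rw [h]; rfl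
  rw [f3_apply] at h1
  simp [bf3, cr0, cr1, cr2, cr3, cr4, cr5, cr6, e0] at h1
  exact h2 h1

theorem f3_G0 {y : GL (I 3) F} (hy : y ∈ G0 F) (u v w : W 3 F) : f3 F (ap y u) (ap y v) (ap y w) = f3 F u v w := by
  rw [f3_apply, f3_apply, ← (mem_G0.1 hy).1, bf_ap (Om_le hy.2)]

theorem tw_tw (σ : F ≃+* F) {m : ℕ} (a : GL (I m) F) : tw σ (tw σ.symm a) = a := ap_ext fun v => by
  obtain ⟨v, rfl⟩ : ∃ v', v = σ ∘ (σ.symm ∘ v') := ⟨v, (comp_symm σ v).symm⟩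
  rw [ap_tw, ap_tw, comp_symm, comp_symm]

variable [Fintype F]

theorem abs_of {Y : Subgroup (GL (I 3) F)} (hi : Irr Y) (hn : ¬ ∀ a ∈ Y, ∀ b ∈ Y, a * b = b * a) :
    ActsAbsolutelyIrreducibly (matrixSet Y) :=
  H907.absIrr_of_nonabelian (r := 7) (by norm_num) (card_I 3) (irr_iff.1 hi) hn

/-- **the 3-form of an absolutely irreducible subgroup of `G₂(q)` is unique** -/
theorem uniq_cr (h2 : (2 : F) ≠ 0) {Y : Subgroup (GL (I 3) F)} (hY : Y ≤ G0 F)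
    (habs : ActsAbsolutelyIrreducibly (matrixSet Y)) {a : GL (I 3) F} (ha : a ∈ Is 3 F)
    (hd : (a : Matrix (I 3) (I 3) F).det = 1) (h : ∀ y ∈ Y, a⁻¹ * y * a ∈ G0 F) : a ∈ G0 F := by
  have hP : Uq.DHyp (Y.map (glEquiv (I 3) F).toMonoidHom) := by
    refine ⟨?_, fun U hU => irr_iff.2 habs.1 U fun x hx u hu => hU _ ⟨x, hx, rfl⟩ u hu, fun L hL => ?_⟩
    · rintro _ ⟨y, hy, rfl⟩
      have h1 : (((glEquiv (I 3) F).toMonoidHom y : W 3 F ≃ₗ[F] W 3 F) : W 3 F →ₗ[F] W 3 F) =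
          Matrix.toLin' (y : Matrix (I 3) (I 3) F) := LinearMap.ext fun v => by rw [Matrix.toLin'_apply]; rfl
      rw [h1, LinearMap.det_toLin', det_Om (hY hy).2]
    · obtain ⟨c, hc⟩ := habs.2 (LinearMap.toMatrix' L) (by
        rintro _ ⟨y, hy, rfl⟩
        refine Matrix.toLin'.injective (LinearMap.ext fun v => ?_)
        simp only [Matrix.toLin'_mul, LinearMap.comp_apply, Matrix.toLin'_toMatrix', Matrix.toLin'_apply]
        exact hL _ ⟨y, hy, rfl⟩ v)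
      refine ⟨c, fun v => ?_⟩
      rw [← Matrix.toLin'_toMatrix' L, hc, Matrix.toLin'_apply, Matrix.smul_mulVec, Matrix.one_mulVec]
  have hai := (Is 3 F).inv_mem ha
  obtain ⟨c, hc⟩ := hP.uniq h2 (Module.finBasisOfFinrankEq F (W 3 F) finrank_W) f3_alt (f3_ne h2)
    (by rintro _ ⟨y, hy, rfl⟩; exact f3_G0 (hY hy))
    (tri_pull_isAlt f3_alt (Matrix.toLin' ((a⁻¹ : GL (I 3) F) : Matrix (I 3) (I 3) F))) (by
      rintro _ ⟨y, hy, rfl⟩ u v w
      have h1 : ∀ x, ap a⁻¹ (ap y x) = ap (a⁻¹ * y * a) (ap a⁻¹ x) := fun x => by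
        rw [← ap_mul, ← ap_mul, mul_inv_cancel_right]
      simp only [H179.G2.tri_pull_apply, Matrix.toLin'_apply]
      show f3 F (ap a⁻¹ (ap y u)) (ap a⁻¹ (ap y v)) (ap a⁻¹ (ap y w)) = _
      rw [h1, h1, h1, f3_G0 (h y hy)])
  have h1 : ∀ u v, cr (ap a⁻¹ u) (ap a⁻¹ v) = c • ap a⁻¹ (cr u v) := fun u v => by
    refine sub_eq_zero.1 (bf_nondeg h2 fun w => ?_)
    have h3 := congrArg (fun g : W 3 F →ₗ[F] W 3 F →ₗ[F] W 3 F →ₗ[F] F => g u v (ap a w)) hc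
    simp only [H179.G2.tri_pull_apply, Matrix.toLin'_apply, LinearMap.smul_apply, smul_eq_mul, f3_apply] at h3
    have h4 : bf (cr (ap a⁻¹ u) (ap a⁻¹ v)) (ap a⁻¹ (ap a w)) = c * bf (cr u v) (ap a w) := h3
    rw [ap_inv_ap] at h4
    rw [sub_eq_add_neg, ← neg_smul, bf_add', bf_smul', h4, ← bf_ap ha (ap a⁻¹ (cr u v)), ap_ap_inv]
    ring
  have h3 : c * c = 1 := by
    have h4 := congrArg qf (h1 (Pi.single (ja 0) 1) (Pi.single (jb 0) 1))
    rw [qf_smul, qf_cr, mem_Is.1 hai, mem_Is.1 hai, mem_Is.1 hai, bf_ap hai, qf_cr] at h4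
    simp [bf3, qf3] at h4
    linear_combination -h4
  rcases mul_self_eq_one_iff.1 h3 with rfl | rfl
  · refine (G0 F).inv_mem_iff.1 (mem_G0_of h2 hai (lin_mem_CrG.2 fun u v => ?_))
    rw [h1, one_smul]
  · exfalso
    have h4 : -1 * a⁻¹ ∈ G0 F := mem_G0_of h2 ((Is 3 F).mul_mem neg_one_mem hai) (lin_mem_CrG.2 fun u v => by
      rw [ap_mul, ap_mul, ap_mul, ap_neg_one, ap_neg_one, ap_neg_one, cr_neg_neg, h1, neg_one_smul])
    have h5 := det_Om h4.2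
    have h6 : (a : Matrix (I 3) (I 3) F).det * ((a⁻¹ : GL (I 3) F) : Matrix (I 3) (I 3) F).det = 1 := by
      rw [← Matrix.det_mul, ← Units.val_mul, mul_inv_cancel, Units.val_one, Matrix.det_one]
    rw [hd, one_mul] at h6
    rw [Units.val_mul, Matrix.det_mul, det_neg_one, h6] at h5
    exact h2 (by linear_combination -h5)

/-- **the normaliser keeps the cross product** -/
theorem Nz.le_CrG (h2 : (2 : F) ≠ 0) {N : Subgroup (Perm (W 3 F))} {Y : Subgroup (GL (I 3) F)} (h : Nz N Y) (hY : Y ≤ G0 F)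
    (habs : ActsAbsolutelyIrreducibly (matrixSet Y)) : N ≤ CrG F := fun g hg => by
  obtain ⟨σ, a, ha, hd, e⟩ := h.sem hg
  have h1 : a ∈ G0 F := uniq_cr h2 hY habs ha hd fun y hy => by
    obtain ⟨y', hy', e'⟩ := h.conj g⁻¹ (N.inv_mem hg) y hy
    have h3 : a⁻¹ * y * a = tw σ y' := ap_ext fun v => by
      rw [← comp_symm σ v, ap_tw, ap_mul, ap_mul, ← e, ← lin_apply y', e', inv_inv, Perm.mul_apply, Perm.mul_apply,
        lin_apply]
      conv_lhs => rw [← g.apply_symm_apply (ap y _), e, ap_inv_ap]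
      rfl
    rw [h3]
    exact tw_G0 σ (hY hy')
  refine mem_CrG.2 fun u v => ?_
  rw [e, e, e, ← cr_tw, (mem_G0.1 h1).1]

theorem P0_eq (h2 : (2 : F) ≠ 0) : (M7 h2).P0 = G0 F := by
  have h1 : ∀ (f : V F ≃ₗ[F] V F) (hf : f ∈ AutO F), (M7 h2).rhoG ⟨f, H870.GE.AutO_le_TO hf⟩ = rhoG ⟨f, hf⟩ := fun f hf =>
    ap_ext fun v => ((M7 h2).rhoG_mulVec _ v).trans (ap_rhoG ⟨f, hf⟩ v).symm
  rw [G0_eq h2]
  ext a
  rw [(M7 h2).mem_P0]
  constructor
  · rintro ⟨f, hf, rfl⟩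
    exact ⟨⟨f, hf⟩, (h1 f hf).symm⟩
  · rintro ⟨⟨f, hf⟩, rfl⟩
    exact ⟨f, hf, h1 f hf⟩

theorem nat_mem (h2 : (2 : F) ≠ 0) (g : GK F) : nat (M7 h2) g ∈ G0 F := by
  rw [← P0_eq h2, ← nat_range]
  exact ⟨g, rfl⟩

theorem gk_iso (h2 : (2 : F) ≠ 0) : ∃ n : GK F ≃* G0 F, ∀ g, (n g : GL (I 3) F) = nat (M7 h2) g := by
  obtain ⟨e⟩ := G0_iso h2
  obtain ⟨e2⟩ := H638.G2Iso.equiv (F := F)
  have : Finite (G0 F) := inferInstance
  have : Finite (GK F) := Finite.of_equiv _ (e.trans e2).toEquiv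
  refine ⟨MulEquiv.ofBijective ((nat (M7 h2)).codRestrict (G0 F) (nat_mem h2))
    ((Nat.bijective_iff_surjective_and_card _).2 ⟨fun y => ?_, (Nat.card_congr (e.trans e2).toEquiv).symm⟩), fun _ => rfl⟩
  obtain ⟨y, hy⟩ := y
  have hy' := hy
  rw [← P0_eq h2, ← nat_range] at hy'
  obtain ⟨g, rfl⟩ := hy'
  exact ⟨g, rfl⟩

theorem three_le (hodd : Odd (Fintype.card F)) : 3 ≤ Fintype.card F := by
  have := Fintype.one_lt_card (α := F)
  rw [Nat.odd_iff] at hodd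
  omega

/-- the representation with the map, in the orthogonal group -/
theorem rep7 (hodd : Odd (Fintype.card F)) {P : Subgroup (GL (I 3) F)} (hP : P ≤ Is 3 F)
    (habs : ActsAbsolutelyIrreducibly (matrixSet P)) (f : P ≃* GK F) :
    ∃ f' : P ≃* GK F, (f' = f ∨ ∃ α : GK F ≃* GK F, α (xg 7 1) = xg 6 1 ∧ α (xg 4 1) = xg 5 1 ∧ f' = f.trans α.symm) ∧
      ∃ b ∈ Is 3 F, (b : Matrix (I 3) (I 3) F).det = 1 ∧ ∃ τ : F ≃+* F, ∀ g,
        (f'.symm g : GL (I 3) F) = b * tw τ (nat (M7 (two_ne hodd)) g) * b⁻¹ := by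
  have h2 := two_ne hodd
  obtain ⟨p, hp⟩ := CharP.exists F
  have : Fact p.Prime := ⟨CharP.char_is_prime F p⟩
  obtain ⟨f', hf', θ, τ, e⟩ := OoR.rep p habs (by rw [Nat.card_eq_fintype_card]; exact three_le hodd) f
    (by rw [card_I]; norm_num) (by rw [card_I]; norm_num) (M7 h2)
  refine ⟨f', hf', ?_⟩
  have e1 : ∀ g, θ * tw τ (nat (M7 h2) g) = (f'.symm g : GL (I 3) F) * θ := fun g => Units.ext (e g)
  have hP' : P = (G0 F).map (MulAut.conj θ).toMonoidHom := by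
    ext x
    constructor
    · intro hx
      refine ⟨tw τ (nat (M7 h2) (f' ⟨x, hx⟩)), tw_G0 τ (nat_mem h2 _), ?_⟩
      show θ * _ * θ⁻¹ = x
      rw [e1, MulEquiv.symm_apply_apply, mul_inv_cancel_right]
    · rintro ⟨y, hy, rfl⟩
      have h3 := tw_G0 τ.symm hy
      rw [← P0_eq h2, ← nat_range] at h3
      obtain ⟨g, hg⟩ := h3
      show θ * y * θ⁻¹ ∈ P
      rw [← tw_tw τ y, ← hg, e1, mul_inv_cancel_right]
      exact (f'.symm g).2
  obtain ⟨κ, hκ, h1⟩ := form_scal' (f := B7) (G7_unit h2) hP' habs.2 B7_eq (fun h hh => B7_iso (Om_le hh.2))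
    (fun h hh => B7_iso (hP hh))
  obtain ⟨b, hb, hd, d, hd0, e2⟩ := exists_scale hodd (a := θ) hκ fun v => by
    have h4 := h1 v v
    rw [B7_self, B7_self] at h4
    exact mul_left_cancel₀ h2 (h4.trans (by ring))
  refine ⟨b, hb, hd, τ, fun g => ?_⟩
  rw [eq_mul_inv_iff_mul_eq]
  refine ap_ext fun v => smul_right_injective _ hd0 ?_
  show d • _ = d • _
  rw [ap_mul, ap_mul, ← ap_smul, ← e2, ← e2, ← ap_mul, ← ap_mul, e1]

theorem nc_G0 (h2 : (2 : F) ≠ 0) : ¬ ∀ a ∈ G0 F, ∀ b ∈ G0 F, a * b = b * a := fun h => by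
  obtain ⟨e⟩ := G0_iso h2
  have h1 := H179.G2.g2_perfect (F := F) h2
  have := H179.G2.g2_simple (F := F) h2
  have h3 : commutator (Cfsg.Lie.G2 F) = ⊥ := by
    rw [commutator_def, Subgroup.commutator_eq_bot_iff_le_centralizer]
    intro a _
    rw [Subgroup.mem_centralizer_iff]
    intro b _
    apply e.symm.injective
    rw [map_mul, map_mul]
    exact Subtype.ext (h _ (e.symm b).2 _ (e.symm a).2)
  exact bot_ne_top (h3.symm.trans h1)

theorem abs_G0 (hodd : Odd (Fintype.card F)) : ActsAbsolutelyIrreducibly (matrixSet (G0 F)) :=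
  abs_of (irr_G0 hodd) (nc_G0 (two_ne hodd))

/-- **the groups `G₂(q)` of the residual class** -/
theorem boxRep : BoxRep := fun F _ _ hodd K P hK h ⟨e⟩ => by
  have h2 := two_ne hodd
  have hPO : P ≤ Om 3 F := h.le.trans hK
  have h0 : (scalars (I 3) F).subgroupOf P = ⊥ := by
    rw [eq_bot_iff]
    intro x hx
    exact Subgroup.mem_bot.2 (Subtype.ext (scalars_inf (hPO x.2) hx))
  obtain ⟨e2⟩ := H638.G2Iso.equiv (F := F)
  obtain ⟨f', -, b, hb, hd, τ, e1⟩ := rep7 hodd (hPO.trans Om_le) h.absIrred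
    (((QuotientGroup.quotientMulEquivOfEq h0).trans QuotientGroup.quotientBot).symm.trans (e.trans e2))
  refine ⟨b, hb, hd, fun k hk => ?_⟩
  have hk' := hK hk
  have hbi := (Is 3 F).inv_mem hb
  have h1 : b⁻¹ * k * b ∈ Om 3 F := by simpa using conj_Om hbi hk'
  refine uniq_cr h2 le_rfl (abs_G0 hodd) (Om_le h1) (det_Om h1) fun y hy => ?_
  have h3 := tw_G0 τ.symm hy
  rw [← P0_eq h2, ← nat_range] at h3
  obtain ⟨g, hg⟩ := h3
  have h4 := h.normal k⁻¹ (K.inv_mem hk) _ (f'.symm g).2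
  have h5 := e1 (f' ⟨_, h4⟩)
  rw [MulEquiv.symm_apply_apply] at h5
  have h6 : (b⁻¹ * k * b)⁻¹ * y * (b⁻¹ * k * b) = tw τ (nat (M7 h2) (f' ⟨_, h4⟩)) := by
    have h7 : k⁻¹ * (b * y * b⁻¹) * k⁻¹⁻¹ = b * tw τ (nat (M7 h2) (f' ⟨_, h4⟩)) * b⁻¹ := by
      rw [← h5, ← tw_tw τ y, ← hg, ← e1]
    calc _ = b⁻¹ * (k⁻¹ * (b * y * b⁻¹) * k⁻¹⁻¹) * b := by group
      _ = _ := by rw [h7]; group
  rw [h6]
  exact tw_G0 τ (nat_mem h2 _)

theorem ap_nat (h2 : (2 : F) ≠ 0) (g : GK F) (v : W 3 F) : ap (nat (M7 h2) g) v = cor F (a8 F g (inc F v)) :=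
  nat_mulVec (M7 h2) g v

theorem long_fix (h2 : (2 : F) ≠ 0) (c : F) : ∃ v : W 3 F, v ≠ 0 ∧ qf v = c ∧ ap (nat (M7 h2) (xg 6 1)) v = v ∧
    ap (nat (M7 h2) (xg 5 1)) v = v := by
  refine ⟨Pi.single (ja 2) 1 + Pi.single (jb 2) c, fun h => ?_, by simp [qf3], ?_, ?_⟩
  · have := congrFun h (ja 2)
    simp at this
  · rw [ap_nat, a8_6]
    apply ext7 <;> simp [cor0, cor1, cor2, cor3, cor4, cor5, cor6, inc0, inc1, inc2, inc3, inc4, inc5, inc6, inc7]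
  · rw [ap_nat, a8_5]
    apply ext7 <;> simp [cor0, cor1, cor2, cor3, cor4, cor5, cor6, inc0, inc1, inc2, inc3, inc4, inc5, inc6, inc7]

theorem short_no (h2 : (2 : F) ≠ 0) {v : W 3 F} {a b : F} (ha : ap (nat (M7 h2) (xg 7 1)) v = a • v)
    (hb : ap (nat (M7 h2) (xg 4 1)) v = b • v) : v = 0 := by
  rw [ap_nat, a8_7] at ha
  rw [ap_nat, a8_4] at hb
  have a0 := congrFun ha j0
  have a1 := congrFun ha (ja 0)
  have a2 := congrFun ha (ja 1)
  have a3 := congrFun ha (ja 2)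
  have a4 := congrFun ha (jb 0)
  have a5 := congrFun ha (jb 1)
  have a6 := congrFun ha (jb 2)
  have b0 := congrFun hb j0
  have b1 := congrFun hb (ja 0)
  have b2 := congrFun hb (ja 1)
  have b3 := congrFun hb (ja 2)
  have b4 := congrFun hb (jb 0)
  have b5 := congrFun hb (jb 1)
  have b6 := congrFun hb (jb 2)
  simp only [cor0, cor1, cor2, cor3, cor4, cor5, cor6, inc0, inc1, inc2, inc3, inc4, inc5, inc6, inc7, Pi.smul_apply,
    smul_eq_mul, Matrix.cons_val_zero, Matrix.cons_val_one, Matrix.cons_val, one_mul, one_pow] at a0 a1 a2 a3 a4 a5 a6 b0 b1 b2 b3 b4 b5 b6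
  have z : ∀ {c w : F}, c ≠ 1 → w = c * w → w = 0 := fun {c w} hc hw =>
    (mul_eq_zero.1 (show (1 - c) * w = 0 by linear_combination hw)).resolve_left fun h => hc (by linear_combination -h)
  by_cases h1 : a = 1
  · subst h1
    have v4 : v (jb 0) = 0 := by linear_combination a0
    have v3 : v (ja 2) = 0 := by linear_combination a5
    have v2 : v (ja 1) = 0 := by linear_combination -a6
    have v0 : v j0 = 0 := (mul_eq_zero.1 (show 2 * v j0 = 0 by linear_combination -a1 - v4)).resolve_left h2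
    exact ext7 v0 (by show _ = 0; linear_combination -b0 + (1 - b) * v0) v2 v3 v4
      (by show _ = 0; linear_combination b3 - (1 - b) * v3) (by show _ = 0; linear_combination -b2 + (1 - b) * v2)
  · have v2 := z h1 a2
    have v3 := z h1 a3
    have v4 := z h1 a4
    have v0 := z h1 (w := v j0) (by linear_combination a0 - v4)
    exact ext7 v0 (z h1 (by linear_combination a1 + 2 * v0 + v4)) v2 v3 v4 (z h1 (by linear_combination a5 - v3))
      (z h1 (by linear_combination a6 + v2))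

/-- **the automorphisms of `G₂(q)`**: semilinear, or they move a pair of long root elements to a pair without common eigenvector -/
theorem aut_G0 (hodd : Odd (Fintype.card F)) (β : G0 F ≃* G0 F) :
    (∃ g ∈ Sem 3 F, ∀ y : G0 F, lin (β y : GL (I 3) F) = g * lin (y : GL (I 3) F) * g⁻¹) ∨
    ∃ x₁ x₂ : G0 F, (∀ c : F, ∃ v : W 3 F, v ≠ 0 ∧ qf v = c ∧ ap x₁ v = v ∧ ap x₂ v = v) ∧
      ∀ (v : W 3 F) (a b : F), ap (β x₁) v = a • v → ap (β x₂) v = b • v → v = 0 := by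
  have h2 := two_ne hodd
  obtain ⟨n, hn⟩ := gk_iso h2
  obtain ⟨f', hf', b, hb, hd, τ, e⟩ := rep7 hodd (G0_le.trans Om_le) (abs_G0 hodd) (n.trans β).symm
  let g : Perm (W 3 F) := lin b * ⟨fun v => τ ∘ v, fun v => τ.symm ∘ v, symm_comp τ, comp_symm τ⟩
  have hg : ∀ v, g v = ap b (τ ∘ v) := fun _ => rfl
  have key : ∀ (x : GK F) (v : W 3 F), ap (f'.symm x) (g v) = g (ap (nat (M7 h2) x) v) := fun x v => by
    rw [e, hg, hg, ap_mul, ap_mul, ap_inv_ap, ap_tw]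
  rcases hf' with rfl | ⟨α, h7, h4, rfl⟩
  · refine .inl ⟨g, ⟨τ, b, hb, hd, hg⟩, fun y => ?_⟩
    obtain ⟨x, rfl⟩ := n.surjective y
    rw [eq_mul_inv_iff_mul_eq]
    refine Equiv.ext fun v => ?_
    rw [Perm.mul_apply, Perm.mul_apply, lin_apply, lin_apply, hn]
    exact key x v
  · refine .inr ⟨n (xg 6 1), n (xg 5 1), fun c => by rw [hn, hn]; exact long_fix h2 c, fun v a c ha hc => ?_⟩
    obtain ⟨w, rfl⟩ := g.surjective v
    obtain ⟨σ, hσ, -⟩ := Sem.ex (show g ∈ Sem 3 F from ⟨τ, b, hb, hd, hg⟩)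
    have k7 : ap (β (n (xg 6 1))) (g w) = g (ap (nat (M7 h2) (xg 7 1)) w) := by rw [← h7]; exact key _ w
    have k4 : ap (β (n (xg 5 1))) (g w) = g (ap (nat (M7 h2) (xg 4 1)) w) := by rw [← h4]; exact key _ w
    rw [k7, ← σ.apply_symm_apply a, ← hσ] at ha
    rw [k4, ← σ.apply_symm_apply c, ← hσ] at hc
    rw [short_no h2 (g.injective ha) (g.injective hc)]
    exact Sem.zero ⟨τ, b, hb, hd, hg⟩

end Cfsg.Agent.SM.Oo
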