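import Cfsg.Agent.SM.Oo.Red
import Cfsg.Agent.H922.OddTensor
import Cfsg.Agent.H880.Tensor

/-!
# SM (S3570), family `fO`: decompositions and tensor structures are not transitive on the minus points (helper43)

An invariant set of vectors with a minus vector has at least `q^m (q^m - 1)` elements.
-/

set_option autoImplicit false
set_option linter.unusedSectionVars false
set_option maxHeartbeats 400000

namespace Cfsg.Agent.SM.Oo.Geo

open Cfsg Cfsg.Geo Matrix Module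
open scoped MatrixGroups

variable {m : ℕ} {F : Type} [Field F] [Fintype F]

/-- the counting argument -/
theorem kill_range (hodd : Odd (Fintype.card F)) {K : Subgroup (GL (I m) F)} (h : TrM K) {T : Type} [Finite T]
    (ψ : T → W m F) (h1 : ∀ y ∈ K, ∀ s, ∃ s', ap y (ψ s) = ψ s') (h2 : ∀ s, ∃ s', -ψ s = ψ s') {s : T}
    (h3 : ¬ IsSquare (qf (ψ s))) : Fintype.card F ^ m * (Fintype.card F ^ m - 1) ≤ Nat.card T := by
  rw [← (boxCnt F m hodd _).2.2 h3]
  have h4 : ∀ w : {v : W m F // qf v = qf (ψ s)}, ∃ s', ψ s' = w.1 := fun w =>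
    trm_sub h (S := Set.range ψ) (by
      rintro y hy _ ⟨a, rfl⟩
      obtain ⟨b, e⟩ := h1 y hy a
      exact ⟨b, e.symm⟩) (by
      rintro _ ⟨a, rfl⟩
      obtain ⟨b, e⟩ := h2 a
      exact ⟨b, e.symm⟩) ⟨s, rfl⟩ h3 w.2
  choose f hf using h4
  exact Nat.card_le_card_of_injective f fun a b e => Subtype.ext (by rw [← hf a, ← hf b, e])

theorem three_le (hodd : Odd (Fintype.card F)) : 3 ≤ Fintype.card F := by
  have h1 : 1 < Fintype.card F := Fintype.one_lt_card
  obtain ⟨k, hk⟩ := hodd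
  omega

theorem lin_lt {m : ℕ} (hm : 3 ≤ m) : (2 * m + 1) ^ 2 + 3 < 3 * 3 ^ m := by
  induction m, hm using Nat.le_induction with
  | base => norm_num
  | succ n hn ih => rw [pow_succ 3 n]; nlinarith

theorem num1 {q m t k : ℕ} (hq : 3 ≤ q) (hm : 3 ≤ m) (ht : t ≤ 2 * m + 1) (hk : k ≤ m) :
    t * q ^ k < q ^ m * (q ^ m - 1) := by
  have h1 := lin_lt hm
  have h2 : 3 ^ m ≤ q ^ m := Nat.pow_le_pow_left hq m
  have h3 : q ^ k ≤ q ^ m := Nat.pow_le_pow_right (by omega) hk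
  have h4 : t < q ^ m - 1 := by
    have : 3 * (2 * m + 1) ≤ (2 * m + 1) ^ 2 := by nlinarith
    omega
  have h5 : 0 < q ^ m := Nat.pow_pos (by omega)
  calc t * q ^ k ≤ t * q ^ m := Nat.mul_le_mul_left _ h3
    _ < (q ^ m - 1) * q ^ m := Nat.mul_lt_mul_of_pos_right h4 h5
    _ = _ := mul_comm _ _

theorem num2 {q m : ℕ} (hq : 3 ≤ q) (hm : 3 ≤ m) : (2 * m + 1) ^ 2 * q ^ 2 < q ^ m * (q ^ m - 1) := by
  have h1 := lin_lt hm
  have h2 : 3 ^ m ≤ q ^ m := Nat.pow_le_pow_left hq m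
  have h3 : q ^ 3 ≤ q ^ m := Nat.pow_le_pow_right (by omega) hm
  have h4 : (2 * m + 1) ^ 2 < 3 * (q ^ m - 1) := by omega
  have h5 : 0 < q ^ 2 := Nat.pow_pos (by omega)
  have h6 : 3 * q ^ 2 ≤ q ^ m := le_trans (by rw [pow_succ q 2, mul_comm]; exact Nat.mul_le_mul_left _ hq) h3
  calc (2 * m + 1) ^ 2 * q ^ 2 < 3 * (q ^ m - 1) * q ^ 2 := Nat.mul_lt_mul_of_pos_right h4 h5
    _ = 3 * q ^ 2 * (q ^ m - 1) := by ring
    _ ≤ _ := Nat.mul_le_mul_right _ h6

theorem num3 {q m n : ℕ} (hq : 3 ≤ q) (hn : n + 2 ≤ 2 * m + 1) : q ^ n < q ^ m * (q ^ m - 1) := by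
  obtain ⟨l, rfl⟩ : ∃ l, m = l + 1 := ⟨m - 1, by omega⟩
  have h1 : 0 < q ^ l := Nat.pow_pos (by omega)
  have h2 : q ^ l < q ^ (l + 1) - 1 := by
    have : q ^ l * 3 ≤ q ^ (l + 1) := by rw [pow_succ]; exact Nat.mul_le_mul_left _ hq
    omega
  calc q ^ n ≤ q ^ (l + 1 + l) := Nat.pow_le_pow_right (by omega) (by omega)
    _ = q ^ (l + 1) * q ^ l := pow_add _ _ _
    _ < _ := Nat.mul_lt_mul_of_pos_left h2 (Nat.pow_pos (by omega))

theorem num4 {k t : ℕ} (hk : 3 ≤ k) (ht : 2 ≤ t) : k * t + 2 ≤ k ^ t := by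
  induction t, ht using Nat.le_induction with
  | base => nlinarith
  | succ n hn ih =>
    have h1 : k ^ n * 3 ≤ k ^ (n + 1) := by rw [pow_succ]; exact Nat.mul_le_mul_left _ hk
    have h2 : k * 2 ≤ k * n := Nat.mul_le_mul_left _ hn
    rw [mul_add]
    omega

/-! ### decompositions -/

theorem card_sub {U : Submodule F (W m F)} : Nat.card U = Fintype.card F ^ finrank F U := by
  rw [Module.natCard_eq_pow_finrank (K := F), Nat.card_eq_fintype_card]

theorem aniso {U : Submodule F (W m F)} (hU : IsNondegenerateOn bf U) (h0 : 0 < finrank F U) : ∃ u ∈ U, qf u ≠ 0 := by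
  obtain ⟨w, hw, hw0⟩ := (Submodule.ne_bot_iff U).1 fun e => by rw [e, finrank_bot] at h0; omega
  obtain ⟨x, hx, e⟩ := (hU w hw hw0).1
  by_contra hc
  exact e (Ts.bf (fun u hu => by_contra fun e => hc ⟨u, hu, e⟩) hx hw)

theorem dec_map {t : ℕ} {D : Fin t → Submodule F (W m F)} {y : GL (I m) F} (hy : y ∈ decompositionStabilizer D) :
    ∃ σ : Fin t → Fin t, ∀ l, ∀ v ∈ D l, ap y v ∈ D (σ l) := by
  obtain ⟨σ, hσ⟩ := hy
  exact ⟨σ, fun l v hv => hσ l ▸ ⟨v, hv, Matrix.toLin'_apply _ _⟩⟩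

theorem kill2 (hodd : Odd (Fintype.card F)) (hm : 3 ≤ m) {K : Subgroup (GL (I m) F)} (h : TrM K) {t k : ℕ}
    {D : Fin t → Submodule F (W m F)} (hD : IsNondegenerateMDecomposition bf k D) (hK : K ≤ decompositionStabilizer D) :
    False := by
  have h1 := H922.mul_eq_card hD.decomp
  rw [card_I] at h1
  have ht := hD.decomp.two_le
  have hk := hD.decomp.pos
  have hq := three_le hodd
  let a : Fin t := ⟨0, by omega⟩
  let b : Fin t := ⟨1, by omega⟩
  by_cases hk1 : k = 1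
  · subst hk1
    obtain ⟨u, hu, hu0⟩ := aniso (hD.nondegenerate a) (by rw [hD.decomp.finrank_eq]; omega)
    obtain ⟨w, hw, hw0⟩ := aniso (hD.nondegenerate b) (by rw [hD.decomp.finrank_eq]; omega)
    obtain ⟨v, hv⟩ := exists_minus (F := F) (m := m) hodd (by omega)
    obtain ⟨x, y, e⟩ := two_repr hodd hu0 hw0 (qf v)
    have h3 : bf u w = 0 := hD.orthogonal a b (by simp [a, b]) u hu w hw
    have h4 := kill_range hodd h (T := Σ p : Fin t × Fin t, D p.1 × D p.2) (fun s => s.2.1.1 + s.2.2.1)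
      (fun y hy s => by
        obtain ⟨σ, hσ⟩ := dec_map (hK hy)
        exact ⟨⟨(σ s.1.1, σ s.1.2), ⟨_, hσ _ _ s.2.1.2⟩, ⟨_, hσ _ _ s.2.2.2⟩⟩, ap_add _ _ _⟩)
      (fun s => ⟨⟨s.1, -s.2.1, -s.2.2⟩, neg_add _ _⟩)
      (s := ⟨(a, b), ⟨x • u, (D a).smul_mem _ hu⟩, ⟨y • w, (D b).smul_mem _ hw⟩⟩) (by
        have : qf (x • u + y • w) = qf v := by
          rw [qf_add, qf_smul, qf_smul, bf_smul, bf_smul', h3, ← e]
          ring
        exact this ▸ hv)
    rw [Nat.card_sigma] at h4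
    simp only [Nat.card_prod, card_sub, hD.decomp.finrank_eq, Finset.sum_const, Finset.card_univ, Fintype.card_prod,
      Fintype.card_fin, smul_eq_mul] at h4
    have h5 := num2 hq hm
    rw [← h1] at h5
    nlinarith
  · obtain ⟨u, hu, hu0⟩ := univ_minus hodd (by omega) (U := D a) (fun w hw h0 => (hD.nondegenerate a w hw h0).1)
      (by rw [hD.decomp.finrank_eq]; omega)
    have h4 := kill_range hodd h (T := Σ l : Fin t, D l) (fun s => s.2.1)
      (fun y hy s => by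
        obtain ⟨σ, hσ⟩ := dec_map (hK hy)
        exact ⟨⟨σ s.1, _, hσ _ _ s.2.2⟩, rfl⟩)
      (fun s => ⟨⟨s.1, -s.2⟩, rfl⟩) (s := ⟨a, u, hu⟩) hu0
    rw [Nat.card_sigma] at h4
    simp only [card_sub, hD.decomp.finrank_eq, Finset.sum_const, Finset.card_univ, Fintype.card_fin, smul_eq_mul] at h4
    have h5 := num1 (t := t) (k := k) hq hm (by nlinarith) (by
      have : 2 * k ≤ t * k := Nat.mul_le_mul_right _ ht
      omega)
    omega

/-! ### tensor products -/

theorem sym_aniso (h2 : (2 : F) ≠ 0) {n : ℕ} (hn : 0 < n) {f : (Fin n → F) → (Fin n → F) → F} (hf : IsSymmetricForm f) :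
    ∃ y, f y y ≠ 0 := by
  by_contra hc
  have h1 : ∀ y, f y y = 0 := fun y => by_contra fun e => hc ⟨y, e⟩
  obtain ⟨x, hx⟩ := (hf.nondegenerate (Pi.single ⟨0, hn⟩ 1) fun e => by simpa using congrFun e ⟨0, hn⟩).1
  have h3 := h1 (x + Pi.single ⟨0, hn⟩ 1)
  rw [hf.bilinear.add_left, hf.bilinear.add_right, hf.bilinear.add_right, h1, h1, hf.symm _ x] at h3
  exact mul_ne_zero h2 hx (by linear_combination h3)

theorem minus_of_lin (hodd : Odd (Fintype.card F)) (hm : 1 ≤ m) {n : ℕ} (hn : 2 ≤ n) {f : (Fin n → F) → (Fin n → F) → F}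
    (hf : IsSymmetricForm f) (φ : (Fin n → F) →ₗ[F] W m F) {d : F} (hd : d ≠ 0) (h : ∀ x y, bf (φ x) (φ y) = d * f x y) :
    ∃ x, ¬ IsSquare (qf (φ x)) := by
  have h1 : ∀ x, x ≠ 0 → ∃ y, bf (φ y) (φ x) ≠ 0 := fun x hx =>
    let ⟨y, hy⟩ := (hf.nondegenerate x hx).1
    ⟨y, h y x ▸ mul_ne_zero hd hy⟩
  have h3 : Function.Injective φ := (injective_iff_map_eq_zero φ).2 fun x hx => by_contra fun e => by
    obtain ⟨y, hy⟩ := h1 x e
    exact hy (by rw [hx, bf_zero])
  obtain ⟨_, ⟨x, rfl⟩, hx⟩ := univ_minus hodd hm (U := LinearMap.range φ) (by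
    rintro _ ⟨x, rfl⟩ hx
    obtain ⟨y, hy⟩ := h1 x fun e => hx (by rw [e, map_zero])
    exact ⟨_, ⟨y, rfl⟩, hy⟩) (by rw [LinearMap.finrank_range_of_inj h3, Module.finrank_fin_fun]; exact hn)
  exact ⟨x, hx⟩

theorem kill4 (hodd : Odd (Fintype.card F)) (hm : 3 ≤ m) {K : Subgroup (GL (I m) F)} (h : TrM K) {n₁ n₂ : ℕ}
    {e : I m ≃ Fin n₁ × Fin n₂} {P : GL (I m) F} {f₁ : (Fin n₁ → F) → (Fin n₁ → F) → F}
    {f₂ : (Fin n₂ → F) → (Fin n₂ → F) → F} (h1 : 3 ≤ n₁) (h2 : 3 ≤ n₂) (hf₁ : IsSymmetricForm f₁) (hf₂ : IsSymmetricForm f₂)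
    (hT : IsTensorFormStructure id bf f₁ f₂ e P) (hK : K ≤ tensorProductSubgroup n₁ n₂ e P) : False := by
  obtain ⟨c, hc0, hc⟩ := hT
  obtain ⟨y, hy⟩ := sym_aniso (two_ne hodd) (by omega) hf₂
  let φ : (Fin n₁ → F) →ₗ[F] W m F :=
    { toFun := fun x => H880.Phi e P (vecMulVec x y)
      map_add' := fun a b => by rw [add_vecMulVec, map_add]
      map_smul' := fun a b => by rw [smul_vecMulVec, map_smul, RingHom.id_apply] }
  obtain ⟨x, hx⟩ := minus_of_lin hodd (by omega) (by omega) hf₁ φ (mul_ne_zero hc0 hy) fun a b => by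
    rw [show bf (φ a) (φ b) = _ from H880.form_rankone hf₁.bilinear hf₂.bilinear e P hc a b y y]
    ring
  have h4 := kill_range hodd h (T := (Fin n₁ → F) × (Fin n₂ → F)) (fun s => H880.Phi e P (vecMulVec s.1 s.2))
    (fun g hg s => by
      obtain ⟨a, b, hab⟩ := (H880.mem_tensorProductSubgroup_iff e P g).1 (hK hg)
      exact ⟨(_, _), by rw [ap, hab, mul_vecMulVec, vecMulVec_mul]⟩)
    (fun s => ⟨(-s.1, s.2), by rw [neg_vecMulVec, map_neg]⟩) (s := (x, y)) hx
  have h5 := Fintype.card_congr e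
  rw [card_I, Fintype.card_prod, Fintype.card_fin, Fintype.card_fin] at h5
  rw [Nat.card_eq_fintype_card, Fintype.card_prod, Fintype.card_fun, Fintype.card_fun, Fintype.card_fin, Fintype.card_fin,
    ← pow_add] at h4
  have h6 := num3 (m := m) (n := n₁ + n₂) (three_le hodd) (by nlinarith)
  omega

theorem kill7 (hodd : Odd (Fintype.card F)) (hm : 3 ≤ m) {K : Subgroup (GL (I m) F)} (h : TrM K) {k t : ℕ}
    {e : I m ≃ (Fin t → Fin k)} {P : GL (I m) F} {f₁ : (Fin k → F) → (Fin k → F) → F} (h1 : 3 ≤ k) (h2 : 2 ≤ t)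
    (hf₁ : IsSymmetricForm f₁) (hT : IsTensorPowerFormStructure id bf f₁ e P) (hK : K ≤ tensorWreathSubgroup k t e P) :
    False := by
  obtain ⟨c, hc0, hc⟩ := hT
  obtain ⟨y, hy⟩ := sym_aniso (two_ne hodd) (by omega) hf₁
  let a : Fin t := ⟨0, by omega⟩
  let ψ : (Fin t → Fin k → F) → W m F := fun s => ap P (H922.pureVec s ∘ e)
  have hψ : ∀ s s', bf (ψ s) (ψ s') = c * ∏ i, f₁ (s i) (s' i) := fun s s' => by
    rw [show bf (ψ s) (ψ s') = _ from H922.tensorPower_eq hc rfl _ _, H922.pureMat_mulVec, H922.dot_pureVec]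
    simp only [← H922.eq_gram hf₁.bilinear]
  have hu : ∀ (s : Fin t → Fin k → F) (x : Fin k → F), H922.pureVec (Function.update s a x) =
      fun j => x (j a) * ∏ i ∈ Finset.univ.erase a, s i (j i) := fun s x => funext fun j => by
    rw [H922.pureVec, ← Finset.mul_prod_erase _ _ (Finset.mem_univ a), Function.update_self]
    exact congrArg _ (Finset.prod_congr rfl fun i hi => by rw [Function.update_of_ne (Finset.ne_of_mem_erase hi)])
  have hsm : ∀ (s : Fin t → Fin k → F) (d : F) (x : Fin k → F),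
      ψ (Function.update s a (d • x)) = d • ψ (Function.update s a x) := fun s d x => by
    simp only [ψ, hu, ← ap_smul]
    exact congrArg _ (funext fun i => by simp [mul_assoc])
  let φ : (Fin k → F) →ₗ[F] W m F :=
    { toFun := fun x => ψ (Function.update (fun _ => y) a x)
      map_add' := fun u v => by
        simp only [ψ, hu, ← ap_add]
        exact congrArg _ (funext fun i => by simp [add_mul])
      map_smul' := fun d x => hsm _ d x }
  obtain ⟨x, hx⟩ := minus_of_lin hodd (by omega) (by omega) hf₁ φ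
    (mul_ne_zero hc0 (Finset.prod_ne_zero_iff.2 fun (_ : Fin t) (_ : _ ∈ Finset.univ.erase a) => hy)) fun u v => by
    rw [show bf (φ u) (φ v) = _ from hψ _ _, ← Finset.mul_prod_erase _ _ (Finset.mem_univ a), Function.update_self,
      Function.update_self, Finset.prod_congr rfl fun i hi => by
        rw [Function.update_of_ne (Finset.ne_of_mem_erase hi), Function.update_of_ne (Finset.ne_of_mem_erase hi)]]
    ring
  have h4 := kill_range hodd h ψ
    (fun g hg s => by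
      obtain ⟨g', hg', rfl⟩ := (H919.mem_tensorWreathSubgroup_iff e P g).1 (hK hg)
      obtain ⟨σ, z, rfl⟩ := H922.exists_normal_form hg'
      refine ⟨fun i => (z i : Matrix (Fin k) (Fin k) F) *ᵥ s (σ⁻¹ i), (H922.frameGL_mulVec e P _ _).trans ?_⟩
      rw [Units.val_mul, ← mulVec_mulVec, H922.facPerm_mulVec]
      exact congrArg (fun w => ap P (w ∘ e)) (H922.pureMat_mulVec _ _))
    (fun s => ⟨Function.update s a ((-1 : F) • s a), by rw [hsm, Function.update_eq_self, neg_one_smul]⟩)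
    (s := Function.update (fun _ => y) a x) hx
  have h5 := Fintype.card_congr e
  rw [card_I, Fintype.card_fun, Fintype.card_fin, Fintype.card_fin] at h5
  rw [Nat.card_eq_fintype_card, Fintype.card_fun, Fintype.card_fun, Fintype.card_fin, Fintype.card_fin, ← pow_mul] at h4
  have h6 := num3 (m := m) (n := k * t) (three_le hodd) (h5 ▸ num4 h1 h2)
  omega

end Cfsg.Agent.SM.Oo.Geo
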