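import Cfsg.Agent.SM.Oo.Par
import Cfsg.Agent.SM.Oo.E4C
import Cfsg.Agent.SM.Ex78.Base
import Cfsg.Agent.ClassicalGeometry.OmegaIndex
import Cfsg.Agent.H251.GeoCard
import Cfsg.Agent.H781.Cov9.Perm
import Cfsg.Agent.Lib.Zsigmondy
import Cfsg.Agent.S0286
import Cfsg.Agent.S5814
import Cfsg.Agent.S5815

/-!
# SM (S3570), family `fO`: the irreducible partners of `G₂(q)` in `Ω₇(q)` (helper16)
-/

set_option autoImplicit false
set_option linter.unusedSectionVars false

namespace Cfsg.Agent.SM.Oo.Gi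

open Cfsg Cfsg.Geo Matrix Equiv
open Cfsg.Agent.LieClassical.OrthForms (oddForm coe_oddForm)
open Cfsg.Agent.Lib.Zsigmondy (exists_primitive)
open scoped MatrixGroups

variable {F : Type} [Field F] [Fintype F]

theorem card_Om (hodd : Odd (Fintype.card F)) : 2 * Nat.card (Om 3 F) =
    Fintype.card F ^ 6 * ((Fintype.card F ^ 6 - 1) * (Fintype.card F ^ 2 - 1)) *
      (Fintype.card F ^ 3 * (Fintype.card F ^ 4 - 1)) := by
  have h0 : (Omega F (quadFormOdd 3 F)).index = 4 := by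
    rw [← coe_oddForm]
    exact ClassicalGeometry.OmegaIndex.index_Omega (two_ne hodd) (by rw [card_I]; norm_num) _ (nondegenerate (two_ne hodd))
  have h1 := (Omega F (quadFormOdd 3 F)).index_mul_card
  rw [h0, S0286.result rfl hodd 3] at h1
  have h2 : Nat.card (Om 3 F) = Nat.card (Omega F (quadFormOdd 3 F)) :=
    Subgroup.card_map_of_injective (Subgroup.subtype_injective _)
  rw [Finset.prod_range_succ, Finset.prod_range_succ, Finset.prod_range_succ, Finset.prod_range_zero] at h1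
  refine Nat.eq_of_mul_eq_mul_left (by norm_num : 0 < 2) ?_
  rw [h2, ← mul_assoc, show 2 * 2 = 4 from rfl, h1]
  norm_num
  ring

/-- the order of the partner -/
theorem dvd_of_pd (hodd : Odd (Fintype.card F))
    (hc : Nat.card (G0 F) = Fintype.card F ^ 6 * ((Fintype.card F ^ 6 - 1) * (Fintype.card F ^ 2 - 1)))
    {Y : Subgroup (GL (I 3) F)} (h : Pd (G0 F) Y) : Fintype.card F ^ 3 * (Fintype.card F ^ 4 - 1) ∣ 2 * Nat.card Y := by
  have h3 : Ex78.Pd ((G0 F).subgroupOf (Om 3 F)) (Y.subgroupOf (Om 3 F)) := by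
    intro g
    obtain ⟨x, hx, y, hy, e⟩ := h.mul g g.2
    exact ⟨⟨x, h.left.le hx⟩, hx, ⟨y, h.right.le hy⟩, hy, Subtype.ext e⟩
  have h4 := h3.card
  rw [Nat.card_congr (Subgroup.subgroupOfEquivOfLe h.left.le).toEquiv,
    Nat.card_congr (Subgroup.subgroupOfEquivOfLe h.right.le).toEquiv] at h4
  have h5 := card_Om hodd
  rw [← hc] at h5
  generalize Nat.card ↥((G0 F).subgroupOf (Om 3 F) ⊓ Y.subgroupOf (Om 3 F)) = c at h4
  refine ⟨c, Nat.eq_of_mul_eq_mul_left (Nat.card_pos (α := G0 F)) ?_⟩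
  rw [← mul_assoc (Nat.card (G0 F)) _ c, ← h5, mul_assoc 2, h4]
  ring

/-- monomial groups -/
theorem not_frame {D : Fin 7 → Submodule F (W 3 F)} (hD : IsOrthogonalMDecomposition (quadFormOdd 3 F) 1 D)
    {K : Subgroup (GL (I 3) F)} (h1 : K ≤ decompositionStabilizer D) (h2 : K ≤ Om 3 F) {p : ℕ} (hp : p.Prime) (ho : Odd p) :
    ¬ p ^ 3 ∣ Nat.card K := fun h => by
  have := Fact.mk hp
  obtain ⟨P, hP⟩ := Sylow.exists_subgroup_card_pow_prime p h
  obtain ⟨ψ, hψ⟩ := H781.Cov9.exists_permHom hD.decomp.decomp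
  rw [← coe_oddForm] at hD
  have h3 : Function.Injective (ψ.comp ((Subgroup.inclusion h1).comp P.subtype)) := by
    rw [injective_iff_map_eq_one]
    intro g hg
    have h4 : ((g : K) : GL (I 3) F) ^ 2 = 1 := H781.Cov9.sq_eq_one_of_lines hD (Is_eq (m := 3) (F := F) ▸ Om_le (h2 g.1.2))
      fun i => (hψ ⟨_, h1 g.1.2⟩ i).trans (congrArg D (congrArg (fun σ : Perm (Fin 7) => σ i) hg))
    have h5 : g ^ p ^ 3 = 1 := by rw [← hP]; exact pow_card_eq_one'
    exact H781.Cov9.eq_one_of_sq (ho.pow (n := 3)) h5 (Subtype.ext (Subtype.ext h4))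
  have h4 := Subgroup.card_dvd_of_injective _ h3
  rw [hP, Nat.card_perm, Nat.card_fin, show Nat.factorial 7 = 5040 by decide] at h4
  have h5 : p ≤ 17 := by
    by_contra k
    have h6 := Nat.le_of_dvd (by norm_num) h4
    have h7 := Nat.pow_le_pow_left (show 18 ≤ p by omega) 3
    omega
  obtain ⟨c, rfl⟩ := ho
  have h6 := hp.two_le
  have h7 : c ≤ 8 := by omega
  have h8 : 1 ≤ c := by omega
  interval_cases c <;> omega

/-- **the irreducible partners of `G₂(q)`** -/
theorem boxGi (hR : BoxRep) (F : Type) [Field F] [Fintype F] (hodd : Odd (Fintype.card F))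
    (hc : Nat.card (G0 F) = Fintype.card F ^ 6 * ((Fintype.card F ^ 6 - 1) * (Fintype.card F ^ 2 - 1)))
    (Y : Subgroup (GL (I 3) F)) (h : Pd (G0 F) Y) (hi : Irr Y) : Fintype.card F = 3 ∧ Sm Y := by
  obtain ⟨K, hK, hle⟩ := exists_maximalIn h.right
  have hd := (dvd_of_pd hodd hc h).trans (Nat.mul_dvd_mul_left 2 (Subgroup.card_dvd_of_le hle))
  have hq : 2 ≤ Fintype.card F := Fintype.one_lt_card
  have h3 : Fintype.card F ^ 3 ∣ Nat.card K :=
    (Nat.coprime_two_right.2 hodd.pow).dvd_of_dvd_mul_left ((Dvd.intro _ rfl).trans hd)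
  have h4 : ∀ s e : ℕ, s.Prime → 2 ≤ e → e ∣ s - 1 → s ∣ Fintype.card F ^ 4 - 1 → s ∣ Nat.card K := fun s e hs he k1 k2 => by
    refine (Nat.coprime_two_right.2 (hs.odd_of_ne_two ?_)).dvd_of_dvd_mul_left (k2.trans ((Dvd.intro_left _ rfl).trans hd))
    rintro rfl
    have := Nat.le_of_dvd (by norm_num) k1
    omega
  have red : ∀ U : Submodule F (W 3 F), K ≤ subspaceStabilizer U → U = ⊥ ∨ U = ⊤ := fun U k =>
    hi U fun x hx u hu => (k (hle hx) u).1 hu
  rcases S5814.result hodd K hK with ⟨U, h0, ht, e⟩ | ⟨U, h0, hev, -, -, e⟩ | ⟨hp, D, hD, e⟩ | ⟨F₀, r, P, hr, hF, -, e⟩ | hres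
  · exact absurd ((red U (e.le.trans inf_le_left)).resolve_left h0) (Ts.ne_top ht)
  · rw [(red U (e.le.trans inf_le_left)).resolve_left h0, finrank_top, finrank_W] at hev
    exact absurd hev (by decide)
  · exact absurd h3 (not_frame hD (e.le.trans inf_le_left) hK.1.le hp hodd)
  · exfalso
    have h5 : 2 ≤ Nat.card F₀ := Finite.one_lt_card
    have h6 := hr.two_le
    obtain ⟨s, hs, k1, k2, k3⟩ := exists_primitive (n := r * 4) h5 (by omega) (fun k => by omega) (fun k => by omega)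
    have h7 := h4 s _ hs (by omega) k2 (by rw [hF, ← pow_mul, k1])
    rcases H251.GeoCard.subfield hs (by
      rw [Nat.card_eq_fintype_card, hF]
      exact fun k => k3 (hs.dvd_of_dvd_pow k)) (h7.trans (Subgroup.card_dvd_of_le (e.le.trans inf_le_left))) with k | ⟨i, i1, i2, k⟩
    · rw [Nat.card_eq_fintype_card, hF, k1] at k
      have := Nat.le_of_dvd (by omega) k
      omega
    · rw [k1] at k
      rw [card_I] at i2
      have := Nat.le_of_dvd (by omega) k
      omega
  · obtain ⟨P, hP, ⟨e, k⟩ | ⟨⟨e⟩, k⟩ | e⟩ := S5815.result hodd K hK hres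
    · exact ⟨k, K, P, hK, hle, hP, Or.inl e⟩
    · refine ⟨?_, K, P, hK, hle, hP, Or.inr ⟨e⟩⟩
      rw [E4.card_sp (E4.core_as hK.1.le hP) ((E4.qe hK.1.le hP).symm.trans e)] at h3
      generalize Fintype.card F = q at h3 k hodd
      have h5 : q ∣ 2 ^ 9 * 3 ^ 4 * 5 * 7 := (dvd_pow_self q (by norm_num)).trans h3
      rcases k.dvd_mul.1 h5 with h5 | h5
      · rcases k.dvd_mul.1 h5 with h5 | h5
        · rcases k.dvd_mul.1 h5 with h5 | h5
          · rw [(Nat.prime_dvd_prime_iff_eq k Nat.prime_two).1 (k.dvd_of_dvd_pow h5)] at hodd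
            exact absurd hodd (by decide)
          · exact (Nat.prime_dvd_prime_iff_eq k Nat.prime_three).1 (k.dvd_of_dvd_pow h5)
        · rw [(Nat.prime_dvd_prime_iff_eq k Nat.prime_five).1 h5] at h3
          exact absurd h3 (by norm_num)
      · rw [(Nat.prime_dvd_prime_iff_eq k Nat.prime_seven).1 h5] at h3
        exact absurd h3 (by norm_num)
    · exfalso
      obtain ⟨θ, -, -, hθ⟩ := hR F hodd K P hK.1.le hP e
      obtain ⟨s, hs, k1, k2, k3⟩ := exists_primitive (n := 4) hq (by omega) (fun k => by omega) (fun k => by omega)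
      have h7 := (h4 s _ hs (by omega) k2 ((k1 4).2 dvd_rfl)).trans (Subgroup.card_dvd_of_injective
        (((MulAut.conj θ⁻¹).toMonoidHom.comp K.subtype).codRestrict (G0 F) fun y => by simpa using hθ y y.2)
        fun a b k => Subtype.ext ((MulAut.conj θ⁻¹).injective (congrArg Subtype.val k)))
      rw [hc] at h7
      rcases hs.dvd_mul.1 h7 with k | k
      · exact k3 (hs.dvd_of_dvd_pow k)
      · rcases hs.dvd_mul.1 k with k | k <;> rw [k1] at k <;> omega

end Cfsg.Agent.SM.Oo.Gi
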