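import Cfsg.Agent.SM.Oo.Par
import Cfsg.Agent.SM.Oo.A
import Cfsg.Agent.SM.Oo.G2A
import Cfsg.Agent.H884.ElRows

/-!
# SM (S3570), family `fO`: the reducible partners of `G₂(q)` in `Ω₇(q)` fix a point (helper95)

* `exists_perp`, `li_of`, `exists_basis`, `witt` : orthogonal families;
* `small` : the canonical subspace; `plane`, `three` : it is not a non-degenerate plane or 3-space;
* **`boxGr`**.
-/

set_option autoImplicit false
set_option linter.unusedSectionVars false

namespace Cfsg.Agent.SM.Oo.Gr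

open Cfsg Cfsg.Geo Matrix Equiv Module
open Cfsg.Agent.H884.El (PP Iso lin_ne_one lin_iso exists_pp)
open Cfsg.Agent.H951 (fx cm)
open Cfsg.Agent.LieClassical.OrthForms (oddForm)
open scoped MatrixGroups

variable {F : Type} [Field F] [Fintype F]

/-- an orthogonal family of non-singular vectors -/
structure Ort {k : ℕ} (a : Fin k → W 3 F) : Prop where
  ne : ∀ i, qf (a i) ≠ 0
  ort : ∀ i j, i ≠ j → bf (a i) (a j) = 0

section ort

variable {k : ℕ} {a : Fin k → W 3 F}

theorem Ort.coef (h : Ort a) (c : Fin k → F) (i : Fin k) : bf (a i) (∑ j, c j • a j) = c i * (2 * qf (a i)) := by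
  have h1 : bf (a i) (∑ j, c j • a j) = ∑ j, c j * bf (a i) (a j) := by
    rw [← Geo.BB_apply, map_sum]
    exact Finset.sum_congr rfl fun j _ => by rw [Geo.BB_apply, bf_smul]
  rw [h1, Finset.sum_eq_single i (fun j _ hj => by rw [h.ort i j hj.symm, mul_zero]) (by simp), bf_self]

theorem Ort.li (h2 : (2 : F) ≠ 0) (h : Ort a) : LinearIndependent F a := by
  rw [Fintype.linearIndependent_iff]
  intro c hc i
  have h1 := h.coef c i
  rw [hc, bf_zero] at h1
  exact (mul_eq_zero.1 h1.symm).resolve_right (mul_ne_zero h2 (h.ne i))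

theorem Ort.exists_perp (hodd : Odd (Fintype.card F)) (h : Ort a) (hk : k ≤ 5) (c : F) :
    ∃ z, (∀ i, bf (a i) z = 0) ∧ qf z = c := by
  have h2 := two_ne hodd
  have h1 := Geo.finrank_pp h2 (Submodule.span F (Set.range a))
  rw [finrank_span_eq_card (h.li h2), Fintype.card_fin] at h1
  obtain ⟨z, hz, e⟩ := Geo.univ hodd (U := Geo.pp (Submodule.span F (Set.range a))) (fun w hw h0 => by
    by_contra h3
    push Not at h3
    have h4 : w ∈ Submodule.span F (Set.range a) := by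
      rw [← Geo.pp_pp h2 (Submodule.span F (Set.range a))]
      exact Geo.mem_pp.2 h3
    obtain ⟨d, rfl⟩ := (Submodule.mem_span_range_iff_exists_fun F).1 h4
    refine h0 (Finset.sum_eq_zero fun i _ => ?_)
    have h5 := Geo.mem_pp.1 hw (a i) (Submodule.subset_span ⟨i, rfl⟩)
    rw [h.coef] at h5
    rw [(mul_eq_zero.1 h5).resolve_right (mul_ne_zero h2 (h.ne i)), zero_smul]) (by omega) c
  exact ⟨z, fun i => Geo.mem_pp.1 hz _ (Submodule.subset_span ⟨i, rfl⟩), e⟩

/-- Witt's theorem for orthogonal families -/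
theorem Ort.witt (hodd : Odd (Fintype.card F)) (h : Ort a) (hk : k ≤ 5) {b : Fin k → W 3 F}
    (hq : ∀ i, qf (a i) = qf (b i)) (hb : ∀ i j, i ≠ j → bf (b i) (b j) = 0) : ∃ g ∈ Om 3 F, ∀ i, ap g (a i) = b i := by
  have h2 := two_ne hodd
  obtain ⟨x, hx⟩ := exists_minus (m := 3) hodd (by norm_num)
  obtain ⟨u, hu, eu⟩ := h.exists_perp hodd hk 1
  obtain ⟨v, hv, ev⟩ := h.exists_perp hodd hk (qf x)
  refine witt_fam h2 (by norm_num) (h.li h2) (Ort.li h2 ⟨fun i => hq i ▸ h.ne i, hb⟩) hq (fun i j => ?_) (u := u) (v := v)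
    (by rw [eu]; exact one_ne_zero) (by rw [ev]; exact ne_zero_of_not_isSquare hx) (by rwa [eu, ev, one_mul])
    (fun i => by rw [bf_comm, hu]) (fun i => by rw [bf_comm, hv])
  by_cases hij : i = j
  · rw [hij, bf_self, bf_self, hq]
  · rw [h.ort i j hij, hb i j hij]

/-- a non-degenerate subspace has an orthogonal basis -/
theorem exists_basis (h2 : (2 : F) ≠ 0) {S : Submodule F (W 3 F)} (hS : S ⊓ Geo.pp S = ⊥) (hk : finrank F S = k) :
    ∃ a : Fin k → W 3 F, Ort a ∧ Submodule.span F (Set.range a) = S := by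
  subst hk
  have := invertibleOfNonzero h2
  obtain ⟨b, hb⟩ := LinearMap.BilinForm.exists_orthogonal_basis (B := (Geo.BB 3 F).restrict S)
    ⟨fun x y => (Geo.BB_apply (x : W 3 F) y).trans ((bf_comm _ _).trans (Geo.BB_apply (y : W 3 F) x).symm)⟩
  have h1 : ∀ i j, i ≠ j → bf (b i : W 3 F) (b j) = 0 := fun i j hij => (Geo.BB_apply _ _).symm.trans (hb hij)
  have h3 : Submodule.span F (Set.range fun i => (b i : W 3 F)) = S := by
    have h4 := congrArg (Submodule.map S.subtype) b.span_eq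
    rwa [Submodule.map_span, Submodule.map_top, Submodule.range_subtype, ← Set.range_comp] at h4
  refine ⟨fun i => b i, ⟨fun i h0 => ?_, h1⟩, h3⟩
  have h4 : (b i : W 3 F) ∈ S ⊓ Geo.pp S := by
    refine ⟨(b i).2, Geo.mem_pp.2 fun u hu => ?_⟩
    rw [← h3] at hu
    obtain ⟨d, rfl⟩ := (Submodule.mem_span_range_iff_exists_fun F).1 hu
    rw [bf_comm, ← Geo.BB_apply, map_sum]
    refine Finset.sum_eq_zero fun j _ => ?_
    rw [Geo.BB_apply, bf_smul]
    by_cases hij : i = j
    · rw [← hij, bf_self, h0, mul_zero, mul_zero]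
    · rw [h1 i j hij, mul_zero]
  rw [hS, Submodule.mem_bot] at h4
  exact b.ne_zero i (Subtype.ext h4)

end ort

theorem ort2 {u v : W 3 F} (h : bf u v = 0) : ∀ i j : Fin 2, i ≠ j → bf (![u, v] i) (![u, v] j) = 0 := by
  have h' := (bf_comm v u).trans h
  intro i j hij
  fin_cases i <;> fin_cases j <;> first | exact (hij rfl).elim | assumption

theorem ort3 {u v w : W 3 F} (h1 : bf u v = 0) (h2 : bf u w = 0) (h3 : bf v w = 0) :
    ∀ i j : Fin 3, i ≠ j → bf (![u, v, w] i) (![u, v, w] j) = 0 := by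
  have h1' := (bf_comm v u).trans h1
  have h2' := (bf_comm w u).trans h2
  have h3' := (bf_comm w v).trans h3
  intro i j hij
  fin_cases i <;> fin_cases j <;> first | exact (hij rfl).elim | assumption

/-- `u`, `v`, `cr u v` -/
theorem ort_cr (h2 : (2 : F) ≠ 0) {u v : W 3 F} (hu : qf u ≠ 0) (hv : qf v ≠ 0) (h : bf u v = 0) :
    Ort ![u, v, cr u v] := by
  refine ⟨fun i => ?_, ort3 h ((bf_comm _ _).trans (bf_cr_left u v)) ((bf_comm _ _).trans (bf_cr_right u v))⟩
  have h4 : (4 : F) ≠ 0 := by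
    rw [show (4 : F) = 2 * 2 by norm_num]
    exact mul_ne_zero h2 h2
  have h1 : qf (cr u v) ≠ 0 := by
    rw [qf_cr, h, zero_pow two_ne_zero, zero_sub, neg_ne_zero]
    exact mul_ne_zero (mul_ne_zero h4 hu) hv
  fin_cases i <;> assumption

theorem cr_span {u v x y : W 3 F} (hx : x ∈ Submodule.span F (Set.range ![u, v]))
    (hy : y ∈ Submodule.span F (Set.range ![u, v])) : ∃ c : F, cr x y = c • cr u v := by
  obtain ⟨c, rfl⟩ := (Submodule.mem_span_range_iff_exists_fun F).1 hx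
  obtain ⟨d, rfl⟩ := (Submodule.mem_span_range_iff_exists_fun F).1 hy
  refine ⟨c 0 * d 1 - c 1 * d 0, ?_⟩
  simp only [Fin.sum_univ_two, cons_val_zero, cons_val_one, cr_add, cr_add', cr_smul, cr_smul', cr_self, cr_anti v u]
  module

theorem tri_span {u v w x y z : W 3 F} (hx : x ∈ Submodule.span F (Set.range ![u, v, w]))
    (hy : y ∈ Submodule.span F (Set.range ![u, v, w])) (hz : z ∈ Submodule.span F (Set.range ![u, v, w]))
    (h : bf (cr u v) w = 0) : bf (cr x y) z = 0 := by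
  obtain ⟨c, rfl⟩ := (Submodule.mem_span_range_iff_exists_fun F).1 hx
  obtain ⟨d, rfl⟩ := (Submodule.mem_span_range_iff_exists_fun F).1 hy
  obtain ⟨e, rfl⟩ := (Submodule.mem_span_range_iff_exists_fun F).1 hz
  have h1 : bf (cr v w) u = 0 := (bf_cr_rot u v w).symm.trans h
  have h2 : bf (cr w u) v = 0 := (bf_cr_rot v w u).symm.trans h1
  have hn : ∀ a b c : W 3 F, bf (cr a b) c = 0 → bf (cr b a) c = 0 := fun a b c e => by
    rw [cr_anti, ← neg_one_smul F, bf_smul', e, mul_zero]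
  simp only [Fin.sum_univ_three, cons_val_zero, cons_val_one, cons_val_two, head_cons, tail_cons, cr_add, cr_add', cr_smul,
    cr_smul', bf_add, bf_add', bf_smul, bf_smul', bf_cr_left, bf_cr_right, h, h1, h2, hn _ _ _ h, hn _ _ _ h1, hn _ _ _ h2,
    cr_self, bf_comm 0, bf_zero, mul_zero, add_zero]

variable {M H T B : Subgroup (Perm (W 3 F))} {S : Submodule F (W 3 F)}

theorem fixS_pp {X : Subgroup (Perm (W 3 F))} (hX : X ≤ Sem 3 F) (h : FixS X S) : FixS X (Geo.pp S) := by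
  intro g hg w hw
  refine Geo.mem_pp.2 fun u hu => ?_
  obtain ⟨σ, -, -, h1⟩ := Sem.ex (hX hg)
  have h3 := h1 (g⁻¹ u) w
  rwa [show g (g⁻¹ u) = u from Perm.eq_inv_iff_eq.1 rfl, Geo.mem_pp.1 hw _ (h g⁻¹ (inv_mem hg) u hu), map_zero] at h3

theorem point {X : Subgroup (Perm (W 3 F))} (h : FixS X S) (h1 : finrank F S = 1) : ∃ v : W 3 F, v ≠ 0 ∧ FixP X v := by
  obtain ⟨v, hv, h0⟩ := (Submodule.ne_bot_iff S).1 fun e => by
    rw [e, finrank_bot] at h1
    omega
  have h3 : Submodule.span F {v} = S :=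
    Submodule.eq_of_le_of_finrank_eq ((Submodule.span_singleton_le_iff_mem _ _).2 hv) (by rw [finrank_span_singleton h0, h1])
  exact ⟨v, h0, FixS.fixP (h3.symm ▸ h)⟩

/-- **the canonical subspace** -/
theorem small (hodd : Odd (Fintype.card F)) (h : OF M H T B) (hT : pre T = G0 F) (hr : ¬ Irr (pre B)) :
    ∃ S : Submodule F (W 3 F), S ≠ ⊥ ∧ FixS B S ∧ finrank F S ≤ 3 ∧ finrank F ↥(S ⊓ Geo.pp S) ≤ 1 := by
  have h2 := two_ne hodd
  have hq : 1 < Fintype.card F := Fintype.one_lt_card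
  obtain ⟨r, hp⟩ := exists_pp (q := Fintype.card F) (e := 4) hq (by norm_num) (by omega)
  have hp' : PP (Nat.card F) 4 r := by rwa [Nat.card_eq_fintype_card]
  have hY : pre B ≤ Om 3 F := h.pd.right.le
  have hd : r ^ 1 ∣ Nat.card (pre B) := by
    refine (A.side h.pd hp' (by norm_num) (by norm_num) (by norm_num) (A.dvd_Om (i := 2) hodd le_rfl (by norm_num)
      (by norm_num) (hp.odd (by norm_num)) (by rw [pow_one, hp.dvd_iff hq.le]))).resolve_left fun h3 => ?_
    rw [pow_one, hT, card_G0 h2, hp.prime.dvd_mul, hp.prime.dvd_mul, hp.dvd_iff hq.le, hp.dvd_iff hq.le] at h3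
    rcases h3 with h3 | h3 | h3
    · exact hp.not_dvd (by norm_num) (hp.prime.dvd_of_dvd_pow h3)
    · omega
    · omega
  obtain ⟨y, hy, ho⟩ := A.elt hp' (by norm_num) (by norm_num) (by norm_num) hd
  rw [pow_one] at ho
  obtain ⟨-, hcm, hor, -⟩ := H449.Reg.elt_data hp' (by norm_num) (by rw [card_I]; norm_num) (A.lin_pow ho)
    (lin_ne_one (A.ne_one hp.prime ho))
  have hiso : Iso (oddForm 3 F) (H884.El.lin y) r := Iso.mk' hp' (by norm_num) (A.lin_pow ho) (lin_iso (A.le_iso hY) hy)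
  have hc := H951.isCompl_fx_cm hiso.ne0 hiso.pow
  have hfx : finrank F (fx (H884.El.lin y)) = 3 := by
    have h3 : finrank F (fx (H884.El.lin y)) + finrank F (cm (H884.El.lin y)) = finrank F (W 3 F) :=
      Submodule.finrank_add_eq_of_isCompl hc
    rw [hcm, finrank_W] at h3
    omega
  have hle : ∀ U, Inv (pre B) U → finrank F U ≤ 3 → U ≤ fx (H884.El.lin y) := fun U hU h3 =>
    (hor U fun w hw => by
      rw [H884.El.lin, toLin'_apply]
      exact hU y hy w hw).resolve_right fun h4 => by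
        have h5 : 4 ≤ finrank F U := hcm.ge.trans (Submodule.finrank_mono h4)
        omega
  let S : Submodule F (W 3 F) := sSup {U | Inv (pre B) U ∧ finrank F U ≤ 3}
  have hS : S ≤ fx (H884.El.lin y) := sSup_le fun U hU => hle U hU.1 hU.2
  have hS3 : finrank F S ≤ 3 := (Submodule.finrank_mono hS).trans hfx.le
  have hI : Inv (pre B) S := by
    intro x hx u hu
    have h3 : S ≤ S.comap (toLin' (x : Matrix (I 3) (I 3) F)) := sSup_le fun U hU w hw => by
      rw [Submodule.mem_comap, toLin'_apply]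
      exact (le_sSup hU : U ≤ S) (hU.1 x hx w hw)
    have h4 := h3 hu
    rwa [Submodule.mem_comap, toLin'_apply] at h4
  refine ⟨S, fun h0 => hr fun U hU => ?_, h.nzB.fixS hI (P := fun U => finrank F U ≤ 3)
    (fun g hg => by rwa [finrank_simg]) fun U h3 h4 => le_sSup ⟨h3, h4⟩, hS3, ?_⟩
  · have h3 := Geo.finrank_pp h2 U
    rcases Nat.lt_or_ge 3 (finrank F U) with h4 | h4
    · right
      have h5 : Geo.pp U ≤ S := le_sSup ⟨Geo.inv_pp (hY.trans Om_le) hU, by omega⟩
      rw [h0, le_bot_iff] at h5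
      rw [h5, finrank_bot, zero_add] at h3
      exact Submodule.eq_top_of_finrank_eq (by rw [h3, finrank_W])
    · left
      have h5 : U ≤ S := le_sSup ⟨hU, h4⟩
      rwa [h0, le_bot_iff] at h5
  · set R := S ⊓ Geo.pp S
    have h3 := Geo.finrank_pp h2 R
    have hR : R ≤ fx (H884.El.lin y) := inf_le_left.trans hS
    have h4 : R ⊔ cm (H884.El.lin y) ≤ Geo.pp R := sup_le (Geo.ts_le (Geo.ts_rad h2 S)) fun w hw =>
      Geo.mem_pp.2 fun u hu => by
        rw [bf_eq]
        exact H954.TSing.orth_fx_cm hiso.iso u (hR hu) w hw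
    have h5 := Submodule.finrank_sup_add_finrank_inf_eq R (cm (H884.El.lin y))
    rw [(hc.disjoint.mono_left hR).eq_bot, finrank_bot, hcm] at h5
    have h6 := Submodule.finrank_mono h4
    omega

/-- **not a non-degenerate plane** -/
theorem plane (hodd : Odd (Fintype.card F)) (h : OF M H T B) (hT : pre T = G0 F) (hH : H ≤ CrG F) {a : Fin 2 → W 3 F}
    (ha : Ort a) (hS : FixS B (Submodule.span F (Set.range a))) : False := by
  have h2 := two_ne hodd
  have h4 : (4 : F) ≠ 0 := by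
    rw [show (4 : F) = 2 * 2 by norm_num]
    exact mul_ne_zero h2 h2
  obtain ⟨u, v, rfl⟩ : ∃ u v, a = ![u, v] := ⟨a 0, a 1, by ext1 i; fin_cases i <;> rfl⟩
  have hu : qf u ≠ 0 := ha.ne 0
  have huv : bf u v = 0 := ha.ort 0 1 (by decide)
  have ho := ort_cr h2 hu (ha.ne 1) huv
  have hw : cr u v ≠ 0 := ne_of_qf (ho.ne 2)
  have huS : u ∈ Submodule.span F (Set.range ![u, v]) := Submodule.subset_span ⟨0, rfl⟩
  have hvS : v ∈ Submodule.span F (Set.range ![u, v]) := Submodule.subset_span ⟨1, rfl⟩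
  have h1 : H ⊓ B ≤ St (Submodule.span F {cr u v} : Submodule F (W 3 F)) := by
    refine FixS.le_St (FixP.fixS (inf_le_left.trans h.semH) fun g hg => ?_)
    rw [hH hg.1]
    exact cr_span (hS g hg.2 u huS) (hS g hg.2 v hvS)
  have h3 : ¬ T ≤ St (Submodule.span F {cr u v} : Submodule F (W 3 F)) := by
    intro h3
    have h5 : Inv (G0 F) (Submodule.span F {cr u v}) := fun x hx z hz => by
      rw [← hT] at hx
      exact (h3 hx.1 z).2 hz
    rcases irr_G0 hodd _ h5 with h6 | h6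
    · exact hw (Submodule.span_singleton_eq_bot.1 h6)
    · have h7 := finrank_span_singleton (K := F) hw
      rw [h6, finrank_top, finrank_W] at h7
      omega
  obtain ⟨z, hz, ez⟩ := ho.exists_perp hodd (by norm_num) (qf u)
  have hzw : bf z (cr u v) = 0 := (bf_comm _ _).trans (hz 2)
  obtain ⟨g, hg, hga⟩ := ha.witt hodd (by norm_num) (b := ![z, (4 * qf u)⁻¹ • cr z (cr u v)])
    (fun i => by
      fin_cases i
      · exact ez.symm
      · show qf v = qf ((4 * qf u)⁻¹ • cr z (cr u v))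
        rw [qf_smul, qf_cr, hzw, qf_cr, huv, ez]
        field_simp
        ring)
    (ort2 (by rw [bf_smul, bf_comm, bf_cr_left, mul_zero]))
  obtain ⟨x, hx, y, hy, rfl⟩ := h.pd.mul g hg
  have e0 : ap x (ap y u) = z := (ap_mul x y u).symm.trans (hga 0)
  have e1 : ap x (ap y v) = (4 * qf u)⁻¹ • cr z (cr u v) := (ap_mul x y v).symm.trans (hga 1)
  have hyu := hS _ hy.1 u huS
  obtain ⟨c, hc⟩ := cr_span hyu (hS _ hy.1 v hvS)
  have e2 : ap x (c • cr u v) = cr u v := by
    rw [← hc, lin_apply, lin_apply, (mem_G0.1 (hT ▸ hx)).1, e0, e1, cr_smul, cr_cr, hzw, ez, mul_zero, zero_smul, sub_zero,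
      inv_smul_smul₀ (mul_ne_zero h4 hu)]
  have hc0 : c ≠ 0 := fun e => hw (by rw [← e2, e, zero_smul, ap_zero])
  have hxB : lin x ∈ B := by
    refine h.chain h1 h3 (h.fac.asH.le hx.1) (mem_St_of fun s hs => ?_)
    obtain ⟨d, rfl⟩ := Submodule.mem_span_singleton.1 hs
    refine Submodule.mem_span_singleton.2 ⟨d * c⁻¹, ?_⟩
    rw [lin_apply, mul_smul, ap_smul]
    conv_lhs => rw [← e2, ← ap_smul, inv_smul_smul₀ hc0]
  have h5 := hS _ hxB _ hyu
  rw [lin_apply, lin_apply, e0] at h5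
  obtain ⟨d, hd⟩ := (Submodule.mem_span_range_iff_exists_fun F).1 h5
  have h6 : bf z z = 0 := by
    have z0 : bf u z = 0 := hz 0
    have z1 : bf v z = 0 := hz 1
    conv_lhs => enter [1]; rw [← hd]
    simp only [Fin.sum_univ_two, cons_val_zero, cons_val_one, bf_add', bf_smul', z0, z1, mul_zero, add_zero]
  rw [bf_self, ez] at h6
  exact mul_ne_zero h2 hu h6

/-- **not a non-degenerate 3-space** -/
theorem three (hodd : Odd (Fintype.card F)) {Y : Subgroup (GL (I 3) F)} (h : Pd (G0 F) Y) {a : Fin 3 → W 3 F}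
    (ha : Ort a) (hS : Inv Y (Submodule.span F (Set.range a))) : False := by
  have h2 := two_ne hodd
  obtain ⟨u, v, w, rfl⟩ : ∃ u v w, a = ![u, v, w] := ⟨a 0, a 1, a 2, by ext1 i; fin_cases i <;> rfl⟩
  have huv : bf u v = 0 := ha.ort 0 1 (by decide)
  have ho : Ort ![u, v, cr u v] := ort_cr h2 (ha.ne 0) (ha.ne 1) huv
  have hm : ∀ i, ![u, v, w] i ∈ Submodule.span F (Set.range ![u, v, w]) := fun i => Submodule.subset_span ⟨i, rfl⟩
  have key : ∀ z, bf u z = 0 → bf v z = 0 → qf z = qf w →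
      ∃ y ∈ Y, bf (cr u v) z = bf (cr (ap y u) (ap y v)) (ap y w) := by
    intro z z0 z1 ez
    obtain ⟨g, hg, hga⟩ := ha.witt hodd (by norm_num) (b := ![u, v, z])
      (fun i => by fin_cases i <;> first | rfl | exact ez.symm) (ort3 huv z0 z1)
    obtain ⟨x, hx, y, hy, rfl⟩ := h.mul g hg
    have e0 : ap x (ap y u) = u := (ap_mul x y u).symm.trans (hga 0)
    have e1 : ap x (ap y v) = v := (ap_mul x y v).symm.trans (hga 1)
    have e2 : ap x (ap y w) = z := (ap_mul x y w).symm.trans (hga 2)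
    exact ⟨y, hy, by rw [← bf_ap (Om_le (G0_le hx)) _ (ap y w), (mem_G0.1 hx).1, e0, e1, e2]⟩
  have h0 : bf (cr u v) w = 0 := by
    obtain ⟨z, hz, ez⟩ := ho.exists_perp hodd (by norm_num) (qf w)
    obtain ⟨y, hy, e⟩ := key z (hz 0) (hz 1) ez
    have h3 : ∀ s ∈ Submodule.span F (Set.range ![u, v, w]),
        s ∈ Submodule.span F (Set.range ![ap y u, ap y v, ap y w]) := by
      intro s hs
      obtain ⟨d, hd⟩ := (Submodule.mem_span_range_iff_exists_fun F).1 (hS y⁻¹ (inv_mem hy) s hs)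
      refine (Submodule.mem_span_range_iff_exists_fun F).2 ⟨d, ?_⟩
      rw [← ap_ap_inv y s, ← hd]
      simp only [Fin.sum_univ_three, cons_val_zero, cons_val_one, cons_val_two, head_cons, tail_cons, ap_add, ap_smul]
    exact tri_span (h3 _ (hm 0)) (h3 _ (hm 1)) (h3 _ (hm 2)) (e.symm.trans (hz 2))
  obtain ⟨z, hz, ez⟩ := ho.exists_perp hodd (by norm_num) (qf w - qf (cr u v))
  have z0 : bf u z = 0 := hz 0
  have z1 : bf v z = 0 := hz 1
  have z2 : bf (cr u v) z = 0 := hz 2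
  obtain ⟨y, hy, e⟩ := key (cr u v + z) (by rw [bf_add, z0, bf_comm, bf_cr_left, add_zero])
    (by rw [bf_add, z1, bf_comm, bf_cr_right, add_zero]) (by rw [qf_add, z2, ez]; ring)
  replace e := e.trans (tri_span (hS y hy _ (hm 0)) (hS y hy _ (hm 1)) (hS y hy _ (hm 2)) h0)
  rw [bf_add, z2, add_zero, bf_self] at e
  exact mul_ne_zero h2 (ho.ne 2) e

/-- **[SM-O9]** -/
theorem boxGr (F : Type) [Field F] [Fintype F] (hodd : Odd (Fintype.card F)) (M H T B : Subgroup (Perm (W 3 F)))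
    (h : OF M H T B) (hT : pre T = G0 F) (hH : H ≤ CrG F) (hr : ¬ Irr (pre B)) : ∃ v : W 3 F, v ≠ 0 ∧ FixP B v := by
  have h2 := two_ne hodd
  obtain ⟨S, h0, hS, h3, h1⟩ := small hodd h hT hr
  rcases h1.eq_or_lt with h1 | h1
  · exact point (S := S ⊓ Geo.pp S) (fun g hg u hu => ⟨hS g hg u hu.1, fixS_pp h.semB hS g hg u hu.2⟩) h1
  have h4 : S ⊓ Geo.pp S = ⊥ := Submodule.finrank_eq_zero.1 (by omega)
  have h5 : finrank F S ≠ 0 := fun e => h0 (Submodule.finrank_eq_zero.1 e)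
  rcases (by omega : finrank F S = 1 ∨ finrank F S = 2 ∨ finrank F S = 3) with h6 | h6 | h6
  · exact point hS h6
  · obtain ⟨a, ha, rfl⟩ := exists_basis h2 h4 h6
    exact (plane hodd h hT hH ha hS).elim
  · obtain ⟨a, ha, rfl⟩ := exists_basis h2 h4 h6
    exact (three hodd (hT ▸ h.pd) ha hS.inv).elim

end Cfsg.Agent.SM.Oo.Gr
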