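import Cfsg.Agent.SM.Oo.Witt
import Cfsg.Agent.SM.CS.Defs
import Cfsg.Agent.H884.OddForm
import Cfsg.Agent.S5673

/-!
# SM (S3570), family `fO`: the parabolic factor, the residual class, dimension at least nine (helper96)

* `OF.no_tsH` : `H` fixes no totally singular subspace of dimension at least two;
* `OF.no_tsB` : if `H` fixes a minus point then `B` fixes no maximal totally singular subspace;
* `boxCS_of`, `big`.
-/

set_option autoImplicit false
set_option linter.unusedSectionVars false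

namespace Cfsg.Agent.SM.Oo

open Cfsg Cfsg.Geo Matrix Equiv QuadraticMap Module
open Cfsg.Agent.LieClassical.OrthCore Cfsg.Agent.LieClassical.OrthTrans Cfsg.Agent.LieClassical.OrthFinite
open Cfsg.Agent.LieClassical.OrthForms (oddForm coe_oddForm nondeg_oddForm)
open scoped MatrixGroups

variable {m : ℕ} {F : Type} [Field F] [Fintype F] {M H T B : Subgroup (Perm (W m F))} {U : Submodule F (W m F)}
  {v : W m F}

theorem FixS.le_St {X : Subgroup (Perm (W m F))} (h : FixS X U) : X ≤ St (U : Set (W m F)) := Oo.le_St h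

theorem OF.eqH_St (h : OF M H T B) (hG : Good (oddForm m F)) (hU : FixS H U) (h0 : U ≠ ⊥) (h1 : U ≠ ⊤) :
    H = M ⊓ St (U : Set (W m F)) := h.eqH hU.le_St (not_Om_le_St hG h0 h1)

theorem OF.eqB_St (h : OF M H T B) (hG : Good (oddForm m F)) (hU : FixS B U) (h0 : U ≠ ⊥) (h1 : U ≠ ⊤) :
    B = M ⊓ St (U : Set (W m F)) := h.eqB hU.le_St (not_Om_le_St hG h0 h1)

theorem FixP.pp {X : Subgroup (Perm (W m F))} (hX : X ≤ Sem m F) (h : FixP X v) : FixS X (pp v) := by
  intro g hg u hu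
  obtain ⟨c, hc⟩ := h g⁻¹ (X.inv_mem hg)
  obtain ⟨σ, -, -, h1⟩ := Sem.ex (hX hg)
  have h2 := h1 (g⁻¹ v) u
  rw [show g (g⁻¹ v) = v from Perm.eq_inv_iff_eq.1 rfl, hc, bf_smul', mem_pp.1 hu, mul_zero, map_zero] at h2
  exact mem_pp.2 h2

theorem pp_ne_bot (h2 : (2 : F) ≠ 0) (hm : 1 ≤ m) (hv : v ≠ 0) : pp v ≠ ⊥ := fun e => by
  have := finrank_pp h2 hv
  rw [e, finrank_bot] at this
  omega

theorem pp_ne_top (h2 : (2 : F) ≠ 0) (hv : v ≠ 0) : pp v ≠ ⊤ := fun e => by
  have := finrank_pp h2 hv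
  rw [e, finrank_top, finrank_W] at this
  omega

/-- **`H` is not parabolic** -/
theorem OF.no_tsH (h : OF M H T B) (hG : Good (oddForm m F)) (hU : FixS H U) (ht : Ts U) (hd : 2 ≤ finrank F U) : False := by
  have h0 : U ≠ ⊥ := by
    rintro rfl
    rw [finrank_bot] at hd
    omega
  have hH := h.eqH_St hG hU h0 ht.ne_top
  let N : Subgroup (Perm (W m F)) :=
    { carrier := {g | g ∈ M ∧ (∀ w, g w - w ∈ U) ∧ ∀ u ∈ U, g u = u}
      one_mem' := ⟨M.one_mem, fun w => by simp, fun _ _ => rfl⟩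
      mul_mem' := by
        rintro a b ⟨ha, h1, h2⟩ ⟨hb, h3, h4⟩
        refine ⟨M.mul_mem ha hb, fun w => ?_, fun u hu => by rw [Perm.mul_apply, h4 u hu, h2 u hu]⟩
        have := U.add_mem (h1 (b w)) (h3 w)
        rwa [sub_add_sub_cancel] at this
      inv_mem' := by
        rintro a ⟨ha, h1, h2⟩
        refine ⟨M.inv_mem ha, fun w => ?_, fun u hu => Perm.inv_eq_iff_eq.2 (h2 u hu).symm⟩
        have := U.neg_mem (h1 (a⁻¹ w))
        rwa [neg_sub, show a (a⁻¹ w) = w from Perm.eq_inv_iff_eq.1 rfl] at this }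
  have hNH : N ≤ H := fun g hg => by
    rw [hH]
    exact ⟨hg.1, mem_St_of fun u hu => by rw [hg.2.2 u hu]; exact hu⟩
  have hc : ∀ g ∈ T, ∀ x ∈ N, g * x * g⁻¹ ∈ N := by
    intro g hg x hx
    have hgH := h.fac.asH.le hg
    have hgM := h.fac.HM hgH
    refine ⟨M.mul_mem (M.mul_mem hgM hx.1) (M.inv_mem hgM), fun w => ?_, fun u hu => ?_⟩
    · have := hU g hgH _ (hx.2.1 (g⁻¹ w))
      rwa [Sem.sub (h.sem hgM), show g (g⁻¹ w) = w from Perm.eq_inv_iff_eq.1 rfl] at this
    · rw [Perm.mul_apply, Perm.mul_apply, hx.2.2 _ (hU _ (H.inv_mem hgH) u hu)]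
      exact Perm.eq_inv_iff_eq.1 rfl
  have hN0 : N ≠ ⊥ := by
    obtain ⟨u, hu, hu0⟩ := (Submodule.ne_bot_iff U).1 h0
    obtain ⟨w, hw, hwu⟩ : ∃ w ∈ U, w ∉ Submodule.span F {u} := by
      by_contra hc
      push Not at hc
      have := Submodule.finrank_mono (show U ≤ Submodule.span F {u} from hc)
      rw [finrank_span_singleton hu0] at this
      omega
    have h1 : oddForm m F w = 0 := qf_eq w ▸ ht w hw
    have h3 : polar (oddForm m F) w u = 0 := bf_eq w u ▸ ht.bf hw hu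
    obtain ⟨g, hg, e⟩ := exists_Om hG (siegel_mem_E h1 h3)
    have h4 : ∀ z, ap g z = z + bf w z • u - bf u z • w := fun z => by
      rw [e, siegel_apply, ← qf_eq, ht u hu, zero_mul, zero_smul, sub_zero, bf_eq, bf_eq]
    have h5 : lin g ∈ N := ⟨h.omM hg, fun z => by
      rw [lin_apply, h4, add_sub_assoc, add_sub_cancel_left]
      exact U.sub_mem (U.smul_mem _ hu) (U.smul_mem _ hw), fun z hz => by
      rw [lin_apply, h4, ht.bf hw hz, ht.bf hu hz, zero_smul, zero_smul, add_zero, sub_zero]⟩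
    intro e'
    rw [e', Subgroup.mem_bot] at h5
    obtain ⟨y, hy1, hy2⟩ := exists_sep hG.nondeg (x := w) (z := u) fun c e => hwu (e ▸
      Submodule.smul_mem _ _ (Submodule.mem_span_singleton_self u))
    have h6 : ap g y = y := congrArg (fun k : Perm (W m F) => k y) h5
    rw [h4, bf_eq, bf_eq, hy1, hy2, one_smul, zero_smul, sub_zero, add_eq_left] at h6
    exact hu0 h6
  have hTN := h.fac.asH.le_of_conj hNH hc hN0
  refine h.fac.asH.nab ⟨⟨fun a b => Subtype.ext (Perm.ext fun w => ?_)⟩⟩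
  have key : ∀ a ∈ N, ∀ b ∈ N, a (b w) = a w + (b w - w) := fun a ha b hb => by
    conv_lhs => rw [← add_sub_cancel w (b w), Sem.add (h.sem ha.1), ha.2.2 _ (hb.2.1 w)]
  change a.1 (b.1 w) = b.1 (a.1 w)
  rw [key _ (hTN a.2) _ (hTN b.2), key _ (hTN b.2) _ (hTN a.2)]
  abel

/-- **`H` fixes a minus point, `B` is parabolic** -/
theorem OF.no_tsB (h : OF M H T B) (h2 : (2 : F) ≠ 0) (hm : 2 ≤ m) (hv : Pt (pre T) v) (hH : FixP H v) (hU : FixS B U)
    (ht : Ts U) (hd : finrank F U = m) : False := by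
  have hv0 := ne_zero_of_not_isSquare hv.mn
  have h1 : H ⊓ B ≤ St ((U ⊓ pp v : Submodule F (W m F)) : Set (W m F)) :=
    le_St fun g hg u hu => ⟨hU g hg.2 u hu.1, hH.pp h.semH g hg.1 u hu.2⟩
  have h3 : ¬ T ≤ St ((U ⊓ pp v : Submodule F (W m F)) : Set (W m F)) := fun k => by
    have h4 := Submodule.finrank_sup_add_finrank_inf_eq U (pp v)
    have h5 := Submodule.finrank_le (U ⊔ pp v)
    have h6 := Submodule.finrank_mono (inf_le_left : U ⊓ pp v ≤ U)
    rw [finrank_pp h2 hv.ne, hd] at h4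
    rw [finrank_W] at h5
    rcases hv.inv (U ⊓ pp v) (fun x hx u hu => (k hx.1 u).2 hu) with e | e | e | e
    · rw [e, finrank_bot] at h4
      omega
    · rw [e, finrank_top, finrank_W] at h6
      omega
    · exact hv0 (ht v (e.ge (Submodule.mem_span_singleton_self v)).1)
    · rw [show U ⊓ pp v = pp v from Submodule.ext fun w => (e w).trans mem_pp.symm, finrank_pp h2 hv.ne] at h6
      omega
  have hr := lin_mem_Sem ((Is m F).mul_mem neg_one_mem (rf_mem hv0)) (by
    rw [Units.val_mul, det_mul, det_neg_one, det_rf, neg_mul_neg, one_mul])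
  obtain ⟨g, hg, e⟩ := trans_ts h2 (by omega) ht (ht.simg hr) (finrank_simg hr U).symm
  obtain ⟨x, hx, y, hy, rfl⟩ := h.pd.mul g hg
  have h4 : ∀ u ∈ U, ∃ u' ∈ U, ap x u = ap (rf v hv0) u' := by
    intro u hu
    obtain ⟨u', hu', e'⟩ := (e (ap y⁻¹ u)).2 (hU.inv _ ((pre B).inv_mem hy) u hu)
    refine ⟨-u', U.neg_mem hu', ?_⟩
    rw [ap_mul, ap_ap_inv] at e'
    rw [← e', lin_apply, ap_mul, ap_neg_one, ap_neg]
  have hxH := h.fac.asH.le hx.1
  have h5 : lin x ∈ B := h.chain h1 h3 hxH (mem_St_of fun u hu => by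
    have h6 : ap x u ∈ pp v := hH.pp h.semH _ hxH u hu.2
    refine ⟨?_, h6⟩
    obtain ⟨u', hu', e'⟩ := h4 u hu.1
    have h7 : bf v u' = 0 := by
      rw [← bf_ap (rf_mem hv0), ap_rf_self, ← e', ← neg_one_smul F v, bf_smul', mem_pp.1 h6, mul_zero]
    rw [lin_apply, e', ap_rf_perp hv0 h7]
    exact hu')
  refine hv.mn (isSquare_of_perp h2 (by omega) ht hd fun u hu => ?_)
  obtain ⟨u', hu', e'⟩ := h4 _ (hU _ (B.inv_mem h5) u hu)
  rw [← map_inv, lin_apply, ap_ap_inv, ap_rf] at e'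
  by_contra hc
  have h6 : bf v u' ≠ 0 := fun k => hc (by rw [e', k, mul_zero, zero_smul, sub_zero, k])
  have h7 : ((qf v)⁻¹ * bf v u') • v ∈ U := by
    have := U.sub_mem hu' hu
    rwa [e', sub_sub_cancel] at this
  exact hv0 (ht v ((U.smul_mem_iff (mul_ne_zero (inv_ne_zero hv0) h6)).1 h7))

/-! ### the residual class -/

theorem pre_St (h : OF M H T B) {X : Subgroup (Perm (W m F))} (e : X = M ⊓ St (U : Set (W m F))) :
    pre X = Om m F ⊓ subspaceStabilizer U := by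
  ext x
  rw [e]
  exact ⟨fun k => ⟨k.2, fun w => (k.1.2 w).symm⟩, fun k => ⟨⟨h.omM k.1, fun w => (k.2 w).symm⟩, k.1⟩⟩

theorem boxCS_of (c1 : CS.CS1) (c2 : CS.CS2) : BoxCS := by
  intro F _ _ m hodd hm M H T B v h
  have h2 := two_ne hodd
  have hG : Good (oddForm m F) := good h2 (by omega)
  let π : Om m F →* Perm (W m F) := lin.comp (Om m F).subtype
  have hπ : CS.Cov (Om m F) π ((Om m F).map lin) := ⟨by
    rw [MonoidHom.range_comp, Subgroup.range_subtype], fun g => ⟨fun e => by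
      rw [show (g : GL (I m) F) = 1 from lin_injective (e.trans (map_one _).symm)]
      exact Subgroup.one_mem _, fun e => by
      change lin (g : GL (I m) F) = 1
      rw [scalars_inf g.2 e, map_one]⟩⟩
  have hp : ∀ X, CS.pre π X = pre X := fun X => by
    ext x
    exact ⟨fun ⟨y, hy, e⟩ => e ▸ ⟨hy, y.2⟩, fun k => ⟨⟨x, k.2⟩, k.1, rfl⟩⟩
  have hS : ¬ IsSquare (qf v) → CS.Sph (Fintype.card F) m .o (polar (quadFormOdd m F)) (fun x => quadFormOdd m F x = 0)
      (Om m F) (subspaceStabilizer (pp v)) := fun hv => by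
    have hv0 := ne_zero_of_not_isSquare hv
    refine .o _ (H884.OddForm.isNondegenerate_quadFormOdd hodd m) rfl hodd (card_I m) _ (finrank_pp h2 (ne_of_qf hv0))
      (fun w hw h0 => ?_) ?_
    · obtain ⟨y, hy⟩ := hG.nondeg.exists_polar_ne h0
      have h3 : ap (rf v hv0) y + y ∈ pp v := by
        rw [mem_pp, bf_add, ← bf_ap (rf_mem hv0), ap_rf_self, ← ap_mul, rf_mul_self, ap_one, ← neg_one_smul F v, bf_smul']
        ring
      have h4 : bf w (ap (rf v hv0) y + y) ≠ 0 := by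
        rw [bf_add, ← bf_ap (rf_mem hv0), ap_rf_perp hv0 (mem_pp.1 hw), ← ap_mul, rf_mul_self, ap_one, ← two_mul, bf_eq]
        exact mul_ne_zero h2 hy
      exact ⟨⟨_, h3, by rw [← bf_comm] at h4; exact h4⟩, _, h3, h4⟩
    · rintro ⟨U, hU, ht, hd⟩
      rw [finrank_pp h2 (ne_of_qf hv0)] at hd
      exact hv (isSquare_of_perp h2 (by omega) ht (Nat.eq_of_mul_eq_mul_left two_pos hd) fun u hu => mem_pp.1 (hU hu))
  refine ⟨fun hv hB _ ⟨P, hP, _⟩ => ?_, fun hv hH _ ⟨P, hP, _⟩ => ?_⟩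
  · have e := pre_St h (h.eqB_St hG (hB.pp h.semB) (pp_ne_bot h2 (by omega) hv.ne) (pp_ne_top h2 hv.ne))
    have := c1 _ F _ _ _ H T B .o _ m _ _ _ _ P π T h.fac (hS hv.mn) hπ (by rw [card_I]; omega) ((hp B).trans e) le_rfl
      h.fac.asH.le (by rwa [hp]) fun k => nomatch k
    exact nomatch this.1
  · have e := pre_St h (h.eqH_St hG (hH.pp h.semH) (pp_ne_bot h2 (by omega) hv.ne) (pp_ne_top h2 hv.ne))
    have := c2 _ F _ _ _ H T B .o _ m _ _ _ _ P π h.fac (hS hv.mn) hπ (by rw [card_I]; omega) ((hp H).trans e)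
      (by rwa [hp]) fun k => nomatch k
    exact nomatch this.1

/-- Aschbacher's theorem for a proper subgroup -/
theorem asch (hodd : Odd (Fintype.card F)) (hm : 3 ≤ m) {K : Subgroup (GL (I m) F)} (hK : K < Om m F) :
    (∃ L, InOrthogonalOddClass m F L ∧ K ≤ L) ∨ InOrthogonalResidualClass K :=
  S5673.result hodd m hm K hK.le fun e => hK.ne (by
    refine Eq.trans (sup_eq_left.2 ?_).symm e
    intro x hx
    rw [scalars_inf hx.2 hx.1]
    exact K.one_mem)

theorem exists_maximalIn {A : Type*} [Group A] [Finite A] {K L : Subgroup A} (h : K < L) : ∃ N, IsMaximalIn L N ∧ K ≤ N := by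
  obtain ⟨N, h1, h3⟩ := exists_le_covBy_of_lt h
  exact ⟨N, ⟨h3.lt, fun _ k1 k2 => h3.eq_or_eq k1 k2⟩, h1⟩

/-- an irreducible group which is transitive on the minus points -/
theorem res_of_trM (hG : BoxGeo) (hodd : Odd (Fintype.card F)) (hm : 3 ≤ m) {K : Subgroup (GL (I m) F)} (hK : K < Om m F)
    (ht : TrM K) (hi : Irr K) : InOrthogonalResidualClass K :=
  (asch hodd hm hK).resolve_left fun ⟨L, h1, h3⟩ => hG F m hodd hm K L h1 h3 ht hi

/-- **dimension at least nine: no row** -/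
theorem big (hA : BoxA) (hR : BoxRed) (hG : BoxGeo) (hS : BoxS) (hC : BoxCS) (hodd : Odd (Fintype.card F)) (hm : 4 ≤ m)
    (h : OF M H T B) : False := by
  have h2 := two_ne hodd
  have hg : Good (oddForm m F) := good h2 (by omega)
  have small : ∀ K : Subgroup (GL (I m) F), m < 6 → K < Om m F → TrM K → ¬ Irr K := fun K h6 hK ht hi => by
    obtain ⟨N, hN, hle⟩ := exists_maximalIn hK
    exact hS F m hodd (by omega) N hN (res_of_trM hG hodd (by omega) hN.1 (ht.mono hle) (hi.mono hle)) (ht.mono hle)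
  have ne : ∀ {U : Submodule F (W m F)}, finrank F U = m → U ≠ ⊥ := fun {U} hd e => by
    rw [e, finrank_bot] at hd
    omega
  obtain ⟨v, hv | hv⟩ := hA F m hodd hm _ _ h.pd
  · have hH := h.nzH.fixP h2 (by omega) hv
    have ht := hv.trM hg h.pd
    by_cases hi : Irr (pre B)
    · rcases lt_or_ge m 6 with h6 | h6
      · exact small _ h6 h.pd.right ht hi
      · exact (hC F m hodd h6 M H T B v h).2 hv hH ht (res_of_trM hG hodd (by omega) h.pd.right ht hi)
    · obtain ⟨U, h3, h4, h5, h6⟩ := hR F m hodd (by omega) _ (h.pd.right.le.trans Om_le) ht hi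
      exact h.no_tsB h2 (by omega) hv hH (h.nzB.fixS_ts h5 h3 (ne h4) h6) h3 h4
  · have hB := h.nzB.fixP h2 (by omega) hv
    have ht := hv.trM hg h.pd.symm
    by_cases hi : Irr (pre T)
    · rcases lt_or_ge m 6 with h6 | h6
      · exact small _ h6 h.pd.left ht hi
      · exact (hC F m hodd h6 M H T B v h).1 hv hB ht (res_of_trM hG hodd (by omega) h.pd.left ht hi)
    · obtain ⟨U, h3, h4, h5, h6⟩ := hR F m hodd (by omega) _ (h.pd.left.le.trans Om_le) ht hi
      exact h.no_tsH hg (h.nzH.fixS_ts h5 h3 (ne h4) h6) h3 (by omega)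

end Cfsg.Agent.SM.Oo
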