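import Cfsg.Agent.SM.Oo.Pnt
import Cfsg.Agent.SM.Oo.Par
import Cfsg.Agent.SM.Oo.Gi
import Cfsg.Agent.SM.Oo.Gr
import Cfsg.Agent.SM.Oo.E4D
import Cfsg.Agent.UGT.U2.Rec.Congr

/-!
# SM (S3570), family `fO` (`S = Ω_{2m+1}(q)`, `q` odd): the assembly from the boxes (helper96)
-/

set_option autoImplicit false
set_option linter.unusedSectionVars false

namespace Cfsg.Agent.SM.Oo

open Cfsg Cfsg.Geo Matrix Equiv Module Subgroup MulAction
open scoped MatrixGroups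

variable {F : Type} [Field F] [Fintype F]

theorem not_le_CrG (hodd : Odd (Fintype.card F)) : ¬ (Om 3 F).map lin ≤ CrG F := fun h => by
  have h1 : G0 F = Om 3 F := le_antisymm G0_le fun x hx => ⟨h ⟨x, hx, rfl⟩, hx⟩
  have h2 := Gi.card_Om hodd
  rw [← card_G0 (two_ne hodd), h1, mul_comm] at h2
  have h3 := Nat.eq_of_mul_eq_mul_left Nat.card_pos h2
  have h4 : Fintype.card F ∣ 2 := h3 ▸ (dvd_pow_self _ (by norm_num)).mul_right _
  have := Nat.le_of_dvd (by norm_num) h4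
  have := three_le hodd
  omega

theorem Irr.conj {m : ℕ} {X X' : Subgroup (GL (I m) F)} (h : Irr X) (b : GL (I m) F) (hb : ∀ x ∈ X, b⁻¹ * x * b ∈ X') :
    Irr X' := fun U hU => by
  have h1 : ∀ v, Matrix.toLin' ((b⁻¹ : GL (I m) F) : Matrix (I m) (I m) F) v = ap b⁻¹ v := fun v => Matrix.toLin'_apply _ _
  rcases h (U.comap (Matrix.toLin' ((b⁻¹ : GL (I m) F) : Matrix (I m) (I m) F))) (fun x hx u hu => by
    rw [Submodule.mem_comap, h1] at hu ⊢
    have := hU _ (hb x hx) _ hu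
    rwa [ap_mul, ap_mul, ap_ap_inv] at this) with h2 | h2
  · refine .inl (eq_bot_iff.2 fun u hu => ?_)
    have h3 : ap b u ∈ U.comap (Matrix.toLin' ((b⁻¹ : GL (I m) F) : Matrix (I m) (I m) F)) := by
      rw [Submodule.mem_comap, h1, ap_inv_ap]
      exact hu
    rw [h2, Submodule.mem_bot] at h3
    rw [Submodule.mem_bot, ← ap_inv_ap b u, h3, ap_zero]
  · refine .inr (eq_top_iff.2 fun u _ => ?_)
    have h3 : ap b u ∈ U.comap (Matrix.toLin' ((b⁻¹ : GL (I m) F) : Matrix (I m) (I m) F)) := h2 ▸ Submodule.mem_top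
    rwa [Submodule.mem_comap, h1, ap_inv_ap] at h3

/-- moving a conjugate of `G₂(q)` to the standard one -/
theorem exists_std {Γ : Type} [Group Γ] {M S Y : Subgroup Γ} {φ : M →* Perm (W 3 F)} (md : Md M S φ)
    (h1 : G2c (pre (im φ Y))) (h2 : Irr (pre (im φ Y))) :
    ∃ φ' : M →* Perm (W 3 F), Md M S φ' ∧ pre (im φ' Y) ≤ G0 F ∧ Irr (pre (im φ' Y)) := by
  obtain ⟨θ, hθ, hd, h3⟩ := h1
  refine ⟨cj (lin θ)⁻¹ φ, md.conj ((Sem 3 F).inv_mem (lin_mem_Sem hθ hd)), ?_, h2.conj θ ?_⟩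
  · rintro x ⟨⟨g, hg, eg⟩, hx⟩
    have h4 := h3 (θ * x * θ⁻¹) ⟨⟨g, hg, by
      rw [map_mul, map_mul, map_inv, ← eg, cj_apply]
      group⟩, conj_Om hθ hx⟩
    rwa [show θ⁻¹ * (θ * x * θ⁻¹) * θ = x by group] at h4
  · rintro x ⟨⟨g, hg, eg⟩, hx⟩
    exact ⟨⟨g, hg, by rw [map_mul, map_mul, map_inv, ← eg, cj_apply, inv_inv]⟩, by
      simpa using conj_Om ((Is 3 F).inv_mem hθ) hx⟩

theorem OF.nc {m : ℕ} {M H T B Y : Subgroup (Perm (W m F))} (h : OF M H T B) (hY : T ⊓ B ≤ Y) :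
    ¬ ∀ a ∈ pre Y, ∀ b ∈ pre Y, a * b = b * a := fun k => h.fac.not_comm fun x hx y hy => by
  obtain ⟨x, hx', rfl⟩ := h.exists_pre hx.1
  obtain ⟨y, hy', rfl⟩ := h.exists_pre hy.1
  rw [← map_mul, ← map_mul, k y ⟨hY hy, hy'.2⟩ x ⟨hY hx, hx'.2⟩]

/-- `T` is the standard `G₂(q)` -/
theorem OF.eq_G0 (hodd : Odd (Fintype.card F)) {M H T B : Subgroup (Perm (W 3 F))} (h : OF M H T B) (h1 : pre T ≤ G0 F)
    (hi : Irr (pre T)) : pre T = G0 F ∧ H ≤ CrG F := by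
  have h2 := two_ne hodd
  have h3 : H ≤ CrG F := h.nzH.le_CrG h2 h1 (abs_of hi (h.nc inf_le_left))
  refine ⟨?_, h3⟩
  have h4 := h.eqH h3 (not_le_CrG hodd)
  have := simple_G0 (F := F) h2
  have h5 : ((pre T).subgroupOf (G0 F)).Normal := ⟨fun x hx g => by
    obtain ⟨x', hx', e⟩ := h.nzH.conj (lin g.1) (h4.ge ⟨h.omM g.2.2, g.2.1⟩) x.1 hx
    rw [← map_inv, ← map_mul, ← map_mul] at e
    exact show g.1 * x.1 * g.1⁻¹ ∈ pre T from lin_injective e ▸ hx'⟩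
  rcases h5.eq_bot_or_eq_top with h6 | h6
  · exfalso
    refine h.nc inf_le_left fun a ha b hb => ?_
    have h7 : (⟨a, h1 ha⟩ : G0 F) ∈ (pre T).subgroupOf (G0 F) := ha
    rw [h6, Subgroup.mem_bot] at h7
    rw [show a = 1 from congrArg Subtype.val h7, one_mul, mul_one]
  · exact le_antisymm h1 (Subgroup.subgroupOf_eq_top.1 h6)

variable {Ω : Type} [Fintype Ω] [DecidableEq Ω] {X H T M S : Subgroup (Perm Ω)}

theorem Md.stab_iff {m : ℕ} {φ : M →* Perm (W m F)} (md : Md M S φ) {a : Ω} {Y : Subgroup (Perm (W m F))}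
    (e : im φ (M ⊓ stabilizer (Perm Ω) a) = im φ M ⊓ Y) (g : M) : (g : Perm Ω) a = a ↔ φ g ∈ Y := by
  have h1 := md.mem_im (X := M ⊓ stabilizer (Perm Ω) a) (g := g)
  rw [e] at h1
  exact ⟨fun k => (h1.2 ⟨g.2, k⟩).2, fun k => (h1.1 ⟨md.mem_im.2 g.2, k⟩).2⟩

/-- **dimension seven**: the survivors -/
theorem seven (h7 : Box7) (hS : BoxSpin) (hodd : Odd (Fintype.card F)) (u : Up X H T M S)
    (e : S ≃* POmega F (quadFormOdd 3 F)) (a : Ω) :
    (∃ (e : S ≃* Om 3 F) (v : W 3 F), PtE a T S e v) ∨ (Fintype.card F = 3 ∧ ∃ φ : M →* Perm (W 3 F), Md M S φ ∧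
      ((pre (im φ T) = G0 F ∧ im φ H ≤ CrG F ∧ Sm (pre (im φ (M ⊓ stabilizer (Perm Ω) a)))) ∨
        ∃ w : W 3 F, qf w = 1 ∧ ((FixP (im φ (M ⊓ stabilizer (Perm Ω) a)) w ∧ Sm (pre (im φ T))) ∨
          (FixP (im φ H) w ∧ Sm (pre (im φ (M ⊓ stabilizer (Perm Ω) a))))))) := by
  have h2 := two_ne hodd
  have hG := good (m := 3) h2 (by norm_num)
  obtain ⟨φ, md⟩ := exists_md hodd le_rfl u.socM.as e
  rcases h7 F hodd _ _ _ _ (md.of (u.fac a)) with ⟨h1, hi⟩ | ⟨h1, hi⟩ | ⟨U, ht, hd, hU | hU⟩ | ⟨h3, hw⟩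
  · obtain ⟨φ, md, h1, hi⟩ := exists_std md h1 hi
    have h := md.of (u.fac a)
    obtain ⟨hT, hH⟩ := h.eq_G0 hodd h1 hi
    by_cases hB : Irr (pre (im φ (M ⊓ stabilizer (Perm Ω) a)))
    · obtain ⟨h3, hs⟩ := Gi.boxGi boxRep F hodd (card_G0 h2) _ (hT ▸ h.pd) hB
      exact .inr ⟨h3, φ, md, .inl ⟨hT, hH, hs⟩⟩
    · obtain ⟨v, hv, hf⟩ := Gr.boxGr F hodd _ _ _ _ h hT hH hB
      obtain ⟨e, he⟩ := E4.exists_iso md u.socM.le
      have h4 := h.eqB_St hG (hf.fixS h.semB) (by rwa [Ne, Submodule.span_singleton_eq_bot]) (fun k => by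
        have := finrank_span_singleton (K := F) hv
        rw [k, finrank_top, finrank_W] at this
        omega)
      refine .inl ⟨e, v, fun s => ?_, hv, fun s => ?_⟩
      · rw [← hT, mem_pre, he, md.mem_im]
        exact ⟨fun k => ⟨k, (e s).2⟩, fun k => k.1⟩
      · refine (md.stab_iff h4 ⟨s, u.socM.le s.2⟩).trans ?_
        rw [← he]
        constructor
        · intro k
          obtain ⟨c, hc⟩ := Submodule.mem_span_singleton.1 ((k v).2 (Submodule.mem_span_singleton_self v))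
          exact ⟨c, hc.symm⟩
        · rintro ⟨c, hc⟩
          refine mem_St_of fun w hw => ?_
          obtain ⟨d, rfl⟩ := Submodule.mem_span_singleton.1 hw
          rw [lin_apply, ap_smul, hc, smul_smul]
          exact Submodule.mem_span_singleton.2 ⟨_, rfl⟩
  · obtain ⟨φ, md, h1, hi⟩ := exists_std md h1 hi
    have h := md.of (u.fac a)
    exact absurd (md.stab_iff (h.eqB (h.nzB.le_CrG h2 h1 (abs_of hi (h.nc inf_le_right))) (not_le_CrG hodd)))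
      (hS F hodd Ω X H T M S φ a u md).1
  · exact ((md.of (u.fac a)).no_tsH hG hU ht (by omega)).elim
  · have h4 := (md.of (u.fac a)).eqB_St hG hU (fun k => by rw [k, finrank_bot] at hd; omega) ht.ne_top
    exact absurd (fun g => (md.stab_iff h4 g).trans ⟨fun k w hw => (k w).2 hw, fun k => mem_St_of k⟩)
      ((hS F hodd Ω X H T M S φ a u md).2 U ht hd)
  · exact .inr ⟨h3, φ, md, .inr hw⟩

/-- the overgroups with socle `Ω₇(F)` -/
def Dat (F : Type) [Field F] (X H T M : Subgroup (Perm Ω)) : Prop :=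
  ∃ S, Up X H T M S ∧ Nonempty (S ≃* POmega F (quadFormOdd 3 F))

/-- the overgroups acting on points -/
def PtO (F : Type) [Field F] [Fintype F] (a : Ω) (X H T M : Subgroup (Perm Ω)) : Prop :=
  ∃ S, Up X H T M S ∧ ∃ (e : S ≃* Om 3 F) (v : W 3 F), PtE a T S e v

theorem Dat.congr {F' : Type} [Field F'] [Fintype F'] (h : Dat F X H T M) (hc : Fintype.card F = Fintype.card F') :
    Dat F' X H T M := by
  obtain ⟨S, u, ⟨e⟩⟩ := h
  obtain ⟨e'⟩ := UGT.U2.Rec.Congr.nonempty_POmegaOdd (FiniteField.ringEquivOfCardEq hc) 3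
  exact ⟨S, u, ⟨e.trans e'⟩⟩

theorem Dat.ne3 (h7 : Box7) (hS : BoxSpin) (hodd : Odd (Fintype.card F)) (h : Dat F X H T M) (h3 : Fintype.card F ≠ 3)
    (a : Ω) : PtO F a X H T M := by
  obtain ⟨S, u, ⟨e⟩⟩ := h
  exact ⟨S, u, (seven h7 hS hodd u e a).resolve_right fun k => h3 k.1⟩

theorem odd3 : Odd (Fintype.card (ZMod 3)) := by
  rw [ZMod.card]
  decide

theorem Dat.eq3 (h7 : Box7) (hS : BoxSpin) (h1 : BoxE1) (h3 : BoxE3) (h : Dat (ZMod 3) X H T M) (a : Ω) :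
    PtO (ZMod 3) a X H T M ∨ M ∈ OvE X H T a := by
  obtain ⟨S, u, ⟨e⟩⟩ := h
  rcases seven h7 hS odd3 u e a with k | ⟨-, φ, md, k | ⟨w, hw, ⟨k1, k2⟩ | ⟨k1, k2⟩⟩⟩
  · exact .inl ⟨S, u, k⟩
  · exact .inr ⟨S, φ, u, md, k⟩
  · exact (h1 _ _ _ _ w (md.of (u.fac a)) hw k1 k2).elim
  · exact (h3 _ _ _ _ w (md.of (u.fac a)) hw k1 k2).elim

/-- the order of `G₂(q)` -/
def ordG (q : ℕ) : ℕ := q ^ 6 * ((q ^ 6 - 1) * (q ^ 2 - 1))

theorem ordG_inj {q q' : ℕ} (hq : 3 ≤ q) (hq' : 3 ≤ q') (h : ordG q = ordG q') : q = q' := by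
  have key : ∀ {x y : ℕ}, 3 ≤ x → x < y → ordG x < ordG y := fun {x y} hx hxy => by
    have a1 : x ^ 6 < y ^ 6 := Nat.pow_lt_pow_left hxy (by norm_num)
    have a2 : x ^ 2 < y ^ 2 := Nat.pow_lt_pow_left hxy (by norm_num)
    have a3 : 1 < x ^ 6 := Nat.one_lt_pow (by norm_num) (by omega)
    have a4 : 1 < x ^ 2 := Nat.one_lt_pow (by norm_num) (by omega)
    exact Nat.mul_lt_mul_of_lt_of_le a1 (Nat.mul_le_mul (by omega) (by omega)) (Nat.mul_pos (by omega) (by omega))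
  rcases lt_trichotomy q q' with k | k | k
  · exact absurd h (key hq k).ne
  · exact k
  · exact absurd h (key hq' k).ne'

theorem PtO.card (hodd : Odd (Fintype.card F)) {a : Ω} (h : PtO F a X H T M) : Nat.card T = ordG (Fintype.card F) := by
  obtain ⟨S, u, e, v, p⟩ := h
  obtain ⟨j, -⟩ := exists_j u.le p.tg
  rw [Nat.card_congr j.toEquiv, card_G0 (two_ne hodd), ordG]

theorem OvE.card {a : Ω} (h : M ∈ OvE X H T a) : Nat.card T = ordG 3 := by
  obtain ⟨S, φ, u, md, hT, -⟩ := h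
  have h1 := (md.of (u.fac a)).map_pre
  have h2 : Nat.card (im φ T) = Nat.card T := by
    rw [im, Subgroup.card_map_of_injective md.inj]
    exact Nat.card_congr (Subgroup.subgroupOfEquivOfLe (u.le.trans u.socM.le)).toEquiv
  rw [← h2, ← h1, card_map_lin, hT, card_G0 (two_ne odd3), ZMod.card, ordG]

theorem Dat.card (h7 : Box7) (hS : BoxSpin) (h1 : BoxE1) (h3 : BoxE3) (hodd : Odd (Fintype.card F)) (h : Dat F X H T M)
    (a : Ω) : Nat.card T = ordG (Fintype.card F) := by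
  by_cases k : Fintype.card F = 3
  · rw [k]
    rcases (h.congr (k.trans (ZMod.card 3).symm)).eq3 h7 hS h1 h3 a with p | p
    · rw [p.card odd3, ZMod.card]
    · exact OvE.card p
  · exact (h.ne3 h7 hS hodd k a).card hodd

/-- all overgroups act on points -/
theorem row_pt (hodd : Odd (Fintype.card F)) {a : Ω} {O : Set (Subgroup (Perm Ω))} (h0 : O.Nonempty)
    (h : ∀ M ∈ O, PtO F a X H T M) : RO (Nat.card T) (Fintype.card Ω) 1 ∧ O.ncard ≤ 1 := by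
  obtain ⟨M, hM⟩ := h0
  refine ⟨.inl ⟨rfl, ?_⟩, (Set.ncard_le_one_iff (Set.toFinite O)).2 fun {M₁ M₂} k₁ k₂ => ?_⟩
  · obtain ⟨p, hp⟩ := CharP.exists F
    obtain ⟨n, hp', hn⟩ := FiniteField.card F p
    refine ⟨p, n, Fintype.card F, hp', fun k => ?_, n.pos, hn, (h M hM).card hodd, ?_⟩
    · rw [hn, k] at hodd
      exact (Nat.not_even_iff_odd.2 hodd) (Nat.even_pow.2 ⟨even_two, n.ne_zero⟩)
    · obtain ⟨S, u, e, v, p⟩ := h M hM
      rcases p.deg hodd u with k | k | k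
      · exact .inl k.2
      · exact .inr (.inl k.2.2)
      · exact .inr (.inr k.2)
  · obtain ⟨S₁, u₁, e₁, v₁, p₁⟩ := h M₁ k₁
    obtain ⟨S₂, u₂, e₂, v₂, p₂⟩ := h M₂ k₂
    exact p₁.rig hodd u₁ u₂ p₂

/-- **the family `Ω_{2m+1}(q)`** from the boxes -/
theorem bnd_of (hA : BoxA) (hR : BoxRed) (hG : BoxGeo) (hS : BoxS) (hC : BoxCS) (h7 : Box7) (hP : BoxSpin) (h1 : BoxE1)
    (h3 : BoxE3) (h4 : BoxE4) : Bnd fO RO := fun Ω _ _ X H T hn => by
  obtain ⟨a⟩ : Nonempty Ω := Fintype.card_pos_iff.1 (by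
    obtain ⟨M, S, u, -⟩ := hn
    have := u.two
    omega)
  have dat : ∀ M ∈ OvP fO X H T, ∃ (F : Type) (_ : Field F) (_ : Fintype F), Odd (Fintype.card F) ∧ Dat F X H T M := by
    rintro M ⟨S, u, F, _, _, m, hm, hodd, ⟨e⟩⟩
    rcases hm.eq_or_lt with rfl | hm'
    · exact ⟨F, _, _, hodd, S, u, ⟨e⟩⟩
    · obtain ⟨φ, md⟩ := exists_md hodd hm u.socM.as e
      exact (big hA hR hG hS hC hodd hm' (md.of (u.fac a))).elim
  obtain ⟨M₀, hM₀⟩ := id hn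
  obtain ⟨F, _, _, hodd, d₀⟩ := dat M₀ hM₀
  have dat' : ∀ M ∈ OvP fO X H T, Dat F X H T M := fun M hM => by
    obtain ⟨F', _, _, hodd', d⟩ := dat M hM
    exact d.congr (ordG_inj (three_le hodd') (three_le hodd)
      ((d.card h7 hP h1 h3 hodd' a).symm.trans (d₀.card h7 hP h1 h3 hodd a)))
  by_cases k : Fintype.card F = 3
  · have dat3 : ∀ M ∈ OvP fO X H T, PtO (ZMod 3) a X H T M ∨ M ∈ OvE X H T a := fun M hM =>
      ((dat' M hM).congr (k.trans (ZMod.card 3).symm)).eq3 h7 hP h1 h3 a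
    by_cases hE : (OvE X H T a).Nonempty
    · obtain ⟨h5, h6⟩ := h4 Ω X H T a hE
      refine ⟨4, .inr ⟨rfl, (OvE.card hE.choose_spec).trans (by norm_num [ordG]), h5⟩,
        (Set.ncard_le_ncard (fun M hM => (dat3 M hM).resolve_left ?_) (Set.toFinite _)).trans h6⟩
      rintro ⟨S, u, e, v, p⟩
      have := p.deg odd3 u
      rw [ZMod.card] at this
      omega
    · exact ⟨1, row_pt odd3 hn fun M hM => (dat3 M hM).resolve_right fun k => hE ⟨M, k⟩⟩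
  · exact ⟨1, row_pt hodd hn fun M hM => (dat' M hM).ne3 h7 hP hodd k a⟩

end Cfsg.Agent.SM.Oo
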