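import Cfsg.Agent.SM.Oo.G2B
import Cfsg.Agent.SM.Oo.Cnt

/-!
# SM (S3570), family `fO`: `G₂(q) < Ω₇(q)` on points: degree and rigidity (helper96)
-/

set_option autoImplicit false
set_option linter.unusedSectionVars false

namespace Cfsg.Agent.SM.Oo

open Cfsg Cfsg.Geo Matrix Equiv Module Subgroup MulAction
open scoped MatrixGroups

variable {F : Type} [Field F] [Fintype F] {Ω : Type} [Fintype Ω] [DecidableEq Ω] {X H T M S M₁ S₁ M₂ S₂ : Subgroup (Perm Ω)}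
  {a : Ω}

/-- `T = G₂(q)` in `S = Ω₇(q)` on the orbit of the point `⟨v⟩` -/
structure PtE (a : Ω) (T S : Subgroup (Perm Ω)) (e : S ≃* Om 3 F) (v : W 3 F) : Prop where
  tg : ∀ s : S, (s : Perm Ω) ∈ T ↔ (e s : GL (I 3) F) ∈ G0 F
  ne : v ≠ 0
  st : ∀ s : S, (s : Perm Ω) a = a ↔ ∃ c : F, ap (e s : GL (I 3) F) v = c • v

theorem exists_j {e : S ≃* Om 3 F} (hT : T ≤ S) (tg : ∀ s : S, (s : Perm Ω) ∈ T ↔ (e s : GL (I 3) F) ∈ G0 F) :
    ∃ j : T ≃* G0 F, ∀ t : T, (j t : GL (I 3) F) = e ⟨t, hT t.2⟩ := by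
  let ψ : T →* GL (I 3) F := (Om 3 F).subtype.comp (e.toMonoidHom.comp (Subgroup.inclusion hT))
  have h5 : Function.Injective ψ :=
    (Subgroup.subtype_injective _).comp (e.injective.comp (Subgroup.inclusion_injective hT))
  have h6 : ψ.range = G0 F := by
    ext x
    constructor
    · rintro ⟨t, rfl⟩
      exact (tg ⟨t, hT t.2⟩).1 t.2
    · intro hx
      obtain ⟨s, hs⟩ := e.surjective ⟨x, hx.2⟩
      have h7 : (e s : GL (I 3) F) = x := congrArg Subtype.val hs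
      exact ⟨⟨s, (tg s).2 (h7 ▸ hx)⟩, h7⟩
  exact ⟨(MonoidHom.ofInjective h5).trans (MulEquiv.subgroupCongr h6), fun _ => rfl⟩

theorem PtE.fix_iff {e : S ≃* Om 3 F} {v : W 3 F} (p : PtE a T S e v) (s x : S) :
    (s : Perm Ω) ((x : Perm Ω) a) = (x : Perm Ω) a ↔
      ∃ c : F, ap (e s : GL (I 3) F) (ap (e x : GL (I 3) F) v) = c • ap (e x : GL (I 3) F) v := by
  have h1 := p.st (x⁻¹ * s * x)
  have h2 : ((x⁻¹ * s * x : S) : Perm Ω) a = a ↔ (s : Perm Ω) ((x : Perm Ω) a) = (x : Perm Ω) a := Perm.inv_eq_iff_eq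
  rw [← h2, h1]
  refine exists_congr fun c => ?_
  rw [map_mul, map_mul, map_inv, Subgroup.coe_mul, Subgroup.coe_mul, Subgroup.coe_inv, ap_mul, ap_mul, ← ap_smul]
  exact ⟨fun h => by rw [← h, ap_ap_inv], fun h => by rw [h, ap_inv_ap]⟩

/-- the number of points -/
theorem PtE.count (h2 : (2 : F) ≠ 0) (u : Up X H T M S) {e : S ≃* Om 3 F} {v : W 3 F} (p : PtE a T S e v) :
    Fintype.card Ω * Nat.card {c : F // c ≠ 0 ∧ c ^ 2 * qf v = qf v} = Nat.card {w : W 3 F // w ≠ 0 ∧ qf w = qf v} := by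
  choose t ht et using u.trans a
  let x : Ω → GL (I 3) F := fun b => e ⟨t b, u.le (ht b)⟩
  have hx : ∀ b, x b ∈ Om 3 F := fun b => (e _).2
  have ne : ∀ g : GL (I 3) F, ap g v ≠ 0 := fun g h => p.ne (by rw [← ap_inv_ap g v, h, ap_zero])
  rw [← Nat.card_eq_fintype_card, ← Nat.card_prod]
  refine Nat.card_congr (Equiv.ofBijective (fun z => ⟨z.2.1 • ap (x z.1) v, smul_ne_zero z.2.2.1 (ne _), by
    rw [qf_smul, mem_Is.1 (Om_le (hx _)), z.2.2.2]⟩) ⟨?_, ?_⟩)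
  · rintro ⟨b, c, hc⟩ ⟨b', c', hc'⟩ h
    have h1 : c • ap (x b) v = c' • ap (x b') v := congrArg Subtype.val h
    have h3 : b = b' := by
      have h4 := (p.st ((⟨t b', u.le (ht b')⟩ : S)⁻¹ * ⟨t b, u.le (ht b)⟩)).2 ⟨c⁻¹ * c', by
        rw [map_mul, map_inv, Subgroup.coe_mul, Subgroup.coe_inv, ap_mul]
        show ap (x b')⁻¹ (ap (x b) v) = _
        rw [← inv_smul_smul₀ hc.1 (ap (x b) v), h1, smul_smul, ap_smul, ap_inv_ap]⟩
      have h5 : t b a = t b' a := Perm.inv_eq_iff_eq.1 h4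
      rw [← et b, h5, et]
    subst h3
    rw [show (⟨c, hc⟩ : {c : F // c ≠ 0 ∧ c ^ 2 * qf v = qf v}) = ⟨c', hc'⟩ from
      Subtype.ext (smul_left_injective F (ne _) h1)]
  · rintro ⟨w, hw0, hw⟩
    obtain ⟨g, hg, eg⟩ := trans_norm (good h2 (by norm_num)) p.ne hw0 hw.symm
    obtain ⟨s, hs⟩ := e.surjective ⟨g, hg⟩
    have h7 : (e s : GL (I 3) F) = g := congrArg Subtype.val hs
    obtain ⟨c, hc⟩ := (p.st ((⟨t ((s : Perm Ω) a), u.le (ht _)⟩ : S)⁻¹ * s)).1 (Perm.inv_eq_iff_eq.2 (et _).symm)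
    rw [map_mul, map_inv, Subgroup.coe_mul, Subgroup.coe_inv, ap_mul, h7, eg] at hc
    have h8 : w = c • ap (x ((s : Perm Ω) a)) v := by rw [← ap_smul, ← hc, ap_ap_inv]
    refine ⟨⟨(s : Perm Ω) a, c, fun k => hw0 (by rw [h8, k, zero_smul]), ?_⟩, Subtype.ext h8.symm⟩
    rw [← hw]
    conv_rhs => rw [h8, qf_smul, mem_Is.1 (Om_le (hx _)), ← hw]

/-- the degree -/
theorem PtE.deg (hodd : Odd (Fintype.card F)) (u : Up X H T M S) {e : S ≃* Om 3 F} {v : W 3 F} (p : PtE a T S e v) :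
    (qf v = 0 ∧ Fintype.card Ω * (Fintype.card F - 1) = Fintype.card F ^ 6 - 1) ∨
    (qf v ≠ 0 ∧ IsSquare (qf v) ∧ 2 * Fintype.card Ω = Fintype.card F ^ 3 * (Fintype.card F ^ 3 + 1)) ∨
    (¬ IsSquare (qf v) ∧ 2 * Fintype.card Ω = Fintype.card F ^ 3 * (Fintype.card F ^ 3 - 1)) := by
  classical
  have h2 := two_ne hodd
  have h1 := p.count h2 u
  obtain ⟨b0, b1, b2⟩ := boxCnt F 3 hodd (qf v)
  by_cases h0 : qf v = 0
  · refine .inl ⟨h0, ?_⟩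
    have h3 : Nat.card {c : F // c ≠ 0 ∧ c ^ 2 * qf v = qf v} = Fintype.card F - 1 := by
      rw [← Fintype.card_units, ← Nat.card_eq_fintype_card]
      exact (Nat.card_congr (unitsEquivNeZero.trans (Equiv.subtypeEquivRight fun c => by simp [h0]))).symm
    have h4 : Nat.card {w : W 3 F // w ≠ 0 ∧ qf w = qf v} + 1 = Nat.card {w : W 3 F // qf w = qf v} := by
      rw [Nat.card_eq_fintype_card, Nat.card_eq_fintype_card, Fintype.card_subtype, Fintype.card_subtype,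
        ← Finset.card_erase_add_one (s := Finset.univ.filter fun w : W 3 F => qf w = qf v) (a := 0)
          (by simp [qf_zero, h0])]
      congr 2
      ext w
      simp
    rw [b0 h0] at h4
    rw [← h3, h1]
    exact Nat.eq_sub_of_add_eq h4
  · have h3 : Nat.card {c : F // c ≠ 0 ∧ c ^ 2 * qf v = qf v} = 2 := by
      rw [Nat.card_eq_two_iff]
      refine ⟨⟨1, one_ne_zero, by ring⟩, ⟨-1, neg_ne_zero.2 one_ne_zero, by ring⟩, fun k => h2 ?_, ?_⟩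
      · have : (1 : F) = -1 := congrArg Subtype.val k
        linear_combination this
      · rw [Set.eq_univ_iff_forall]
        rintro ⟨c, hc0, hc⟩
        have h4 : c * c = 1 := mul_right_cancel₀ h0 (by linear_combination hc)
        rcases mul_self_eq_one_iff.1 h4 with rfl | rfl
        · exact .inl rfl
        · exact .inr rfl
    have h4 : Nat.card {w : W 3 F // w ≠ 0 ∧ qf w = qf v} = Nat.card {w : W 3 F // qf w = qf v} :=
      Nat.card_congr (Equiv.subtypeEquivRight fun w => ⟨fun k => k.2, fun k => ⟨ne_of_qf (k ▸ h0), k⟩⟩)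
    rw [h3, h4, mul_comm] at h1
    by_cases h5 : IsSquare (qf v)
    · exact .inr (.inl ⟨h0, h5, h1.trans (b1 h0 h5)⟩)
    · exact .inr (.inr ⟨h5, h1.trans (b2 h5)⟩)

theorem deg_ne {q n : ℕ} (hq : 3 ≤ q) : (n * (q - 1) = q ^ 6 - 1 → 2 * n ≠ q ^ 3 * (q ^ 3 + 1) ∧ 2 * n ≠ q ^ 3 * (q ^ 3 - 1)) ∧
    (2 * n = q ^ 3 * (q ^ 3 + 1) → 2 * n ≠ q ^ 3 * (q ^ 3 - 1)) := by
  have h3 : 1 ≤ q ^ 3 := Nat.one_le_pow _ _ (by omega)
  refine ⟨fun h => ?_, fun h k => ?_⟩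
  · have h1 : ¬ q ∣ 2 * n := fun k => by
      have h4 : q ∣ 2 * (q ^ 6 - 1) := by
        rw [← h, ← mul_assoc]
        exact k.mul_right _
      have h5 : 1 ≤ q ^ 6 := Nat.one_le_pow _ _ (by omega)
      have h6 : q ∣ 2 * q ^ 6 := (dvd_pow_self q (by norm_num)).mul_left _
      have h7 := (Nat.dvd_sub h6 h4)
      rw [show 2 * q ^ 6 - 2 * (q ^ 6 - 1) = 2 by omega] at h7
      have := Nat.le_of_dvd (by norm_num) h7
      omega
    have h8 : q ∣ q ^ 3 := dvd_pow_self q (by norm_num)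
    exact ⟨fun k => h1 (k ▸ h8.mul_right _), fun k => h1 (k ▸ h8.mul_right _)⟩
  · have := Nat.eq_of_mul_eq_mul_left h3 (h.symm.trans k)
    omega

/-- the degree determines the type of the point -/
theorem PtE.type (hodd : Odd (Fintype.card F)) (u₁ : Up X H T M₁ S₁) (u₂ : Up X H T M₂ S₂) {e₁ : S₁ ≃* Om 3 F}
    {e₂ : S₂ ≃* Om 3 F} {v₁ v₂ : W 3 F} (p₁ : PtE a T S₁ e₁ v₁) (p₂ : PtE a T S₂ e₂ v₂) (σ : F ≃+* F) :
    ∃ c : F, c ≠ 0 ∧ σ (qf v₁) = c ^ 2 * qf v₂ := by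
  obtain ⟨d1, d2⟩ := deg_ne (n := Fintype.card Ω) (three_le hodd)
  have sq : ∀ z : F, IsSquare (σ z) ↔ IsSquare z := fun z =>
    ⟨fun k => by simpa using k.map σ.symm, fun k => k.map σ⟩
  rcases p₁.deg hodd u₁ with ⟨a1, a2⟩ | ⟨a0, a1, a2⟩ | ⟨a1, a2⟩ <;>
    rcases p₂.deg hodd u₂ with ⟨b1, b2⟩ | ⟨b0, b1, b2⟩ | ⟨b1, b2⟩
  · exact ⟨1, one_ne_zero, by rw [a1, b1, map_zero, mul_zero]⟩
  · exact absurd b2 (d1 a2).1
  · exact absurd b2 (d1 a2).2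
  · exact absurd a2 (d1 b2).1
  · obtain ⟨x, hx⟩ := (sq _).2 a1
    obtain ⟨y, hy⟩ := b1
    have hy0 : y ≠ 0 := fun k => b0 (by rw [hy, k, mul_zero])
    have hx0 : x ≠ 0 := fun k => a0 (σ.injective (by rw [hx, k, mul_zero, map_zero]))
    exact ⟨x / y, div_ne_zero hx0 hy0, by rw [hx, hy]; field_simp⟩
  · exact absurd b2 (d2 a2)
  · exact absurd a2 (d1 b2).2
  · exact absurd a2 (d2 b2)
  · obtain ⟨c, hc⟩ := exists_mul_sq (fun k => a1 ((sq _).1 k)) b1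
    refine ⟨c, fun k => a1 ((sq _).1 ?_), hc⟩
    rw [hc, k]
    exact ⟨0, by ring⟩

/-- **rigidity** -/
theorem PtE.rig (hodd : Odd (Fintype.card F)) (u₁ : Up X H T M₁ S₁) (u₂ : Up X H T M₂ S₂) {e₁ : S₁ ≃* Om 3 F}
    {e₂ : S₂ ≃* Om 3 F} {v₁ v₂ : W 3 F} (p₁ : PtE a T S₁ e₁ v₁) (p₂ : PtE a T S₂ e₂ v₂) : M₁ = M₂ := by
  have h2 := two_ne hodd
  have hG := good (m := 3) h2 (by norm_num)
  obtain ⟨j₁, hj₁⟩ := exists_j u₁.le p₁.tg
  obtain ⟨j₂, hj₂⟩ := exists_j u₂.le p₂.tg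
  rcases aut_G0 hodd (j₁.symm.trans j₂) with ⟨g, hg, e⟩ | ⟨x₁, x₂, h3, h4⟩
  · obtain ⟨σ, g1, g2, -⟩ := Sem.ex hg
    obtain ⟨c, hc, h5⟩ := p₁.type hodd u₁ u₂ p₂ σ
    obtain ⟨y, hy, ey⟩ := trans_norm hG (smul_ne_zero hc p₂.ne) (Sem.ne hg p₁.ne) (by rw [qf_smul, g2, h5])
    obtain ⟨x, hx⟩ := e₂.surjective ⟨y, hy⟩
    have h7 : (e₂ x : GL (I 3) F) = y := congrArg Subtype.val hx
    let ι : Om 3 F ≃* (Om 3 F).map lin := (Om 3 F).equivMapOfInjective lin lin_injective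
    let κ : (Om 3 F).map (lin : GL (I 3) F →* Perm (W 3 F)) ≃* (Om 3 F).map (lin : GL (I 3) F →* Perm (W 3 F)) :=
      { toFun := fun s => ⟨g * s * g⁻¹, conj_mem_Om hg s.2⟩
        invFun := fun s => ⟨g⁻¹ * s * g⁻¹⁻¹, conj_mem_Om ((Sem 3 F).inv_mem hg) s.2⟩
        left_inv := fun s => Subtype.ext (by simp only; group)
        right_inv := fun s => Subtype.ext (by simp only; group)
        map_mul' := fun s s' => Subtype.ext (by simp only [Subgroup.coe_mul]; group) }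
    refine u₁.rig_model u₂ (e₁.trans ι) (e₂.trans ι) κ (fun t ht => Subtype.ext ?_) (a := a) (b := (x : Perm Ω) a)
      fun s s' hs es => ?_
    · have h8 := e (j₁ ⟨t, ht⟩)
      rw [MulEquiv.trans_apply, MulEquiv.symm_apply_apply, hj₁, hj₂] at h8
      exact h8.symm
    · obtain ⟨d, hd⟩ := (p₁.st s).1 hs
      have h8 : g * lin (e₁ s : GL (I 3) F) * g⁻¹ = lin (e₂ s' : GL (I 3) F) := congrArg Subtype.val es
      have h9 : ap (e₂ s' : GL (I 3) F) (g v₁) = σ d • g v₁ := by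
        rw [← lin_apply, ← h8, Perm.mul_apply, Perm.mul_apply, show g⁻¹ (g v₁) = v₁ from Perm.inv_eq_iff_eq.2 rfl,
          lin_apply, hd, g1]
      refine (p₂.fix_iff s' x).2 ⟨σ d, smul_right_injective _ hc ?_⟩
      show c • _ = c • _
      rw [← ap_smul, ← ap_smul, h7, ey, h9, smul_comm, ← ap_smul y c, ey]
  · exfalso
    obtain ⟨v, hv0, hv, f1, f2⟩ := h3 (qf v₁)
    obtain ⟨y, hy, ey⟩ := trans_norm hG p₁.ne hv0 hv.symm
    obtain ⟨x, hx⟩ := e₁.surjective ⟨y, hy⟩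
    have h7 : (e₁ x : GL (I 3) F) = y := congrArg Subtype.val hx
    obtain ⟨t, ht, et⟩ := u₂.trans a ((x : Perm Ω) a)
    have key : ∀ z : G0 F, ap z v = v → ∃ c : F, ap ((j₁.symm.trans j₂) z) (ap (e₂ ⟨t, u₂.le ht⟩ : GL (I 3) F) v₂) =
        c • ap (e₂ ⟨t, u₂.le ht⟩ : GL (I 3) F) v₂ := fun z hz => by
      obtain ⟨s, rfl⟩ := j₁.surjective z
      rw [MulEquiv.trans_apply, MulEquiv.symm_apply_apply, hj₂]
      refine (p₂.fix_iff ⟨s, u₂.le s.2⟩ ⟨t, u₂.le ht⟩).1 ?_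
      show (s : Perm Ω) (t a) = t a
      rw [et]
      refine (p₁.fix_iff ⟨s, u₁.le s.2⟩ x).2 ⟨1, ?_⟩
      rw [h7, ey, ← hj₁, hz, one_smul]
    obtain ⟨c₁, k₁⟩ := key x₁ f1
    obtain ⟨c₂, k₂⟩ := key x₂ f2
    exact p₂.ne (by rw [← ap_inv_ap (e₂ ⟨t, u₂.le ht⟩ : GL (I 3) F) v₂, h4 _ _ _ k₁ k₂, ap_zero])

end Cfsg.Agent.SM.Oo
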