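import Cfsg.Agent.SM.Oo.Cnt

/-!
# SM (S3570), family `fO`: the invariant subspaces of a group transitive on the minus points (helper43)

`pp` (the orthogonal complement), `two_repr`, `rad_big`, `univ`, `TrM.sq`, `TrM.rad`, `boxRed`.
-/

set_option autoImplicit false
set_option linter.unusedSectionVars false
set_option maxHeartbeats 400000

namespace Cfsg.Agent.SM.Oo.Geo

open Cfsg Cfsg.Geo Matrix Module Polynomial
open Cfsg.Agent.LieClassical.OrthForms (oddForm)
open scoped MatrixGroups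

variable {m : ℕ} {F : Type} [Field F]

/-- the polar form, bundled -/
def BB (m : ℕ) (F : Type) [Field F] : LinearMap.BilinForm F (W m F) := QuadraticMap.polarBilin (oddForm m F)

theorem BB_apply (u v : W m F) : BB m F u v = bf u v := (bf_eq u v).symm

theorem BB_refl : (BB m F).IsRefl := fun u v h => by rw [BB_apply, bf_comm, ← BB_apply, h]

theorem BB_nondeg (h2 : (2 : F) ≠ 0) : (BB m F).Nondegenerate :=
  ⟨fun u h => bf_nondeg h2 fun v => by rw [← BB_apply, h], fun u h => bf_nondeg h2 fun v => by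
    rw [bf_comm, ← BB_apply, h]⟩

/-- the orthogonal complement -/
def pp (U : Submodule F (W m F)) : Submodule F (W m F) := (BB m F).orthogonal U

theorem mem_pp {U : Submodule F (W m F)} {w : W m F} : w ∈ pp U ↔ ∀ u ∈ U, bf u w = 0 := by
  simp only [pp, LinearMap.BilinForm.mem_orthogonal_iff, BB_apply]

theorem finrank_pp (h2 : (2 : F) ≠ 0) (U : Submodule F (W m F)) : finrank F (pp U) + finrank F U = 2 * m + 1 := by
  have h1 := LinearMap.BilinForm.finrank_orthogonal (BB_nondeg (m := m) h2) U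
  have h3 := Submodule.finrank_le U
  rw [finrank_W] at h1 h3
  rw [pp, h1]
  omega

theorem pp_pp (h2 : (2 : F) ≠ 0) (U : Submodule F (W m F)) : pp (pp U) = U :=
  LinearMap.BilinForm.orthogonal_orthogonal (BB_nondeg h2) BB_refl U

theorem inv_pp {K : Subgroup (GL (I m) F)} (hK : K ≤ Is m F) {U : Submodule F (W m F)} (h : Inv K U) : Inv K (pp U) := by
  intro x hx w hw
  refine mem_pp.2 fun u hu => ?_
  rw [← ap_ap_inv x u, bf_ap (hK hx)]
  exact mem_pp.1 hw _ (h _ (K.inv_mem hx) u hu)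

theorem ts_rad (h2 : (2 : F) ≠ 0) (U : Submodule F (W m F)) : Ts (U ⊓ pp U) := fun u hu => by
  have h := mem_pp.1 hu.2 u hu.1
  rw [bf_self] at h
  exact (mul_eq_zero.1 h).resolve_left h2

theorem ts_le {U : Submodule F (W m F)} (h : Ts U) : U ≤ pp U := fun _ hw => mem_pp.2 fun _ hu => h.bf hu hw

/-- binary diagonal forms over finite fields of odd order are universal -/
theorem two_repr {E : Type*} [Field E] [Fintype E] (hodd : Odd (Fintype.card E)) {a b : E} (ha : a ≠ 0) (hb : b ≠ 0)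
    (c : E) : ∃ x y : E, a * x ^ 2 + b * y ^ 2 = c := by
  have h1 : (C a * X ^ 2 : E[X]).degree = 2 := degree_C_mul_X_pow 2 ha
  have h3 : (C b * X ^ 2 - C c : E[X]).degree = 2 := by
    rw [degree_sub_C, degree_C_mul_X_pow 2 hb]
    · rfl
    · rw [degree_C_mul_X_pow 2 hb]
      exact_mod_cast Nat.zero_lt_two
  obtain ⟨x, y, h⟩ := FiniteField.exists_root_sum_quadratic h1 h3 (Nat.odd_iff.1 hodd)
  simp only [eval_mul, eval_C, eval_pow, eval_X, eval_sub] at h
  exact ⟨x, y, by linear_combination h⟩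

variable [Fintype F]

/-- a subspace which misses a norm is almost totally singular -/
theorem rad_big (hodd : Odd (Fintype.card F)) {U : Submodule F (W m F)} {c : F} (h : ∀ u ∈ U, qf u ≠ c) :
    finrank F U ≤ finrank F ↥(U ⊓ pp U) + 1 := by
  have h2 := two_ne hodd
  by_cases hs : Ts U
  · rw [inf_eq_left.2 (ts_le hs)]
    omega
  obtain ⟨u, hu, hq⟩ : ∃ u ∈ U, qf u ≠ 0 := by
    by_contra hc
    exact hs fun u hu => by_contra fun e => hc ⟨u, hu, e⟩
  have hY : Ts (U ⊓ pp (Submodule.span F {u})) := by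
    intro y hy
    by_contra hy0
    obtain ⟨a, b, e⟩ := two_repr hodd hq hy0 c
    have h3 : bf u y = 0 := mem_pp.1 hy.2 u (Submodule.mem_span_singleton_self u)
    refine h (a • u + b • y) (U.add_mem (U.smul_mem _ hu) (U.smul_mem _ hy.1)) ?_
    rw [qf_add, qf_smul, qf_smul, bf_smul, bf_smul', h3, ← e]
    ring
  have hle : U ⊓ pp (Submodule.span F {u}) ≤ U ⊓ pp U := by
    intro y hy
    refine ⟨hy.1, mem_pp.2 fun x hx => ?_⟩
    have h3 : bf u y = 0 := mem_pp.1 hy.2 u (Submodule.mem_span_singleton_self u)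
    have h4 : x + (-(bf u x / (2 * qf u))) • u ∈ U ⊓ pp (Submodule.span F {u}) := by
      refine ⟨U.add_mem hx (U.smul_mem _ hu), mem_pp.2 fun z hz => ?_⟩
      obtain ⟨d, rfl⟩ := Submodule.mem_span_singleton.1 hz
      rw [bf_smul', bf_add, bf_smul, bf_self]
      field_simp
      ring
    have h5 := hY.bf h4 hy
    rwa [bf_add', bf_smul', h3, mul_zero, add_zero] at h5
  have h6 := Submodule.finrank_mono hle
  have h7 := Submodule.finrank_sup_add_finrank_inf_eq U (pp (Submodule.span F {u}))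
  have h8 := finrank_pp h2 (Submodule.span F {u})
  have h9 := Submodule.finrank_le (U ⊔ pp (Submodule.span F {u}))
  rw [finrank_span_singleton (ne_of_qf hq)] at h8
  rw [finrank_W] at h9
  omega

/-- a non-degenerate subspace of dimension at least two represents everything -/
theorem univ (hodd : Odd (Fintype.card F)) {U : Submodule F (W m F)} (hU : ∀ w ∈ U, w ≠ 0 → ∃ x ∈ U, bf x w ≠ 0)
    (hd : 2 ≤ finrank F U) (c : F) : ∃ u ∈ U, qf u = c := by
  by_contra hc
  have h1 := rad_big hodd (U := U) (c := c) fun u hu e => hc ⟨u, hu, e⟩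
  have h3 : U ⊓ pp U = ⊥ := (Submodule.eq_bot_iff _).2 fun w hw => by
    by_contra h0
    obtain ⟨x, hx, e⟩ := hU w hw.1 h0
    exact e (mem_pp.1 hw.2 x hx)
  rw [h3, finrank_bot] at h1
  omega

theorem univ_minus (hodd : Odd (Fintype.card F)) (hm : 1 ≤ m) {U : Submodule F (W m F)}
    (hU : ∀ w ∈ U, w ≠ 0 → ∃ x ∈ U, bf x w ≠ 0) (hd : 2 ≤ finrank F U) : ∃ u ∈ U, ¬ IsSquare (qf u) := by
  obtain ⟨v, hv⟩ := exists_minus (F := F) hodd hm
  obtain ⟨u, hu, e⟩ := univ hodd hU hd (qf v)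
  exact ⟨u, hu, e ▸ hv⟩

/-- an invariant set with a minus vector contains all vectors of that norm -/
theorem trm_sub {K : Subgroup (GL (I m) F)} (h : TrM K) {S : Set (W m F)} (hS : ∀ y ∈ K, ∀ s ∈ S, ap y s ∈ S)
    (hn : ∀ s ∈ S, -s ∈ S) {v : W m F} (hv : v ∈ S) (hq : ¬ IsSquare (qf v)) {w : W m F} (hw : qf w = qf v) : w ∈ S := by
  obtain ⟨y, hy, e | e⟩ := h v w hq hw
  · exact e ▸ hS y hy v hv
  · rw [← neg_neg w, ← e]
    exact hn _ (hS y hy v hv)

/-- a proper invariant subspace has no minus vector -/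
theorem trm_sq (hodd : Odd (Fintype.card F)) (hm : 2 ≤ m) {K : Subgroup (GL (I m) F)} (h : TrM K)
    {U : Submodule F (W m F)} (hU : Inv K U) (h1 : U ≠ ⊤) {u : W m F} (hu : u ∈ U) : IsSquare (qf u) := by
  by_contra hq
  have hle : Submodule.span F {w : W m F | qf w = qf u} ≤ U :=
    Submodule.span_le.2 fun w hw => trm_sub h (S := U) hU (fun _ => U.neg_mem) hu hq hw
  have hI : Inv (Om m F) (Submodule.span F {w : W m F | qf w = qf u}) := by
    intro x hx w hw
    induction hw using Submodule.span_induction with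
    | mem w hw => exact Submodule.subset_span ((mem_Is.1 (Om_le hx) w).trans hw)
    | zero => rw [ap_zero]; exact Submodule.zero_mem _
    | add a b _ _ ha hb => rw [ap_add]; exact Submodule.add_mem _ ha hb
    | smul c a _ ha => rw [ap_smul]; exact Submodule.smul_mem _ _ ha
  rcases irr_Om (good (two_ne hodd) hm) _ hI with e | e
  · have h3 : u ∈ Submodule.span F {w : W m F | qf w = qf u} := Submodule.subset_span rfl
    rw [e] at h3
    exact ne_of_qf (ne_zero_of_not_isSquare hq) h3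
  · exact h1 (top_le_iff.1 (e ▸ hle))

theorem trm_big (hodd : Odd (Fintype.card F)) (hm : 2 ≤ m) {K : Subgroup (GL (I m) F)} (h : TrM K)
    {U : Submodule F (W m F)} (hU : Inv K U) (h1 : U ≠ ⊤) : finrank F U ≤ finrank F ↥(U ⊓ pp U) + 1 := by
  obtain ⟨v, hv⟩ := exists_minus (F := F) (m := m) hodd (by omega)
  exact rad_big hodd (c := qf v) fun u hu e => hv (e ▸ trm_sq hodd hm h hU h1 hu)

/-- the radical of a proper invariant subspace has dimension `m` -/
theorem trm_rad (hodd : Odd (Fintype.card F)) (hm : 2 ≤ m) {K : Subgroup (GL (I m) F)} (hK : K ≤ Is m F) (h : TrM K)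
    {U : Submodule F (W m F)} (hU : Inv K U) (h0 : U ≠ ⊥) (h1 : U ≠ ⊤) : finrank F ↥(U ⊓ pp U) = m := by
  have h2 := two_ne hodd
  have h3 := trm_big hodd hm h hU h1
  have h4 := finrank_pp h2 U
  have h5 : pp U ≠ ⊤ := fun e => by
    rw [e, finrank_top, finrank_W] at h4
    exact h0 (Submodule.finrank_eq_zero.1 (by omega))
  have h6 := trm_big hodd hm h (inv_pp hK hU) h5
  rw [pp_pp h2, inf_comm] at h6
  have h7 := finrank_pp h2 (U ⊓ pp U)
  have h8 := Submodule.finrank_mono (ts_le (ts_rad h2 U))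
  omega

theorem boxRed : BoxRed := by
  intro F _ _ m hodd hm K hK h hI
  have h2 := two_ne hodd
  have hm2 : 2 ≤ m := by omega
  have key : ∀ U : Submodule F (W m F), Ts U → U ≠ ⊥ → Inv K U → finrank F U = m := fun U hs h0 hU => by
    have h3 := trm_rad hodd hm2 hK h hU h0 hs.ne_top
    rwa [inf_eq_left.2 (ts_le hs)] at h3
  obtain ⟨X, hX, h0, h1⟩ : ∃ X, Inv K X ∧ X ≠ ⊥ ∧ X ≠ ⊤ := by
    by_contra hc
    exact hI fun X hX => by_contra fun e => hc ⟨X, hX, not_or.1 e⟩
  have hd := trm_rad hodd hm2 hK h hX h0 h1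
  have hs := ts_rad h2 X
  have hU : Inv K (X ⊓ pp X) := fun x hx u hu => ⟨hX x hx u hu.1, inv_pp hK hX x hx u hu.2⟩
  generalize X ⊓ pp X = U at hd hs hU
  refine ⟨U, hs, hd, hU, fun U' hs' h0' hU' => ?_⟩
  have hd' := key U' hs' h0' hU'
  by_cases hb : U' ⊓ U = ⊥
  · exfalso
    have h3 := Submodule.finrank_sup_add_finrank_inf_eq U' U
    rw [hb, finrank_bot, hd, hd'] at h3
    have hI' : Inv K (U' ⊔ U) := fun x hx u hu => by
      obtain ⟨a, ha, b, hb, rfl⟩ := Submodule.mem_sup.1 hu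
      rw [ap_add]
      exact Submodule.add_mem_sup (hU' x hx a ha) (hU x hx b hb)
    have h4 := trm_rad hodd hm2 hK h hI' (fun e => by rw [e, finrank_bot] at h3; omega)
      (fun e => by rw [e, finrank_top, finrank_W] at h3; omega)
    have h5 := finrank_pp h2 (U' ⊔ U)
    have h6 := Submodule.finrank_mono (inf_le_right : (U' ⊔ U) ⊓ pp (U' ⊔ U) ≤ pp (U' ⊔ U))
    omega
  · have h3 := key (U' ⊓ U) (fun u hu => hs u hu.2) hb fun x hx u hu => ⟨hU' x hx u hu.1, hU x hx u hu.2⟩
    rw [← Submodule.eq_of_le_of_finrank_eq (inf_le_left : U' ⊓ U ≤ U') (h3.trans hd'.symm)]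
    exact Submodule.eq_of_le_of_finrank_eq inf_le_right (h3.trans hd.symm)

end Cfsg.Agent.SM.Oo.Geo
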