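import Cfsg.Agent.SM.Oo.Cnt
import Cfsg.Agent.H884.ElNum
import Cfsg.Agent.ClassicalGeometry.TwoFamilies

/-!
# SM (S3570), family `fO`, dimension seven: elements of prime order `r` with `3 ∣ ord_r(q)` (helper99)

* `exists_fx`: such an element fixes exactly one point, which is non-singular;
* `pt_of_six` (`ord_r(q) = 6`), `red_three` (`ord_r(q) = 3`): reducible groups which contain such an element.
-/

set_option autoImplicit false
set_option linter.unusedSectionVars false

namespace Cfsg.Agent.SM.Oo.Sev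

open Cfsg Cfsg.Geo Matrix QuadraticMap Module Submodule
open Cfsg.Agent.LieClassical.OrthForms (oddForm nondeg_oddForm)
open Cfsg.Agent.H884.El (PP)
open scoped MatrixGroups

variable {m : ℕ} {F : Type} [Field F] [Fintype F]

/-- the fixed space -/
def fx (g : GL (I m) F) : Submodule F (W m F) where
  carrier := {v | ap g v = v}
  add_mem' := fun {a b} ha hb => by
    change ap g (a + b) = a + b
    rw [ap_add, show ap g a = a from ha, show ap g b = b from hb]
  zero_mem' := ap_zero g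
  smul_mem' := fun c a ha => by
    change ap g (c • a) = c • a
    rw [ap_smul, show ap g a = a from ha]

theorem mem_fx {g : GL (I m) F} {v : W m F} : v ∈ fx g ↔ ap g v = v := Iff.rfl

/-- the perp of a subspace -/
def prp (U : Submodule F (W m F)) : Submodule F (W m F) :=
  LinearMap.BilinForm.orthogonal (polarBilin (oddForm m F)) U

theorem mem_prp {U : Submodule F (W m F)} {w : W m F} : w ∈ prp U ↔ ∀ u ∈ U, bf u w = 0 := by
  simp only [bf_eq]
  rfl

theorem finrank_prp (h2 : (2 : F) ≠ 0) (U : Submodule F (W m F)) : finrank F (prp U) + finrank F U = 2 * m + 1 := by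
  have hr : LinearMap.IsRefl (polarBilin (oddForm m F)) := fun x y h => by
    change polar _ y x = 0
    rw [polar_comm]
    exact h
  have hn : LinearMap.BilinForm.Nondegenerate (polarBilin (oddForm m F)) :=
    hr.nondegenerate_iff_separatingLeft.2 fun x h => nondeg_oddForm m F h2 x h
  have h1 : finrank F (prp U) = finrank F (W m F) - finrank F U := LinearMap.BilinForm.finrank_orthogonal hn U
  have h3 : finrank F U ≤ finrank F (W m F) := U.finrank_le
  rw [finrank_W] at h1 h3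
  omega

theorem inv_prp {X : Subgroup (GL (I m) F)} (hX : X ≤ Is m F) {U : Submodule F (W m F)} (h : Inv X U) : Inv X (prp U) :=
  fun x hx w hw => mem_prp.2 fun u hu => by
    rw [← ap_ap_inv x u, bf_ap (hX hx)]
    exact mem_prp.1 hw _ (h _ (X.inv_mem hx) u hu)

theorem ap_pow {g : GL (I m) F} {v : W m F} (h : ap g v = v) (n : ℕ) : ap (g ^ n) v = v := by
  induction n with
  | zero => rw [pow_zero, ap_one]
  | succ n ih => rw [pow_succ, ap_mul, h, ih]

/-- counting modulo `r` -/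
theorem cnt {g : GL (I m) F} {r : ℕ} (hr : r.Prime) (hg : g ^ r = 1) (P : W m F → Prop) (hP : ∀ v, P v → P (ap g v)) :
    Nat.card {v // P v} ≡ Nat.card {v // P v ∧ ap g v = v} [MOD r] := by
  classical
  have := Fact.mk hr
  let f : Function.End {v // P v} := fun v => ⟨ap g v, hP _ v.2⟩
  have h1 : ∀ (n : ℕ) (v : {v // P v}), ((f ^ n) v).1 = ap (g ^ n) v := by
    intro n
    induction n with
    | zero => exact fun v => by rw [pow_zero, pow_zero, ap_one]; rfl
    | succ n ih => exact fun v => by rw [pow_succ, pow_succ, ap_mul]; exact ih (f v)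
  have h2 : f ^ r ^ 1 = 1 := funext fun v => Subtype.ext (by rw [h1, pow_one, hg, ap_one]; rfl)
  have h3 := Equiv.Perm.card_fixedPoints_modEq h2
  rw [← Nat.card_eq_fintype_card, ← Nat.card_eq_fintype_card] at h3
  refine h3.trans (Nat.ModEq.refl _ |>.trans ?_)
  rw [Nat.card_congr (show f.fixedPoints ≃ {v // P v ∧ ap g v = v} from
    ⟨fun v => ⟨v.1.1, v.1.2, congrArg Subtype.val v.2⟩, fun v => ⟨⟨v.1, v.2.1⟩, Subtype.ext v.2.2⟩, fun _ => rfl,
      fun _ => rfl⟩)]

theorem dvd_sub {g : GL (I m) F} {e r : ℕ} (hr : PP (Fintype.card F) e r) (he : 1 ≤ e) (hg : g ^ r = 1)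
    {S : Submodule F (W m F)} (hS : ∀ u ∈ S, ap g u ∈ S) : e ∣ finrank F S - finrank F ↥(S ⊓ fx g) := by
  have h1 : Nat.card S ≡ Nat.card ↥(S ⊓ fx g) [MOD r] := cnt hr.prime hg (· ∈ S) hS
  rw [Module.natCard_eq_pow_finrank (K := F), Module.natCard_eq_pow_finrank (K := F) (V := ↥(S ⊓ fx g)),
    Nat.card_eq_fintype_card] at h1
  obtain ⟨k, hk⟩ := Nat.exists_eq_add_of_le (Submodule.finrank_mono (inf_le_left : S ⊓ fx g ≤ S))
  have hq : 1 ≤ Fintype.card F := Fintype.card_pos
  rw [hk, Nat.add_sub_cancel_left, ← hr.dvd_iff hq]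
  rw [hk, pow_add] at h1
  have h2 := (Nat.modEq_iff_dvd' (Nat.le_mul_of_pos_right _ (Nat.pow_pos hq))).1 h1.symm
  rw [← Nat.mul_sub_one] at h2
  exact ((Nat.Prime.dvd_mul hr.prime).1 h2).resolve_left fun h => hr.not_dvd he (hr.prime.dvd_of_dvd_pow h)

/-- parity of the fixed space in a non-degenerate subspace -/
theorem parity {g : GL (I m) F} (hI : g ∈ Is m F) {r : ℕ} (hr : Odd r) (hg : g ^ r = 1) {S : Submodule F (W m F)}
    (hS : ∀ u ∈ S, ap g u ∈ S) (hn : S ⊓ prp S = ⊥) : ∃ k, finrank F S = finrank F ↥(S ⊓ fx g) + (k + k) := by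
  obtain ⟨k, hk⟩ := hr
  have hi : g⁻¹ = (g * g) ^ k := by
    rw [inv_eq_iff_mul_eq_one, ← pow_two, ← pow_mul, ← pow_succ', ← hk, hg]
  have hS' : ∀ n : ℕ, ∀ u ∈ S, ap (g ^ n) u ∈ S := by
    intro n
    induction n with
    | zero => exact fun u hu => by rwa [pow_zero, ap_one]
    | succ n ih => exact fun u hu => by rw [pow_succ, ap_mul]; exact ih _ (hS u hu)
  let β : LinearMap.BilinForm F S := LinearMap.domRestrict₁₂ (polarBilin (oddForm m F) ∘ₗ
    (Matrix.toLin' (g : Matrix (I m) (I m) F) - Matrix.toLin' ((g⁻¹ : GL (I m) F) : Matrix (I m) (I m) F))) S S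
  have hβ : ∀ x y : S, β x y = bf (ap g x - ap g⁻¹ x) y := fun x y => by
    rw [bf_eq]
    rfl
  have hA : β.IsAlt := fun x => by
    rw [hβ, sub_eq_add_neg, bf_add', ← neg_one_smul F, bf_smul', ← bf_ap hI (ap g⁻¹ x), ap_ap_inv, bf_comm]
    ring
  obtain ⟨n, h1⟩ := ClassicalGeometry.TwoFamilies.exists_finrank_eq_ker_add β hA
  have h2 : LinearMap.ker β = (S ⊓ fx g).comap S.subtype := by
    ext x
    rw [LinearMap.mem_ker, mem_comap, mem_inf, mem_fx]
    constructor
    · intro h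
      have h3 : ap g x - ap g⁻¹ x ∈ S ⊓ prp S := by
        refine ⟨S.sub_mem (hS _ x.2) ?_, mem_prp.2 fun u hu => ?_⟩
        · rw [hi, ← pow_two, ← pow_mul]
          exact hS' _ _ x.2
        · rw [bf_comm, ← hβ x ⟨u, hu⟩, h]
          rfl
      rw [hn, mem_bot, sub_eq_zero] at h3
      have h4 : ap (g * g) x = x := by rw [ap_mul, h3, ap_ap_inv]
      refine ⟨x.2, h3.trans ?_⟩
      rw [hi]
      exact ap_pow h4 k
    · rintro ⟨-, h⟩
      have h3 : ap g x = x := h
      refine LinearMap.ext fun y => ?_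
      have h4 : ap g⁻¹ x = x := by
        conv_lhs => rw [← h3]
        exact ap_inv_ap g x
      rw [hβ, h3, h4, sub_self, bf_comm, bf_zero]
      rfl
  rw [h2, (comapSubtypeEquivOfLe (inf_le_left : S ⊓ fx g ≤ S)).finrank_eq] at h1
  exact ⟨n, h1⟩

/-- `g` fixes only the point `⟨v⟩` -/
structure Fx (e : ℕ) (g : GL (I 3) F) (v : W 3 F) : Prop where
  ns : qf v ≠ 0
  fix : fx g = span F {v}
  mem : ∀ S : Submodule F (W 3 F), (∀ u ∈ S, ap g u ∈ S) → v ∈ S → e ∣ finrank F S - 1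
  nmem : ∀ S : Submodule F (W 3 F), (∀ u ∈ S, ap g u ∈ S) → v ∉ S → e ∣ finrank F S
  par : ∀ S : Submodule F (W 3 F), (∀ u ∈ S, ap g u ∈ S) → v ∉ S → S ⊓ prp S = ⊥ → Even (finrank F S)

theorem inf_span {S : Submodule F (W m F)} {v : W m F} (h : v ∉ S) : S ⊓ span F {v} = ⊥ :=
  disjoint_iff.1 (Submodule.disjoint_span_singleton_of_notMem h)

theorem exists_fx (h2 : (2 : F) ≠ 0) {e r : ℕ} (hr : PP (Fintype.card F) e r) (he : 3 ≤ e) (h3 : 3 ∣ e)
    {X : Subgroup (GL (I 3) F)} (hX : X ≤ Is 3 F) (hd : r ∣ Nat.card X) : ∃ g ∈ X, g ^ r = 1 ∧ ∃ v, Fx e g v := by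
  have := Fact.mk hr.prime
  obtain ⟨⟨g, hg⟩, ho⟩ := exists_prime_orderOf_dvd_card' r hd
  rw [Subgroup.orderOf_mk] at ho
  have hgr : g ^ r = 1 := ho ▸ pow_orderOf_eq_one g
  have hI := hX hg
  have hodd := hr.odd (by omega)
  have h7 : finrank F (⊤ : Submodule F (W 3 F)) = 7 := by rw [finrank_top, finrank_W]
  have h1 : finrank F (fx g) = 1 := by
    have h4 := h3.trans (dvd_sub hr (by omega) hgr (S := ⊤) fun _ _ => trivial)
    obtain ⟨k, hk⟩ := parity hI hodd hgr (S := ⊤) (fun _ _ => trivial) (by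
      rw [top_inf_eq, ← Submodule.finrank_eq_zero]
      have := finrank_prp h2 (⊤ : Submodule F (W 3 F))
      omega)
    rw [top_inf_eq, h7] at h4 hk
    have h5 : finrank F (fx g) ≠ 7 := fun h => by
      have h6 : fx g = ⊤ := Submodule.eq_top_of_finrank_eq (by rw [h, finrank_W])
      have h8 : g = 1 := ap_ext fun v => by rw [ap_one]; exact mem_fx.1 (h6 ▸ trivial)
      rw [h8, orderOf_one] at ho
      exact hr.prime.ne_one ho.symm
    omega
  obtain ⟨⟨v, hv⟩, hv0, hv1⟩ := finrank_eq_one_iff'.1 h1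
  have hv0' : v ≠ 0 := fun e => hv0 (Subtype.ext e)
  have hf : fx g = span F {v} :=
    (Submodule.eq_of_le_of_finrank_eq ((span_singleton_le_iff_mem _ _).2 hv) (by rw [h1, finrank_span_singleton hv0'])).symm
  have hm : ∀ S : Submodule F (W 3 F), (∀ u ∈ S, ap g u ∈ S) → v ∈ S → e ∣ finrank F S - 1 := fun S hS h => by
    have h4 := dvd_sub hr (by omega) hgr hS
    rwa [inf_eq_right.2 (hf ▸ (span_singleton_le_iff_mem _ _).2 h), h1] at h4
  refine ⟨g, hg, hgr, v, fun h0 => ?_, hf, hm, fun S hS h => ?_, fun S hS h hn => ?_⟩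
  · have h4 := h3.trans (hm (pp v) (fun u hu => mem_pp.2 (by
      rw [← mem_fx.1 hv, bf_ap hI]
      exact mem_pp.1 hu)) (mem_pp.2 (by rw [bf_self, h0, mul_zero])))
    rw [finrank_pp h2 hv0'] at h4
    omega
  · have h4 := dvd_sub hr (by omega) hgr hS
    rwa [hf, inf_span h, finrank_bot, Nat.sub_zero] at h4
  · obtain ⟨k, hk⟩ := parity hI hodd hgr hS hn
    rw [hf, inf_span h, finrank_bot, zero_add] at hk
    exact ⟨k, hk⟩

variable {e : ℕ} {g : GL (I 3) F} {v : W 3 F} {X : Subgroup (GL (I 3) F)}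

theorem Fx.line (h : Fx e g v) (he : 2 ≤ e) {S : Submodule F (W 3 F)} (hS : ∀ u ∈ S, ap g u ∈ S) (h1 : finrank F S = 1) :
    S = span F {v} := by
  by_cases hv : v ∈ S
  · exact (Submodule.eq_of_le_of_finrank_eq ((span_singleton_le_iff_mem _ _).2 hv)
      (by rw [h1, finrank_span_singleton (ne_of_qf h.ns)])).symm
  · have h3 := Nat.le_of_dvd one_pos (h1 ▸ h.nmem S hS hv)
    omega

/-- an invariant line or hyperplane -/
theorem Fx.inv (h2 : (2 : F) ≠ 0) (h : Fx e g v) (he : 2 ≤ e) (hX : X ≤ Is 3 F) (hg : g ∈ X) {S : Submodule F (W 3 F)}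
    (hS : Inv X S) (h1 : finrank F S = 1 ∨ finrank F S = 6) : Inv X (span F {v}) := by
  rcases h1 with h1 | h1
  · exact h.line he (hS g hg) h1 ▸ hS
  · have h3 := finrank_prp h2 S
    exact h.line he (inv_prp hX hS g hg) (by omega) ▸ inv_prp hX hS

theorem fix_of_inv (h : Inv X (span F {v})) : ∀ x ∈ X, ∃ c : F, ap x v = c • v := fun x hx =>
  let ⟨c, hc⟩ := mem_span_singleton.1 (h x hx v (mem_span_singleton_self v))
  ⟨c, hc.symm⟩

/-- **order six** -/
theorem pt_of_six (hodd : Odd (Fintype.card F)) {r : ℕ} (hr : PP (Fintype.card F) 6 r) (hX : X ≤ Is 3 F)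
    (hd : r ∣ Nat.card X) (hi : ¬ Irr X) : ∃ v, Pt X v := by
  have h2 := two_ne hodd
  obtain ⟨g, hg, hgr, v, h⟩ := exists_fx h2 hr (by norm_num) (by norm_num) hX hd
  have hv := ne_of_qf h.ns
  have hgv : ap g v = v := mem_fx.1 (h.fix ▸ mem_span_singleton_self v)
  have key : ∀ U : Submodule F (W 3 F), Inv X U → U = ⊥ ∨ U = ⊤ ∨ finrank F U = 1 ∨ (finrank F U = 6 ∧ v ∉ U) := by
    intro U hU
    have h7 := U.finrank_le
    rw [finrank_W] at h7
    by_cases hm : v ∈ U
    · have h3 := h.mem U (hU g hg) hm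
      have h4 : finrank F U ≠ 0 := fun e => hv (by rwa [Submodule.finrank_eq_zero.1 e, mem_bot] at hm)
      by_cases h5 : finrank F U = 7
      · exact Or.inr (Or.inl (Submodule.eq_top_of_finrank_eq (by rw [h5, finrank_W])))
      · exact Or.inr (Or.inr (Or.inl (by omega)))
    · have h3 := h.nmem U (hU g hg) hm
      by_cases h5 : finrank F U = 0
      · exact Or.inl (Submodule.finrank_eq_zero.1 h5)
      · exact Or.inr (Or.inr (Or.inr ⟨by omega, hm⟩))
  have hinv : Inv X (span F {v}) := by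
    obtain ⟨U, hU⟩ := not_forall.1 hi
    obtain ⟨hU, h3⟩ := Classical.not_imp.1 hU
    rcases key U hU with e | e | e | e
    · exact absurd (Or.inl e) h3
    · exact absurd (Or.inr e) h3
    · exact h.inv h2 (by norm_num) hX hg hU (Or.inl e)
    · exact h.inv h2 (by norm_num) hX hg hU (Or.inr e.1)
  refine ⟨v, fun hs => ?_, fun x hx => ?_, fun U hU => ?_⟩
  · have h3 := cnt hr.prime hgr (fun w => qf w = qf v) fun w hw => (mem_Is.1 (hX hg) w).trans hw
    rw [(boxCnt F 3 hodd (qf v)).2.1 h.ns hs] at h3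
    have hq : 1 ≤ Fintype.card F := Fintype.card_pos
    have h4 : r ∣ Fintype.card F ^ 3 + 1 := by
      have h5 := (hr.dvd_iff hq 6).2 dvd_rfl
      rw [show Fintype.card F ^ 6 - 1 = (Fintype.card F ^ 3 + 1) * (Fintype.card F ^ 3 - 1) by
        rw [← Nat.sq_sub_sq, ← pow_mul]] at h5
      exact ((Nat.Prime.dvd_mul hr.prime).1 h5).resolve_right fun k => by
        have := (hr.dvd_iff hq 3).1 k
        omega
    have h5 := (h3.dvd_iff dvd_rfl).1 (h4.mul_left _)
    have h6 : {w : W 3 F | qf w = qf v ∧ ap g w = w} ⊆ {v, -v} := by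
      rintro w ⟨hw, hf⟩
      obtain ⟨c, rfl⟩ := mem_span_singleton.1 (h.fix ▸ mem_fx.2 hf)
      rw [qf_smul] at hw
      rcases sq_eq_one_iff.1 (mul_right_cancel₀ h.ns (hw.trans (one_mul _).symm)) with rfl | rfl <;> simp
    have h7 := (Set.ncard_le_ncard h6).trans (Set.ncard_insert_le _ _)
    rw [Set.ncard_singleton] at h7
    have h8 : 0 < {w : W 3 F | qf w = qf v ∧ ap g w = w}.ncard := (Set.ncard_pos).2 ⟨v, rfl, hgv⟩
    have h9 := Nat.le_of_dvd h8 h5
    have := hr.lt (by norm_num)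
    omega
  · obtain ⟨c, hc⟩ := fix_of_inv hinv x hx
    rcases sgn_of_fix (hX hx) h.ns hc with rfl | rfl
    · exact Or.inl (by rwa [one_smul] at hc)
    · exact Or.inr (by rwa [neg_smul, one_smul] at hc)
  · rcases key U hU with e | e | e | e
    · exact Or.inl e
    · exact Or.inr (Or.inl e)
    · exact Or.inr (Or.inr (Or.inl (h.line (by norm_num) (hU g hg) e)))
    · have h3 := finrank_prp h2 U
      have h4 := h.line (by norm_num) (inv_prp hX hU g hg) (by omega)
      have h5 : U = pp v := Submodule.eq_of_le_of_finrank_eq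
        (fun u hu => mem_pp.2 (by rw [bf_comm]; exact mem_prp.1 (h4 ▸ mem_span_singleton_self v) u hu))
        (by rw [e.1, finrank_pp h2 hv])
      exact Or.inr (Or.inr (Or.inr fun w => h5 ▸ mem_pp))

/-- **order three** -/
theorem red_three (hodd : Odd (Fintype.card F)) {r : ℕ} (hr : PP (Fintype.card F) 3 r) (hX : X ≤ Is 3 F)
    (hd : r ∣ Nat.card X) (hi : ¬ Irr X) :
    (∃ w, qf w ≠ 0 ∧ Inv X (span F {w}) ∧ ∀ U, Inv X U → finrank F U = 1 → U = span F {w}) ∨
      ∃ U : Submodule F (W 3 F), Ts U ∧ finrank F U = 3 ∧ Inv X U ∧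
        ∀ U' : Submodule F (W 3 F), Ts U' → U' ≠ ⊥ → Inv X U' → U' = U := by
  have h2 := two_ne hodd
  obtain ⟨g, hg, -, v, h⟩ := exists_fx h2 hr le_rfl dvd_rfl hX hd
  by_cases hinv : Inv X (span F {v})
  · exact Or.inl ⟨v, h.ns, hinv, fun U hU h1 => h.line (by norm_num) (hU g hg) h1⟩
  right
  have k1 : ∀ U, Inv X U → finrank F U ≠ 1 ∧ finrank F U ≠ 6 := fun U hU =>
    ⟨fun e => hinv (h.inv h2 (by norm_num) hX hg hU (Or.inl e)), fun e => hinv (h.inv h2 (by norm_num) hX hg hU (Or.inr e))⟩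
  have k2 : ∀ U, Inv X U → v ∉ U → finrank F U = 0 ∨ finrank F U = 3 := fun U hU hm => by
    have h3 := h.nmem U (hU g hg) hm
    have h4 := k1 U hU
    have h7 := U.finrank_le
    rw [finrank_W] at h7
    omega
  have k3 : ∀ U U', Inv X U → Inv X U' → Inv X (U ⊓ U') := fun U U' a b x hx u hu => ⟨a x hx u hu.1, b x hx u hu.2⟩
  obtain ⟨U, hU, h3⟩ : ∃ U, Inv X U ∧ finrank F U = 3 := by
    obtain ⟨U, hU⟩ := not_forall.1 hi
    obtain ⟨hU, h3⟩ := Classical.not_imp.1 hU
    have h0 : finrank F U ≠ 0 := fun e => h3 (Or.inl (Submodule.finrank_eq_zero.1 e))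
    by_cases hm : v ∈ U
    · have h4 := h.mem U (hU g hg) hm
      have h5 := k1 U hU
      have h6 := finrank_prp h2 U
      have h7 : finrank F U ≠ 7 := fun e => h3 (Or.inr (Submodule.eq_top_of_finrank_eq (by rw [e, finrank_W])))
      exact ⟨prp U, inv_prp hX hU, by omega⟩
    · exact ⟨U, hU, (k2 U hU hm).resolve_left h0⟩
  have hm : v ∉ U := fun k => by
    have := h.mem U (hU g hg) k
    omega
  have hT : Ts U := by
    rcases k2 _ (k3 _ _ hU (inv_prp hX hU)) (fun k => hm k.1) with e | e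
    · have h4 := h.par U (hU g hg) hm (Submodule.finrank_eq_zero.1 e)
      rw [h3] at h4
      exact absurd h4 (by decide)
    · have h4 : U ⊓ prp U = U := Submodule.eq_of_le_of_finrank_eq inf_le_left (e.trans h3.symm)
      intro u hu
      have h5 := mem_prp.1 (inf_eq_left.1 h4 hu) u hu
      rw [bf_self] at h5
      exact (mul_eq_zero.1 h5).resolve_left h2
  refine ⟨U, hT, h3, hU, fun U' hT' h0 hU' => ?_⟩
  have h4 : finrank F U' = 3 := (k2 U' hU' fun k => h.ns (hT' v k)).resolve_left fun e => h0 (Submodule.finrank_eq_zero.1 e)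
  rcases k2 _ (k3 _ _ hU hU') (fun k => hm k.1) with e | e
  · have h5 := Submodule.finrank_sup_add_finrank_inf_eq U U'
    refine absurd (by omega) (k1 (U ⊔ U') fun x hx u hu => ?_).2
    obtain ⟨a, ha, b, hb, rfl⟩ := mem_sup.1 hu
    rw [ap_add]
    exact add_mem_sup (hU x hx a ha) (hU' x hx b hb)
  · exact (Submodule.eq_of_le_of_finrank_eq inf_le_right (e.trans h4.symm)).symm.trans
      (Submodule.eq_of_le_of_finrank_eq inf_le_left (e.trans h3.symm))

end Cfsg.Agent.SM.Oo.Sev
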