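import Cfsg.Agent.SM.Oo.SpinL

/-!
# SM/Oo: a Siegel element of `Ω₈⁺(q)` acts on the points of the spin module and lies in `M` (helper76)
-/

set_option autoImplicit false
set_option linter.unusedSectionVars false
set_option linter.unusedSimpArgs false

namespace Cfsg.Agent.SM.Oo.Spin

open Cfsg Cfsg.Geo Cfsg.Lie Matrix Equiv
open Cfsg.Agent.H161.Oct
open Cfsg.Agent.H870.GE (C C_apply CF CF0 CF1 CF2 CF3 CF4 CF5 CF6 CF7 nm_CF)

variable {F : Type} [Field F]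

theorem C_C (s t : F) (w : V F) : C s (C t w) = C (s + t) w := by
  simp only [C_apply]
  apply ext8 <;> simp only [CF0, CF1, CF2, CF3, CF4, CF5, CF6, CF7] <;> ring

theorem C_zero (w : V F) : C 0 w = w := by
  simp only [C_apply]
  apply ext8 <;> simp only [CF0, CF1, CF2, CF3, CF4, CF5, CF6, CF7] <;> ring

theorem bl_C (t : F) (w w' : V F) : bl (C t w) (C t w') = bl w w' := by
  simp only [C_apply, bl, CF0, CF1, CF2, CF3, CF4, CF5, CF6, CF7]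
  ring

theorem pr_symm {u w : V F} (hw : w ≠ 0) (h : ∃ c : F, w = c • u) : ∃ c : F, u = c • w := by
  obtain ⟨c, rfl⟩ := h
  have h0 : c ≠ 0 := by
    rintro rfl
    exact hw (zero_smul _ _)
  exact ⟨c⁻¹, by rw [smul_smul, inv_mul_cancel₀ h0, one_smul]⟩

theorem pr_trans {u w z : V F} (h : ∃ c : F, w = c • u) (h' : ∃ c : F, z = c • w) : ∃ c : F, z = c • u := by
  obtain ⟨c, rfl⟩ := h
  obtain ⟨d, rfl⟩ := h'
  exact ⟨d * c, smul_smul _ _ _⟩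

variable {Ω : Type} [Fintype Ω] [DecidableEq Ω] {X H T M S : Subgroup (Perm Ω)}

/-- the data: `P` = the type of the points, `G g y` = `y` is a lift of `g` -/
structure Dat (M : Subgroup (Perm Ω)) (a : Ω) (P : V F → Prop) (G : M → Perm (V F) → Prop) (w₀ : V F) : Prop where
  base : P w₀
  ne : ∀ w, P w → w ≠ 0
  ex : ∀ g, ∃ y, G g y
  mul : ∀ g y g' y', G g y → G g' y' → G (g * g') (y * y')
  inv : ∀ g y, G g y → G g⁻¹ y⁻¹
  smul : ∀ g y, G g y → ∀ (c : F) w, ∃ d : F, y (c • w) = d • y w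
  pres : ∀ g y, G g y → ∀ w, P w → P (y w)
  orth : ∀ g y, G g y → ∀ w w', bl w w' = 0 → bl (y w) (y w') = 0
  stab : ∀ g y, G g y → ((g : Perm Ω) a = a ↔ ∃ c : F, y w₀ = c • w₀)
  tra : ∀ w, P w → ∃ g y, G g y ∧ ∃ c : F, y w₀ = c • w
  sie : ∀ t w, P w → P (C t w)

variable {a : Ω} {P : V F → Prop} {G : M → Perm (V F) → Prop} {w₀ : V F}

theorem Dat.pts (d : Dat M a P G w₀) (ht : ∀ b, ∃ g : M, (g : Perm Ω) a = b) : ∃ pt : V F → Ω,
    (∀ g y, G g y → ∀ w, P w → (g : Perm Ω) (pt w) = pt (y w)) ∧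
    (∀ u w, P u → P w → (pt u = pt w ↔ ∃ c : F, w = c • u)) ∧ ∀ x, ∃ w, P w ∧ pt w = x := by
  have h1 : ∀ w, ∃ p : M × Perm (V F), P w → G p.1 p.2 ∧ ∃ c : F, p.2 w₀ = c • w := fun w => by
    by_cases hw : P w
    · obtain ⟨g, y, h⟩ := d.tra w hw
      exact ⟨(g, y), fun _ => h⟩
    · exact ⟨(1, 1), fun h => absurd h hw⟩
  choose r hr using h1
  have h2 : ∀ g y g' y', G g y → G g' y' → ((g : Perm Ω) a = (g' : Perm Ω) a ↔ ∃ c : F, y' w₀ = c • y w₀) := by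
    intro g y g' y' h h'
    rw [eq_comm, ← Perm.inv_eq_iff_eq, ← Perm.mul_apply, ← Subgroup.coe_inv, ← Subgroup.coe_mul,
      d.stab _ _ (d.mul _ _ _ _ (d.inv _ _ h) h')]
    constructor
    · rintro ⟨c, hc⟩
      obtain ⟨e, he⟩ := d.smul g y h c w₀
      exact ⟨e, by rw [← he, ← hc, Perm.mul_apply, ap_inv]⟩
    · rintro ⟨c, hc⟩
      obtain ⟨e, he⟩ := d.smul _ _ (d.inv g y h) c (y w₀)
      exact ⟨e, by rw [Perm.mul_apply, hc, he, inv_ap]⟩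
  have h0 : ∀ g y, G g y → y w₀ ≠ 0 := fun g y h => d.ne _ (d.pres g y h _ d.base)
  have h3 : ∀ g y, G g y → ∀ w, P w → (∃ c : F, y w₀ = c • w) → (g : Perm Ω) a = ((r w).1 : Perm Ω) a :=
    fun g y h w hw k => (h2 _ _ _ _ h (hr w hw).1).2 (pr_trans (pr_symm (h0 g y h) k) (hr w hw).2)
  refine ⟨fun w => ((r w).1 : Perm Ω) a, fun g y h w hw => ?_, fun u w hu hw => ?_, fun x => ?_⟩
  · rw [← Perm.mul_apply, ← Subgroup.coe_mul]
    refine h3 _ _ (d.mul _ _ _ _ h (hr w hw).1) _ (d.pres g y h w hw) ?_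
    obtain ⟨c, hc⟩ := (hr w hw).2
    rw [Perm.mul_apply, hc]
    exact d.smul g y h c w
  · rw [h2 _ _ _ _ (hr u hu).1 (hr w hw).1]
    exact ⟨fun k => pr_trans (pr_trans (hr u hu).2 k) (pr_symm (h0 _ _ (hr w hw).1) (hr w hw).2),
      fun k => pr_trans (pr_trans (pr_symm (h0 _ _ (hr u hu).1) (hr u hu).2) k) (hr w hw).2⟩
  · obtain ⟨g, rfl⟩ := ht x
    obtain ⟨y, h⟩ := d.ex g
    exact ⟨y w₀, d.pres g y h _ d.base, (h3 g y h _ (d.pres g y h _ d.base) ⟨1, (one_smul F _).symm⟩).symm⟩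

/-- **the Siegel element lies in `M`** -/
theorem Dat.kill (d : Dat M a P G w₀) (u : Up X H T M S) (h2 : (2 : F) ≠ 0) {u₀ w₁ w₂ : V F} (p₀ : P u₀) (p₁ : P w₁)
    (p₂ : P w₂) (n₁ : ¬ ∃ c : F, w₁ = c • u₀) (n₂ : ¬ ∃ c : F, w₂ = c • u₀) (o₁ : bl u₀ w₁ = 0) (o₂ : bl u₀ w₂ ≠ 0) :
    ∃ g y, G g y ∧ ∀ w, P w → ∃ c : F, y w = c • C 1 w := by
  obtain ⟨pt, act, heq, surj⟩ := d.pts fun b => by
    obtain ⟨t, ht, k⟩ := u.trans a b
    exact ⟨⟨t, u.socM.le (u.le ht)⟩, k⟩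
  choose r hr hp using surj
  have h1 : ∀ t w, P w → pt (C t (r (pt w))) = pt (C t w) := fun t w hw => by
    obtain ⟨c, hc⟩ := (heq _ _ (hr _) hw).1 (hp (pt w))
    exact (heq _ _ (d.sie t _ (hr _)) (d.sie t _ hw)).2 ⟨c, by rw [← map_smul, ← hc]⟩
  let γ : F → Perm Ω := fun t =>
    { toFun := fun x => pt (C t (r x))
      invFun := fun x => pt (C (-t) (r x))
      left_inv := fun x => by
        show pt (C (-t) (r (pt (C t (r x))))) = x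
        rw [h1 _ _ (d.sie t _ (hr x)), C_C, neg_add_cancel, C_zero, hp]
      right_inv := fun x => by
        show pt (C t (r (pt (C (-t) (r x))))) = x
        rw [h1 _ _ (d.sie _ _ (hr x)), C_C, add_neg_cancel, C_zero, hp] }
  have hγ : ∀ t w, P w → γ t (pt w) = pt (C t w) := h1
  have hγ' : ∀ t w, P w → (γ t)⁻¹ (pt w) = pt (C (-t) w) := fun t => h1 (-t)
  let R : (Fin 2 → Ω) → Prop := fun x => ∃ w w', P w ∧ P w' ∧ pt w = x 0 ∧ pt w' = x 1 ∧ bl w w' = 0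
  have hM : M ≤ relStab R := le_relStab fun g hg x ⟨w, w', k1, k2, k3, k4, k5⟩ => by
    obtain ⟨y, h⟩ := d.ex ⟨g, hg⟩
    exact ⟨y w, y w', d.pres _ y h w k1, d.pres _ y h w' k2, by rw [← act _ y h w k1, k3]; rfl,
      by rw [← act _ y h w' k2, k4]; rfl, d.orth _ y h w w' k5⟩
  have inj : ∀ {w : V F}, P w → (¬ ∃ c : F, w = c • u₀) → Function.Injective ![pt u₀, pt w] := fun {w} hw hn i j e => by
    have k : pt u₀ ≠ pt w := fun k => hn ((heq _ _ p₀ hw).1 k)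
    fin_cases i <;> fin_cases j
    · rfl
    · exact absurd e k
    · exact absurd e.symm k
    · rfl
  have hA : ¬ alternatingGroup Ω ≤ relStab R := by
    refine not_alt_le_relStab (le_trans (by norm_num) u.sec.five) (inj p₁ n₁) (inj p₂ n₂)
      ⟨u₀, w₁, p₀, p₁, rfl, rfl, o₁⟩ ?_
    rintro ⟨w, w', k1, k2, k3, k4, k5⟩
    obtain ⟨c, hc⟩ := (heq _ _ k1 p₀).1 k3
    obtain ⟨e, he⟩ := (heq _ _ k2 p₂).1 k4
    exact o₂ (by rw [hc, he, bl_smul, bl_smul', k5, mul_zero, mul_zero])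
  have hY : γ 1 ∈ relStab R := fun x => by
    constructor
    · rintro ⟨w, w', k1, k2, k3, k4, k5⟩
      exact ⟨C (-1) w, C (-1) w', d.sie _ _ k1, d.sie _ _ k2, by rw [← hγ' 1 w k1, k3]; exact inv_ap _ _,
        by rw [← hγ' 1 w' k2, k4]; exact inv_ap _ _, by rw [bl_C, k5]⟩
    · rintro ⟨w, w', k1, k2, k3, k4, k5⟩
      exact ⟨C 1 w, C 1 w', d.sie _ _ k1, d.sie _ _ k2, by rw [← hγ 1 w k1, k3]; rfl,
        by rw [← hγ 1 w' k2, k4]; rfl, by rw [bl_C, k5]⟩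
  have hE : γ 1 ∈ alternatingGroup Ω := by
    have k : γ 1 = γ 2⁻¹ * γ 2⁻¹ := Perm.ext fun x => by
      rw [← hp x, Perm.mul_apply, hγ _ _ (hr x), hγ _ _ (hr x), hγ _ _ (d.sie _ _ (hr x)), C_C, ← two_mul,
        mul_inv_cancel₀ h2]
    rw [Perm.mem_alternatingGroup, k, map_mul, Int.units_mul_self]
  have hm := u.mem_of_le hM hA hY hE
  obtain ⟨y, h⟩ := d.ex ⟨_, hm⟩
  refine ⟨_, y, h, fun w hw => (heq _ _ (d.sie 1 w hw) (d.pres _ y h w hw)).1 ?_⟩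
  rw [← act _ y h w hw, ← hγ 1 w hw]

end Cfsg.Agent.SM.Oo.Spin
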