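import Cfsg.Agent.SM.Oo.Defs
import Cfsg.Agent.H870.GE.Spin
import Cfsg.Agent.ClassicalGeometry.OmegaIndex
import Cfsg.Agent.ClassicalGeometry.WittQuad
import Cfsg.Agent.LieClassical.OrthForms

/-!
# SM/Oo: the spin module of `Ω₇(q)` (helper76)

* `L z w` : left multiplication of the octonions by the octonions of trace zero (Clifford relations `L_L`, `L_lin`)
* `Lf σ ε l g y` : `y` is a semilinear similarity of the octonions with `y (z w) = ε g(z) y(w)`
* `lift_is`, `lift_om`, `lift_sem` : existence of lifts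
-/

set_option autoImplicit false
set_option linter.unusedSectionVars false
set_option linter.unusedSimpArgs false

namespace Cfsg.Agent.SM.Oo.Spin

open Cfsg Cfsg.Geo Cfsg.Lie Matrix Equiv
open Cfsg.Agent.H161.Oct
open Cfsg.Agent.H64.SubG2 (inc cor cor_inc tr_inc inc_cor quad_eq)
open Cfsg.Agent.LieClassical.OrthForms (oddForm coe_oddForm nondeg_oddForm)
open Cfsg.Agent.ClassicalGeometry.Reflection
open Cfsg.Agent.ClassicalGeometry.CartanDieudonne (isometry_induction)
open scoped MatrixGroups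

variable {F : Type} [Field F]

theorem ap_inv {α : Type} (y : Perm α) (w : α) : y (y⁻¹ w) = w := y.apply_symm_apply w

theorem inv_ap {α : Type} (y : Perm α) (w : α) : y⁻¹ (y w) = w := y.symm_apply_apply w

/-! ### identities -/

theorem zl_lin (a b w : V F) : zornMul a (zornMul b w) + zornMul b (zornMul a w) =
    tr a • zornMul b w + tr b • zornMul a w - bl a b • w := by
  apply ext8 <;> simp only [mul0, mul1, mul2, mul3, mul4, mul5, mul6, mul7, Pi.add_apply, Pi.sub_apply, Pi.smul_apply,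
    smul_eq_mul, tr, bl] <;> ring

theorem zl_alt (a w : V F) : zornMul a (zornMul a w) = tr a • zornMul a w - nm a • w := by
  apply ext8 <;> simp only [mul0, mul1, mul2, mul3, mul4, mul5, mul6, mul7, Pi.add_apply, Pi.sub_apply, Pi.smul_apply,
    smul_eq_mul, tr, nm] <;> ring

theorem zr_alt (w b : V F) : zornMul (zornMul w b) b = tr b • zornMul w b - nm b • w := by
  apply ext8 <;> simp only [mul0, mul1, mul2, mul3, mul4, mul5, mul6, mul7, Pi.add_apply, Pi.sub_apply, Pi.smul_apply,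
    smul_eq_mul, tr, nm] <;> ring

theorem nm_mul (a w : V F) : nm (zornMul a w) = nm a * nm w := by
  simp only [mul0, mul1, mul2, mul3, mul4, mul5, mul6, mul7, nm]
  ring

theorem tr_mul (a w : V F) : tr (zornMul a w) = tr a * tr w - bl a w := by
  simp only [mul0, mul7, tr, bl]
  ring

/-- left multiplication -/
def L (z : W 3 F) (w : V F) : V F := zornMul (inc F z) w

theorem L_add (z : W 3 F) (w w' : V F) : L z (w + w') = L z w + L z w' := zmul_add _ _ _

theorem L_smul (z : W 3 F) (c : F) (w : V F) : L z (c • w) = c • L z w := zmul_smul _ _ _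

theorem add_L (z u : W 3 F) (w : V F) : L (z + u) w = L z w + L u w := by rw [L, map_add, zadd_mul]; rfl

theorem smul_L (c : F) (z : W 3 F) (w : V F) : L (c • z) w = c • L z w := by rw [L, map_smul, zsmul_mul]; rfl

theorem L_zero (z : W 3 F) : L z 0 = 0 := by
  have := L_smul z 0 0
  rwa [zero_smul, zero_smul] at this

theorem L_o (z : W 3 F) : L z o = inc F z := mul_o _

theorem qf_eq (z : W 3 F) : qf z = - nm (inc F z) := quad_eq z

theorem bf_eq (z u : W 3 F) : bf z u = - bl (inc F z) (inc F u) := by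
  show qf (z + u) - qf z - qf u = _
  rw [qf_eq, qf_eq, qf_eq, map_add, nm_add]
  ring

theorem L_L (z : W 3 F) (w : V F) : L z (L z w) = qf z • w := by
  rw [L, L, zl_alt, tr_inc, zero_smul, zero_sub, qf_eq, neg_smul]

theorem L_lin (z u : W 3 F) (w : V F) : L z (L u w) + L u (L z w) = bf z u • w := by
  rw [L, L, L, L, zl_lin, tr_inc, tr_inc, zero_smul, zero_smul, add_zero, zero_sub, bf_eq, neg_smul]

theorem nm_L (z : W 3 F) (w : V F) : nm (L z w) = - qf z * nm w := by rw [L, nm_mul, qf_eq, neg_neg]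

theorem inc_cr (z u : W 3 F) : inc F (cr z u) = L z (inc F u) - L u (inc F z) := by
  refine inc_cor ?_
  rw [sub_eq_add_neg, ← neg_one_smul F, tr_add, tr_smul, tr_mul, tr_mul, tr_inc, tr_inc, bl_comm]
  ring

theorem inc_inj {z u : W 3 F} (h : inc F z = inc F u) : z = u := by rw [← cor_inc z, h, cor_inc]

/-! ### lifts -/

/-- `y` is a lift of `g` to the spin module -/
structure Lf (σ : F ≃+* F) (ε l : F) (g : Perm (W 3 F)) (y : Perm (V F)) : Prop where
  add : ∀ w w', y (w + w') = y w + y w'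
  smul : ∀ c w, y (c • w) = σ c • y w
  nrm : ∀ w, nm (y w) = l * σ (nm w)
  ne : l ≠ 0
  ne' : ε ≠ 0
  rel : ∀ z w, y (L z w) = ε • L (g z) (y w)

section lf

variable {σ τ : F ≃+* F} {ε δ l k : F} {g h : Perm (W 3 F)} {y x : Perm (V F)}

theorem Lf.mul (a : Lf σ ε l g y) (b : Lf τ δ k h x) : Lf (τ.trans σ) (ε * σ δ) (l * σ k) (g * h) (y * x) where
  add w w' := by rw [Perm.mul_apply, b.add, a.add]; rfl
  smul c w := by rw [Perm.mul_apply, b.smul, a.smul]; rfl
  nrm w := by rw [Perm.mul_apply, a.nrm, b.nrm, map_mul, mul_assoc]; rfl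
  ne := mul_ne_zero a.ne ((map_ne_zero σ).2 b.ne)
  ne' := mul_ne_zero a.ne' ((map_ne_zero σ).2 b.ne')
  rel z w := by rw [Perm.mul_apply, b.rel, a.smul, a.rel, smul_smul, mul_comm]; rfl

theorem Lf.inv (a : Lf σ ε l g y) : Lf σ.symm (σ.symm ε⁻¹) (σ.symm l⁻¹) g⁻¹ y⁻¹ where
  add w w' := by rw [Perm.inv_eq_iff_eq, a.add, ap_inv, ap_inv]
  smul c w := by rw [Perm.inv_eq_iff_eq, a.smul, ap_inv, σ.apply_symm_apply]
  nrm w := by
    apply σ.injective
    rw [map_mul, σ.apply_symm_apply, σ.apply_symm_apply, eq_inv_mul_iff_mul_eq₀ a.ne, ← a.nrm, ap_inv]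
  ne := (map_ne_zero σ.symm).2 (inv_ne_zero a.ne)
  ne' := (map_ne_zero σ.symm).2 (inv_ne_zero a.ne')
  rel z w := by
    rw [Perm.inv_eq_iff_eq, a.smul, a.rel, σ.apply_symm_apply, ap_inv, ap_inv, smul_smul,
      inv_mul_cancel₀ a.ne', one_smul]

theorem Lf.zero (a : Lf σ ε l g y) : y 0 = 0 := by
  have := a.smul 0 0
  rwa [zero_smul, map_zero σ, zero_smul] at this

theorem Lf.sub (a : Lf σ ε l g y) (w w' : V F) : y (w - w') = y w - y w' := by
  rw [eq_sub_iff_add_eq, ← a.add, sub_add_cancel]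

theorem Lf.ne_zero (a : Lf σ ε l g y) {w : V F} (hw : w ≠ 0) : y w ≠ 0 := fun k => hw (y.injective (k.trans a.zero.symm))

theorem Lf.bl (a : Lf σ ε l g y) (w w' : V F) : bl (y w) (y w') = l * σ (bl w w') := by
  have h1 := a.nrm (w + w')
  rw [a.add, nm_add, nm_add, a.nrm, a.nrm, map_add, map_add] at h1
  linear_combination h1

theorem Lf.of_eq {σ' : F ≃+* F} {ε' l' : F} {g' : Perm (W 3 F)} (a : Lf σ ε l g y) (h1 : σ = σ') (h2 : ε = ε') (h3 : l = l')
    (h4 : g = g') : Lf σ' ε' l' g' y := by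
  subst h1 h2 h3 h4
  exact a

theorem lf_one : Lf (RingEquiv.refl F) 1 1 1 1 :=
  ⟨fun _ _ => rfl, fun _ _ => rfl, fun _ => (one_mul _).symm, one_ne_zero, one_ne_zero, fun _ _ => (one_smul F _).symm⟩

end lf

/-- the form as a bundled quadratic form -/
noncomputable def Q7 (F : Type) [Field F] : QuadraticForm F (W 3 F) :=
  (oddForm 3 F).copy (quadFormOdd 3 F) (coe_oddForm 3 F).symm

theorem Q7_nd (h2 : (2 : F) ≠ 0) : (QuadraticMap.polarBilin (Q7 F)).Nondegenerate := by
  rw [Q7, QuadraticMap.copy_eq]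
  refine ⟨fun x hx => nondeg_oddForm 3 F h2 x hx, fun x hx => nondeg_oddForm 3 F h2 x fun y => ?_⟩
  have := hx y
  rwa [QuadraticMap.polarBilin_apply_apply, QuadraticMap.polar_comm] at this

/-- the reflections -/
noncomputable def rf (a : W 3 F) (ha : qf a ≠ 0) : Is 3 F := reflIso (Q7 F) a ha

theorem rf_ap (a : W 3 F) (ha : qf a ≠ 0) (z : W 3 F) : ap (rf a ha).1 z = z - ((qf a)⁻¹ * bf a z) • a :=
  reflectionMatrix_mulVec (Q7 F) a z

/-- left multiplication by an invertible octonion -/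
def Lp (a : W 3 F) (ha : qf a ≠ 0) : Perm (V F) where
  toFun := L a
  invFun w := (qf a)⁻¹ • L a w
  left_inv w := by
    show (qf a)⁻¹ • L a (L a w) = w
    rw [L_L, smul_smul, inv_mul_cancel₀ ha, one_smul]
  right_inv w := by rw [L_smul, L_L, smul_smul, inv_mul_cancel₀ ha, one_smul]

theorem Lp_apply (a : W 3 F) (ha : qf a ≠ 0) (w : V F) : Lp a ha w = L a w := rfl

theorem lf_rf (a : W 3 F) (ha : qf a ≠ 0) : Lf (RingEquiv.refl F) (-1) (- qf a) (lin (rf a ha).1) (Lp a ha) where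
  add := L_add a
  smul := L_smul a
  nrm := nm_L a
  ne := neg_ne_zero.2 ha
  ne' := neg_ne_zero.2 one_ne_zero
  rel z w := by
    rw [Lp_apply, Lp_apply, lin_apply, rf_ap, sub_eq_add_neg, ← neg_smul, add_L, smul_L, L_L, smul_smul,
      eq_sub_of_add_eq (L_lin a z w), neg_mul, mul_comm, ← mul_assoc, mul_inv_cancel₀ ha, one_mul]
    module

/-- the determinant -/
def dt (x : Is 3 F) : F := ((x : GL (I 3) F) : Matrix (I 3) (I 3) F).det

theorem dt_mul (x y : Is 3 F) : dt (x * y) = dt x * dt y := Matrix.det_mul _ _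

/-- linear lifts -/
def LL (l : F) (x : Is 3 F) (y : Perm (V F)) : Prop := Lf (RingEquiv.refl F) (dt x) l (lin x.1) y

theorem LL.mul {l k : F} {x x' : Is 3 F} {y y' : Perm (V F)} (a : LL l x y) (b : LL k x' y') : LL (l * k) (x * x') (y * y') :=
  (Lf.mul a b).of_eq rfl (dt_mul x x').symm rfl (map_mul lin _ _).symm

theorem LL.inv {l : F} {x : Is 3 F} {y : Perm (V F)} (a : LL l x y) : LL l⁻¹ x⁻¹ y⁻¹ :=
  (Lf.inv a).of_eq rfl (by
    refine (eq_inv_of_mul_eq_one_left ?_).symm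
    rw [← dt_mul, inv_mul_cancel]
    exact Matrix.det_one) rfl (map_inv lin _).symm

theorem ll_one : LL (1 : F) 1 1 := lf_one.of_eq rfl Matrix.det_one.symm rfl (map_one lin).symm

theorem ll_rf (a : W 3 F) (ha : qf a ≠ 0) : LL (- qf a) (rf a ha) (Lp a ha) :=
  (lf_rf a ha).of_eq rfl (det_reflIso (Q7 F) a ha).symm rfl rfl

theorem lift_is (h2 : (2 : F) ≠ 0) (x : Is 3 F) : ∃ l y, LL l x y :=
  isometry_induction h2 (Q7 F) (Q7_nd h2) (fun x : Is 3 F => ∃ l y, LL l x y) ⟨1, 1, ll_one⟩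
    (fun a ha _ ⟨_, _, h⟩ => ⟨_, _, (ll_rf a ha).mul h⟩) x

theorem dt_om {x : Is 3 F} (hx : x ∈ commutator (Is 3 F)) : dt x = 1 := by
  have h1 := Abelianization.commutator_subset_ker (Matrix.GeneralLinearGroup.det.comp (Is 3 F).subtype) hx
  rw [MonoidHom.mem_ker, MonoidHom.comp_apply] at h1
  have h2 := congrArg Units.val h1
  rwa [Matrix.GeneralLinearGroup.val_det_apply, Units.val_one] at h2

theorem lift_om (h2 : (2 : F) ≠ 0) {x : Is 3 F} (hx : x ∈ commutator (Is 3 F)) : ∃ y, LL 1 x y := by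
  let K : Subgroup (Is 3 F) :=
    { carrier := {x | ∃ y, LL 1 x y}
      one_mem' := ⟨1, ll_one⟩
      mul_mem' := fun ⟨_, a⟩ ⟨_, b⟩ => ⟨_, one_mul (1 : F) ▸ a.mul b⟩
      inv_mem' := fun ⟨_, a⟩ => ⟨_, inv_one (G := F) ▸ a.inv⟩ }
  refine (Subgroup.commutator_le (H₃ := K)).2 (fun a _ b _ => ?_) hx
  obtain ⟨l, y, h⟩ := lift_is h2 a
  obtain ⟨k, y', h'⟩ := lift_is h2 b
  have h1 := ((h.mul h').mul h.inv).mul h'.inv
  rw [show l * k * l⁻¹ * k⁻¹ = 1 by
    have := h.ne
    have := h'.ne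
    field_simp] at h1
  exact ⟨_, h1⟩

/-- a field automorphism on the coordinates -/
def fp {ι : Type} (σ : F ≃+* F) : Perm (ι → F) := Equiv.piCongrRight fun _ => σ.toEquiv

theorem fp_apply {ι : Type} (σ : F ≃+* F) (v : ι → F) (i : ι) : fp σ v i = σ (v i) := rfl

theorem lf_fp (σ : F ≃+* F) : Lf σ 1 1 (fp σ) (fp σ) where
  add w w' := funext fun i => map_add σ _ _
  smul c w := funext fun i => map_mul σ _ _
  nrm w := by simp only [nm, fp_apply, map_sub, map_add, map_mul, one_mul]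
  ne := one_ne_zero
  ne' := one_ne_zero
  rel z w := by
    have h1 : inc F (fp σ z) = fp σ (inc F z) := by
      apply ext8
      iterate 7 rfl
      exact (map_neg σ _).symm
    rw [one_smul, L, L, h1]
    apply ext8 <;> simp only [mul0, mul1, mul2, mul3, mul4, mul5, mul6, mul7, fp_apply, map_sub, map_add, map_mul]

theorem lift_sem (h2 : (2 : F) ≠ 0) {g : Perm (W 3 F)} (hg : g ∈ Sem 3 F) : ∃ σ l y, Lf σ 1 l g y := by
  obtain ⟨σ, a, ha, hd, h⟩ := hg
  obtain ⟨l, y, h1⟩ := lift_is h2 ⟨a, ha⟩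
  refine ⟨_, _, _, (Lf.mul h1 (lf_fp σ)).of_eq rfl ?_ rfl (Perm.ext fun v => (h v).symm)⟩
  rw [map_one, mul_one]
  exact hd

end Cfsg.Agent.SM.Oo.Spin
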